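import Cfsg.Agent.H29.Three

/-! `S₄`-free simple groups: the Goldschmidt alternative (`gold_of_free`), minimal simple `S₄`-free groups
(`ms_of_free`: strongly embedded subgroup or `PSL₂`), `psl_of_abel`. -/

set_option autoImplicit false

namespace H29
open Subgroup Cfsg H18
open scoped MatrixGroups
universe u
variable {G : Type u} [Group G] [Finite G]

theorem gold_of_free [IsSimpleGroup G] (hna : ¬ IsMulCommutative G) (hf : ¬ Involves (Equiv.Perm (Fin 4)) G)
    (hs : ∀ (K R : Subgroup G) [(R.subgroupOf K).Normal], K ≠ ⊤ →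
      IsCompositionKGroupWith IsSuzukiOrPSL2OddPowerThree (K ⧸ R.subgroupOf K)) (S : Sylow 2 G) :
    (∃ H : Subgroup G, IsStronglyEmbedded H) ∨
      Elem 2 (S : Subgroup G) ∧ (Nat.card (S : Subgroup G) = 4 ∨ Nat.card (S : Subgroup G) = 8) := by
  have : Fact (Nat.Prime 2) := ⟨Nat.prime_two⟩
  have ns : ¬ Group.IsSolvable G := H27.not_solvable_of_simple hna
  have S1 : (S : Subgroup G) ≠ ⊥ := fun h => ns (Cfsg.Agent.S0205.result (by
    have := S.not_dvd_index
    rw [h, index_bot] at this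
    exact Nat.odd_iff.2 (by omega)))
  obtain ⟨h1, h2, h4, -⟩ := Cfsg.Agent.S2796.result (G := G) hf (fun K R _ hc => by
    by_cases e : K = ⊤
    swap
    · exact hs K R e
    subst e
    intro H _ N _ s na
    have : Nontrivial H := (QuotientGroup.mk_surjective (s := N)).nontrivial
    have : Nontrivial ((⊤ : Subgroup G) ⧸ R.subgroupOf ⊤) := H.subtype_injective.nontrivial
    obtain ⟨f⟩ := H27.equiv_of_simple (topEquiv (G := G)) (QuotientGroup.mk'_surjective (R.subgroupOf ⊤))
    have := f.isSimpleGroup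
    have hp := H17.pCore_isPGroup (G := (⊤ : Subgroup G) ⧸ R.subgroupOf ⊤) 2
    obtain a | a := (inferInstance : (pCore 2 ((⊤ : Subgroup G) ⧸ R.subgroupOf ⊤)).Normal).eq_bot_or_eq_top
    · rw [a] at hc
      exact (bot_ne_top (α := Subgroup ((⊤ : Subgroup G) ⧸ R.subgroupOf ⊤)) (top_le_iff.1 fun x _ => hc fun y hy => by
        rw [SetLike.mem_coe, mem_bot] at hy; simp [hy])).elim
    · rw [a] at hp
      have := (hp.of_equiv (topEquiv.trans f)).isNilpotent
      exact (ns inferInstance).elim) S _ rfl _ rfl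
  refine H4.Gs.goldschmidt (G := G) (fun a => hna ⟨⟨fun x y => a (mem_top y) x (mem_top x)⟩⟩)
    (H17.isSyl_sylow S) (fun a => ?_) (abel_iff.2 h2.1) h4
  have : Nontrivial (S : Subgroup G) := (nontrivial_iff_ne_bot _).2 S1
  have := S.isPGroup'.center_nontrivial
  obtain ⟨z, hz⟩ := exists_prime_orderOf_dvd_card' (G := center (S : Subgroup G)) 2 (by
    obtain ⟨k, hk, e⟩ := (S.isPGroup'.to_subgroup (center _)).nontrivial_iff_card.1 inferInstance
    exact e ▸ dvd_pow_self 2 hk.ne')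
  have zo : orderOf (z.1.1 : G) = 2 := by rw [orderOf_coe, orderOf_coe, hz]
  have zm : z.1.1 ∈ omegaOne 2 ((S : Subgroup G) ⊓ centralizer ((S : Subgroup G) : Set G)) :=
    Subgroup.subset_closure ⟨⟨z.1.2, fun g hg => congrArg Subtype.val (mem_center_iff.1 z.2 ⟨g, hg⟩)⟩,
      orderOf_dvd_iff_pow_eq_one.1 zo.dvd⟩
  have zN : z.1.1 ∈ normalizer (thompsonSubgroupOf 2 (S : Subgroup G) : Set G) := H4.le_normalizer_thompsonOf 2 _ z.1.2
  have : z.1.1 ∈ (⊥ : Subgroup G) := a ▸ ⟨⟨_, zN⟩, subset_normalClosure zm, rfl⟩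
  rw [mem_bot.1 this] at zo
  simp at zo

/-- a simple group with abelian Sylow `2`-subgroups and solvable centralizers of involutions -/
theorem psl_of_abel [IsSimpleGroup G] (hna : ¬ IsMulCommutative G) (S : Sylow 2 G) (hS : Abel (S : Subgroup G))
    (hC : ∀ t : G, orderOf t = 2 → Solv C1(t)) :
    ∃ (F : Type) (_ : Field F) (_ : Fintype F), 4 ≤ Fintype.card F ∧ Nonempty (G ≃* PSL(2, F)) := by
  obtain h | ⟨F, _, _, hF, N, n, ⟨f⟩, -⟩ := Cfsg.Agent.S3188.result S hS.comm hC
  · exact absurd h (H27.not_solvable_of_simple hna)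
  have : Nontrivial PSL(2, F) := Finite.one_lt_card_iff_nontrivial.1
    ((by norm_num : 1 < 3).trans_le (Nat.le_of_dvd Nat.card_pos three_dvd_psl))
  have : Nontrivial N := f.toEquiv.nontrivial
  have : Nontrivial (G ⧸ oddCore G) := N.subtype_injective.nontrivial
  obtain ⟨e⟩ := H27.equiv_of_simple (MulEquiv.refl G) (QuotientGroup.mk'_surjective (oddCore G))
  have := e.isSimpleGroup
  obtain rfl : N = ⊤ := n.eq_bot_or_eq_top.resolve_left ((nontrivial_iff_ne_bot _).1 inferInstance)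
  refine ⟨F, _, inferInstance, ?_, ⟨e.symm.trans (topEquiv.symm.trans f)⟩⟩
  obtain h | ⟨n, hn, h⟩ := hF
  · omega
  · exact h ▸ Nat.pow_le_pow_right two_pos hn

theorem ms_of_free (h : IsMinimalSimple G) (hf : ¬ Involves (Equiv.Perm (Fin 4)) G) :
    (∃ H : Subgroup G, IsStronglyEmbedded H) ∨
      ∃ (F : Type) (_ : Field F) (_ : Fintype F), 4 ≤ Fintype.card F ∧ Nonempty (G ≃* PSL(2, F)) := by
  have := h.1
  have : Fact (Nat.Prime 2) := ⟨Nat.prime_two⟩
  obtain ⟨S⟩ : Nonempty (Sylow 2 G) := inferInstance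
  refine (gold_of_free h.2.1 hf (fun K R _ e H _ N _ s na => ?_) S).imp id fun a =>
    psl_of_abel h.2.1 S a.1.abel fun t ht => h.2.2 _ fun a => ?_
  · have := h.2.2 K e
    exact (H27.not_solvable_of_simple na inferInstance).elim
  · have : t ∈ center G := mem_center_iff.2 fun g => (mem_centralizer_singleton_iff.1 (a ▸ mem_top g))
    rw [H27.center_eq_bot_of_simple h.2.1, mem_bot] at this
    simp [this] at ht

end H29
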