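import Cfsg.Agent.H1.Harv3

/-! `π`-homogeneous groups: sections with closed kernel (`Homog.sec`, `lift_pi`), induction along composition series
(`closed_ind`), real elements (`Homog.cent`, `Homog.not_real`). -/

set_option autoImplicit false

namespace H29
open Subgroup Cfsg H18 H1
universe u
variable {G : Type u} [Group G] [Finite G] {S : Type*} [Group S] [Finite S] {σ : Set ℕ} {D : Subgroup G} {f : D →* S}

/-- the `σ`-elements of `K` form a subgroup -/
abbrev Clo (σ : Set ℕ) (K : Subgroup G) : Prop := Hall σ O[σ](K) K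

omit [Finite S] in
theorem clo_mpre (hf : mim f D = ⊤) (hk : Clo σ (mker f)) {U : Subgroup S} (hU : PiGrp σᶜ U) : Clo σ (mpre f U) :=
  closed_ext' (nml_mker.of_le mker_le_mpre mpre_le) hk (by rwa [← card_mim mpre_le, mim_mpre (hf ▸ le_top)])

omit [Finite S] in
/-- `σ'`-subgroups lift along a surjection with `σ`-closed kernel -/
theorem lift_pi (hf : mim f D = ⊤) (hk : Clo σ (mker f)) {U : Subgroup S} (hU : PiGrp σᶜ U) :
    ∃ L, Hall σᶜ L (mpre f U) ∧ mim f L = U := by
  obtain ⟨L, hL⟩ := (clo_mpre hf hk hU).exists_compl pcore_nml.norm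
  have := hL.mim (f := f) mpre_le
  rw [mim_mpre (hf ▸ le_top)] at this
  have _ : Finite S := Finite.of_equiv _ ((MulEquiv.subgroupCongr hf).trans topEquiv).toEquiv
  exact ⟨L, hL, this.eq_self hU⟩

theorem Homog.sec (hh : Homog σ G) (hf : mim f D = ⊤) (hk : Clo σ (mker f)) : Homog σ S := by
  intro U h1 hU
  obtain ⟨L, hL, e⟩ := lift_pi hf hk hU
  have n : mpre f U ⊴ mpre f N(U) := nml_N.mpre
  have fr := congrArg (mim f) ((piSep_of_closed (clo_mpre hf hk hU)).compl.frattini_arg n hL)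
  have l : L ≤ mpre f N(U) ⊓ N(L) := le_inf (hL.le.trans n.le) le_N
  rw [mim_sup mpre_le (inf_le_left.trans mpre_le), mim_mpre (hf ▸ le_top), mim_mpre (hf ▸ le_top),
    sup_eq_right.2 (e.ge.trans (mim_mono l))] at fr
  have c : mim f (mpre f N(U) ⊓ N(L) ⊓ C(L)) ≤ C(U) := e ▸ mim_cent inf_le_right
  have l1 : L ≠ ⊥ := fun a => h1 (by rw [← e, a, mim_bot])
  have d1 := relIndex_dvd_left (H := mim f (mpre f N(U) ⊓ N(L))) c
  have d2 := relIndex_mim_dvd (f := f) (inf_le_left : mpre f N(U) ⊓ N(L) ⊓ C(L) ≤ _) (inf_le_left.trans mpre_le)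
  have d3 : C(L).relIndex (mpre f N(U) ⊓ N(L)) ∣ C(L).relIndex N(L) := nml_C_N.relIndex_dvd inf_le_right
  rw [relIndex_inf_left] at d2
  have := (d1.trans d2).trans d3
  rw [fr] at this
  exact (hh L l1 hL.pi).of_dvd this

theorem Homog.cent (hh : Homog σ G) {U : Subgroup G} (hU : PiGrp σᶜ U) {t : G} (ht : PiElt σ t) (hn : t ∈ N(U)) :
    t ∈ C(U) := by
  by_cases e : U = ⊥
  · simp [e]
  · exact ht.mem_of_nml hn nml_C_N (hh U e hU)

theorem Homog.not_real (hh : Homog σ G) {x t : G} (hx : PiElt σᶜ x) (ht : PiElt σ t) (h : t * x * t⁻¹ = x⁻¹) :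
    x⁻¹ = x := by
  have := Homog.cent hh hx.zpowers ht (mem_N_iff_cj.2 (by rw [cj_zpowers, h, zpowers_inv]))
  rw [C_zpowers] at this
  rw [← h, conj_eq_self_of_C1 this]

theorem exists_simple_quot {M : Subgroup G} (h : M ≠ ⊥) :
    ∃ (N : Subgroup M) (_ : N.Normal), IsSimpleGroup (M ⧸ N) := by
  have : Nontrivial M := (nontrivial_iff_ne_bot _).2 h
  obtain ⟨N, -, ⟨n, h1⟩, mx⟩ := exists_maximal_sub (fun N : Subgroup M => N.Normal ∧ N ≠ ⊤) (A := ⊥)
    ⟨inferInstance, bot_ne_top⟩
  have : Nontrivial (M ⧸ N) := QuotientGroup.nontrivial_iff.2 h1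
  have s := QuotientGroup.mk'_surjective N
  refine ⟨N, n, ⟨fun K _ => ?_⟩⟩
  rw [← map_comap_eq_self_of_surjective s K]
  by_cases e : K.comap (QuotientGroup.mk' N) = ⊤
  · exact .inr (by rw [e, map_top_of_surjective _ s])
  · exact .inl (by rw [mx _ ⟨inferInstance, e⟩ (QuotientGroup.le_comap_mk' N K), QuotientGroup.map_mk'_self])

omit [Finite G] in
theorem mim_mk' (N : Subgroup D) [N.Normal] : mim (QuotientGroup.mk' N) D = ⊤ := by
  rw [mim, subgroupOf_self, map_top_of_surjective _ (QuotientGroup.mk'_surjective N)]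

/-- induction along composition series -/
theorem closed_ind (hh : Homog σ G) (P : Subgroup G → Prop) (hP : ∀ K M, P M → K ⊴ M → P K)
    (hs : ∀ (D : Subgroup G) (S : Type u) [Group S] [Finite S] [IsSimpleGroup S] (f : D →* S), P D → mim f D = ⊤ →
      Clo σ (mker f) → Homog σ S → ¬ IsMulCommutative S → PiNat σ (Nat.card S) ∨ PiNat σᶜ (Nat.card S))
    (M : Subgroup G) : P M → Clo σ M := by
  induction M using H18.card_induction with | _ M ih
  intro p
  by_cases e : M = ⊥
  · subst e; rw [Clo, pcore_eq_self .bot]; exact hall_self .bot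
  obtain ⟨N, _, s⟩ := exists_simple_quot e
  have hf := mim_mk' N
  have c : (mker (QuotientGroup.mk' N)).relIndex M = Nat.card (M ⧸ N) := by rw [← card_mim le_rfl, hf, card_top]
  have k : Clo σ (mker (QuotientGroup.mk' N)) := ih _ (card_lt (lt_of_le_of_ne mker_le fun a => by
    rw [a, relIndex_self] at c
    exact (Finite.one_lt_card (α := M ⧸ N)).ne c)) (hP _ _ p nml_mker)
  have : PiNat σ (Nat.card (M ⧸ N)) ∨ PiNat σᶜ (Nat.card (M ⧸ N)) := by
    by_cases a : IsMulCommutative (M ⧸ N)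
    · have q : (Nat.card (M ⧸ N)).Prime := by
        let _ : CommGroup (M ⧸ N) := { (inferInstance : Group (M ⧸ N)) with mul_comm := a.1.1 }
        exact IsSimpleGroup.prime_card
      rw [piNat_prime q, piNat_prime q]
      exact em _
    · exact hs M _ _ p hf k (Homog.sec hh hf k) a
  exact this.elim (fun a => closed_ext hh nml_mker k (c ▸ a)) fun a => closed_ext' nml_mker k (c ▸ a)

end H29
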