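import Mathlib
import Cfsg.Agent.H9.SylowBasic

/-! Small general lemmas on indices and transitive actions: coprime indices (`relIndex_eq_index_of_coprime`),
orbit sizes of subgroups (`card_orbit_subgroup`), subgroups of index coprime to the degree are transitive
(`exists_smul_eq_of_coprime`), an element fixing a point and commuting with a transitive subgroup is trivial. -/

namespace H29

open MulAction

variable {G : Type*} [Group G]

theorem relIndex_eq_index_of_coprime [Finite G] {H K : Subgroup G} (h : H.index.Coprime K.index) :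
    K.relIndex H = K.index := by
  have h1 : K.relIndex H * H.index = (K ⊓ H).index := by
    rw [← Subgroup.inf_relIndex_right, Subgroup.relIndex_mul_index inf_le_right]
  have h2 : K.index ∣ (K ⊓ H).index := Subgroup.index_dvd_of_le inf_le_left
  have h3 : K.index ∣ K.relIndex H := by
    rw [← h1] at h2
    exact h.symm.dvd_of_dvd_mul_right h2
  have h4 : K.relIndex H ≤ K.index := by
    rw [← Subgroup.relIndex_top_right]
    apply Subgroup.relIndex_le_of_le_right le_top
    rw [Subgroup.relIndex_top_right]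
    exact Subgroup.index_ne_zero_of_finite
  have h5 : K.relIndex H ≠ 0 := Subgroup.index_ne_zero_of_finite
  exact le_antisymm h4 (Nat.le_of_dvd (Nat.pos_of_ne_zero h5) h3)

variable {Ω : Type*} [MulAction G Ω]

theorem stabilizer_subgroup_eq (H : Subgroup G) (ω : Ω) :
    stabilizer H ω = (stabilizer G ω).subgroupOf H := by
  ext x; rfl

theorem card_orbit_eq_index (ω : Ω) : Nat.card (orbit G ω) = (stabilizer G ω).index := by
  rw [index_stabilizer, Nat.card_coe_set_eq]

theorem card_orbit_subgroup (H : Subgroup G) (ω : Ω) :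
    Nat.card (orbit H ω) = (stabilizer G ω).relIndex H := by
  rw [card_orbit_eq_index, stabilizer_subgroup_eq]; rfl

theorem exists_smul_eq_of_coprime [Finite G] [Finite Ω] [IsPretransitive G Ω] {H : Subgroup G}
    (h : H.index.Coprime (Nat.card Ω)) (a b : Ω) : ∃ x ∈ H, x • a = b := by
  have h1 : Nat.card (orbit H a) = Nat.card Ω := by
    rw [card_orbit_subgroup, relIndex_eq_index_of_coprime, index_stabilizer_of_transitive]
    rwa [index_stabilizer_of_transitive]
  have h2 : orbit H a = Set.univ := by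
    apply Set.eq_of_subset_of_ncard_le (Set.subset_univ _) _ (Set.toFinite _)
    rw [Set.ncard_univ, ← h1, Nat.card_coe_set_eq]
  have : b ∈ orbit H a := by rw [h2]; trivial
  obtain ⟨x, hx⟩ := this
  exact ⟨x, x.2, hx⟩

theorem eq_one_of_commute_of_transitive [FaithfulSMul G Ω] {H : Subgroup G} {z : G} {ω : Ω}
    (htr : ∀ b : Ω, ∃ x ∈ H, x • ω = b) (hz : ∀ x ∈ H, x * z = z * x) (hω : z • ω = ω) : z = 1 := by
  apply FaithfulSMul.eq_of_smul_eq_smul (α := Ω)
  intro b
  obtain ⟨x, hx, rfl⟩ := htr b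
  rw [one_smul, ← mul_smul, ← hz x hx, mul_smul, hω]

theorem mem_stabilizer_smul_iff {g x : G} {ω : Ω} :
    x ∈ stabilizer G (g • ω) ↔ g⁻¹ * x * g ∈ stabilizer G ω := by
  simp only [mem_stabilizer_iff, mul_smul, inv_smul_eq_iff]

theorem exists_orderOf_prime_mem [Finite G] {H : Subgroup G} (h : H ≠ ⊥) :
    ∃ x ∈ H, (orderOf x).Prime := by
  have h1 : Nat.card H ≠ 1 := by rwa [Ne, Subgroup.card_eq_one]
  obtain ⟨p, hp, hd⟩ := Nat.exists_prime_and_dvd h1
  haveI := Fact.mk hp
  obtain ⟨x, hx⟩ := exists_prime_orderOf_dvd_card' p hd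
  exact ⟨x, x.2, by rw [Subgroup.orderOf_coe, hx]; exact hp⟩

theorem exists_orderOf_eq_mem [Finite G] {H : Subgroup G} {p : ℕ} (hp : p.Prime) (h : p ∣ Nat.card H) :
    ∃ x ∈ H, orderOf x = p := by
  haveI := Fact.mk hp
  obtain ⟨x, hx⟩ := exists_prime_orderOf_dvd_card' p h
  exact ⟨x, x.2, by rw [Subgroup.orderOf_coe, hx]⟩

/-- a nontrivial finite `p`-subgroup has a central element of order `p`. -/
theorem exists_central_orderOf [Finite G] {p : ℕ} (hp : p.Prime) {P : Subgroup G} (hP : IsPGroup p P)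
    (h : P ≠ ⊥) : ∃ z ∈ P, orderOf z = p ∧ ∀ x ∈ P, x * z = z * x := by
  haveI := Fact.mk hp
  haveI : Nontrivial P := (Subgroup.nontrivial_iff_ne_bot _).mpr h
  have hZ : Nontrivial (Subgroup.center P) := hP.center_nontrivial
  have hZp : IsPGroup p (Subgroup.center P) := hP.to_subgroup _
  have hdvd : p ∣ Nat.card (Subgroup.center P) := by
    rcases hZp.card_eq_or_dvd with h1 | h1
    · have := Finite.one_lt_card (α := Subgroup.center P); omega
    · exact h1
  obtain ⟨z, hz, hzo⟩ := exists_orderOf_eq_mem hp hdvd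
  refine ⟨z, z.2, by rw [Subgroup.orderOf_coe, hzo], fun x hx => ?_⟩
  exact congrArg Subtype.val (Subgroup.mem_center_iff.mp hz ⟨x, hx⟩)

/-- a `p`-subgroup of `H` lies in a Sylow `p`-subgroup of `H` (ambient form). -/
theorem exists_sylow_in [Finite G] {p : ℕ} [Fact p.Prime] {A H : Subgroup G} (hA : IsPGroup p A) (hAH : A ≤ H) :
    ∃ P : Subgroup G, A ≤ P ∧ P ≤ H ∧ IsPGroup p P ∧ ¬ p ∣ P.relIndex H := by
  obtain ⟨Q, hQ⟩ := (hA.comap_subtype (K := H)).exists_le_sylow
  refine ⟨(Q : Subgroup H).map H.subtype, fun a ha => ⟨⟨a, hAH ha⟩, hQ ha, rfl⟩, Subgroup.map_subtype_le _,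
    Q.isPGroup'.map _, ?_⟩
  have : ((Q : Subgroup H).map H.subtype).subgroupOf H = Q := Subgroup.comap_map_eq_self_of_injective H.subtype_injective _
  rw [Subgroup.relIndex, this]
  exact Q.not_dvd_index

theorem dvd_relIndex_of_lt [Finite G] {p : ℕ} [Fact p.Prime] {P Q H : Subgroup G} (hQ : IsPGroup p Q) (h : P < Q)
    (hQH : Q ≤ H) : p ∣ P.relIndex H := by
  rw [← Subgroup.relIndex_mul_relIndex P Q H h.le hQH]
  apply Dvd.dvd.mul_right
  obtain ⟨n, hn⟩ := hQ.index (P.subgroupOf Q)
  rw [Subgroup.relIndex, hn]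
  apply dvd_pow_self
  rintro rfl
  rw [pow_zero, Subgroup.index_eq_one, Subgroup.subgroupOf_eq_top] at hn
  exact h.not_ge hn

/-- a `p`-subgroup that is not Sylow in `H` is normalised by a `p`-element of `H` outside it. -/
theorem exists_normalizer_of_dvd_relIndex [Finite G] {p : ℕ} [Fact p.Prime] {P H : Subgroup G} (hP : IsPGroup p P)
    (hPH : P ≤ H) (h : p ∣ P.relIndex H) :
    ∃ Q : Subgroup G, P < Q ∧ Q ≤ H ∧ IsPGroup p Q ∧ Q ≤ Subgroup.normalizer (P : Set G) := by
  obtain ⟨Q, h1, h2, h3, h4⟩ := exists_sylow_in hP hPH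
  have hlt : P < Q := lt_of_le_of_ne h1 (by rintro rfl; exact h4 h)
  obtain ⟨g, hg, hgP, hgN⟩ := H9.exists_mem_normalizer_of_lt h3 hlt
  refine ⟨Q ⊓ Subgroup.normalizer (P : Set G), lt_of_le_of_ne (le_inf h1 Subgroup.le_normalizer) ?_,
    inf_le_left.trans h2, h3.to_inf_left, inf_le_right⟩
  intro he
  apply hgP
  rw [he]; exact ⟨hg, hgN⟩

/-- Sylow's second theorem in ambient form. -/
theorem exists_conj_le_of_not_dvd_relIndex [Finite G] {p : ℕ} [Fact p.Prime] {A P H : Subgroup G}
    (hA : IsPGroup p A) (hAH : A ≤ H) (hP : IsPGroup p P) (hPH : P ≤ H) (h : ¬ p ∣ P.relIndex H) :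
    ∃ g ∈ H, ∀ x ∈ A, g * x * g⁻¹ ∈ P := by
  obtain ⟨g, hg, h2⟩ := H9.exists_conj_le_sylow_sub hA hAH ((hP.comap_subtype (K := H)).toSylow h)
  refine ⟨g, hg, fun x hx => ?_⟩
  obtain ⟨y, hy, hye⟩ := h2 x hx
  rw [← hye]; exact hy

/-- a subgroup acting freely on an invariant finite set has order dividing its size. -/
theorem card_dvd_of_free (H : Subgroup G) (S : Set Ω) (hS : ∀ h ∈ H, ∀ s ∈ S, h • s ∈ S)
    (hfree : ∀ h ∈ H, ∀ s ∈ S, h • s = s → h = 1) : Nat.card H ∣ Nat.card S := by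
  let T : SubMulAction H Ω := ⟨S, fun h {s} hs => hS h h.2 s hs⟩
  have e := MulAction.selfEquivOrbitsQuotientProd (G := H) (X := T) (fun b => by
    rw [eq_bot_iff]
    intro h hh
    rw [Subgroup.mem_bot]
    exact Subtype.ext (hfree h h.2 b b.2 (congrArg Subtype.val hh)))
  have := Nat.card_congr e
  rw [Nat.card_prod] at this
  exact ⟨_, by rw [mul_comm]; exact this⟩

/-- Burnside's lemma with `Nat.card`. -/
theorem sum_card_fixedBy [Fintype G] [Finite Ω] :
    ∑ g : G, Nat.card (fixedBy Ω g) = Nat.card (orbitRel.Quotient G Ω) * Nat.card G := by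
  classical
  haveI : Fintype Ω := Fintype.ofFinite Ω
  haveI : Fintype (Quotient (orbitRel G Ω)) := Fintype.ofFinite _
  have := MulAction.sum_card_fixedBy_eq_card_orbits_mul_card_group G Ω
  simp only [Nat.card_eq_fintype_card]
  rw [this]

end H29
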