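import Cfsg.Agent.H29.RatB

/-! Bridge from rational structures to `Cfsg.Geo.subfieldSubgroup`: `basisOf P`,
`mem_subfieldSubgroup_iff`, `isMaximalIn_rat`, and rescaling of forms (`scale`, `EGL_scale`). -/

set_option autoImplicit false
set_option linter.unusedSectionVars false

namespace H29

open Module H11 H11.PForm Matrix

variable {F : Type*} [Field F] {σ : F →+* F} {P : FParam σ} {ι : Type} [Fintype ι] [DecidableEq ι]

/-- the basis formed by the columns of an invertible matrix -/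
noncomputable def basisOf (A : GL ι F) : Basis ι F (ι → F) := (Pi.basisFun F ι).map (glEquiv A)

theorem repr_basisOf (A : GL ι F) (x : ι → F) (i : ι) :
    (basisOf A).repr x i = (((A⁻¹ : GL ι F) : Matrix ι ι F) *ᵥ x) i := by
  have : (glEquiv A).symm x = ((A⁻¹ : GL ι F) : Matrix ι ι F) *ᵥ x := by
    rw [LinearEquiv.symm_apply_eq]
    simp [glEquiv_apply, mulVec_mulVec]
  simp [basisOf, this]

theorem mem_V0_basisOf {F₀ : Subfield F} {A : GL ι F} {x : ι → F} :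
    x ∈ V0 F₀ (basisOf A) ↔ ∀ i, (((A⁻¹ : GL ι F) : Matrix ι ι F) *ᵥ x) i ∈ F₀ := by
  simp only [mem_V0, repr_basisOf]

theorem mem_V0_basisOf' {F₀ : Subfield F} {A : GL ι F} {x : ι → F} :
    x ∈ V0 F₀ (basisOf A) ↔ ∃ u : ι → F, (∀ i, u i ∈ F₀) ∧ x = (A : Matrix ι ι F) *ᵥ u := by
  rw [mem_V0_basisOf]
  constructor
  · intro h
    exact ⟨_, h, by simp [mulVec_mulVec]⟩
  · rintro ⟨u, hu, rfl⟩
    simpa [mulVec_mulVec] using hu

theorem mulVec_mem_subfield {F₀ : Subfield F} {M : Matrix ι ι F} (hM : ∀ i j, M i j ∈ F₀)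
    {u : ι → F} (hu : ∀ i, u i ∈ F₀) (i : ι) : (M *ᵥ u) i ∈ F₀ :=
  F₀.sum_mem fun j _ => F₀.mul_mem (hM i j) (hu j)

theorem mem_subfieldSubgroup_iff {F₀ : Subfield F} {A g : GL ι F} :
    g ∈ Cfsg.Geo.subfieldSubgroup F₀ A ↔ ∃ c : F, c ≠ 0 ∧
      ∀ x ∈ V0 F₀ (basisOf A), c⁻¹ • ((g : Matrix ι ι F) *ᵥ x) ∈ V0 F₀ (basisOf A) := by
  constructor
  · rintro ⟨k, hk, rfl⟩
    obtain ⟨_, ⟨a, rfl⟩, s, hs, rfl⟩ := Subgroup.mem_sup_of_normal_right.1 hk
    obtain ⟨c, hc⟩ := (Cfsg.Geo.mem_scalars_iff s).1 hs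
    refine ⟨c, c.ne_zero, fun x hx => ?_⟩
    obtain ⟨u, hu, rfl⟩ := mem_V0_basisOf'.1 hx
    refine mem_V0_basisOf'.2 ⟨((Matrix.GeneralLinearGroup.map F₀.subtype a : GL ι F) :
      Matrix ι ι F) *ᵥ u, mulVec_mem_subfield (fun i j => (a.1 i j).2) hu, ?_⟩
    simp only [MulEquiv.coe_toMonoidHom, MulAut.conj_apply, Units.val_mul, hc, ← mulVec_mulVec]
    simp [mulVec_mulVec, mulVec_smul, smul_mulVec, smul_smul]
  · rintro ⟨c, hc, h⟩
    let s : GL ι F := Units.map (Matrix.scalar ι : F →+* Matrix ι ι F).toMonoidHom (Units.mk0 c hc)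
    have hs : (s : Matrix ι ι F) = c • (1 : Matrix ι ι F) := by
      simp [s, Matrix.smul_one_eq_diagonal]
    let k : GL ι F := A⁻¹ * g * A * s⁻¹
    have hks : (k : Matrix ι ι F) =
        c⁻¹ • (((A⁻¹ : GL ι F) : Matrix ι ι F) * (g : Matrix ι ι F) * (A : Matrix ι ι F)) := by
      rw [eq_inv_smul_iff₀ hc, ← Units.val_mul, ← Units.val_mul,
        show A⁻¹ * g * A = k * s by simp [k], Units.val_mul k s, hs, Matrix.mul_smul,
        Matrix.mul_one]
    have hk : ∀ i j, (k : Matrix ι ι F) i j ∈ F₀ := fun i j => by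
      have := mem_V0_basisOf.1 (h _ (mem_V0_basisOf'.2 ⟨Pi.single j 1, fun l => by
        by_cases hl : l = j
        · subst hl; simp
        · simp [hl], rfl⟩)) i
      convert this using 1
      rw [hks, mulVec_smul, mulVec_mulVec, mulVec_mulVec, mulVec_single_one]
      rfl
    let M₀ : Matrix ι ι F₀ := fun i j => ⟨_, hk i j⟩
    have hM : F₀.subtype.mapMatrix M₀ = (k : Matrix ι ι F) := rfl
    have hdet : M₀.det ≠ 0 := by
      intro h0
      have := F₀.subtype.map_det M₀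
      rw [h0, map_zero, hM] at this
      exact (Matrix.GeneralLinearGroup.det_ne_zero k) this.symm
    refine ⟨k * s, Subgroup.mul_mem_sup ⟨Matrix.GeneralLinearGroup.mkOfDetNeZero M₀ hdet, ?_⟩
      ⟨Units.mk0 c hc, rfl⟩, ?_⟩
    · exact Units.ext hM
    · simp [k, mul_assoc]

theorem isMaximalIn_rat [Finite F] {S : PForm P (ι → F)} (hS : S.Nondeg)
    (hn : 11 ≤ Fintype.card ι) {F₀ : Subfield F} {A : GL ι F} (R : Rat S F₀ (basisOf A))
    (hr : (finrank F₀ F).Prime)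
    (hc : finrank F₀ F = 2 ∨ P.Λ = ⊥ ∨ ((∃ a, a ≠ 0 ∧ a ∈ F₀ ∧ a ∈ P.Λ) ∧
      (σ = RingHom.id F ∨ ∃ θ ∈ F₀, σ θ ≠ θ))) :
    Cfsg.Geo.IsMaximalIn (EGL S) (Cfsg.Geo.subfieldSubgroup F₀ A ⊓ EGL S) := by
  have hn' : 11 ≤ finrank F (ι → F) := by simpa using hn
  refine isMaximalIn_EGL S _ ?_ fun H h1 _ => ?_
  · obtain ⟨g, hg, h⟩ := R.exists_E_irr hS (by omega) hr
    exact ⟨g, hg, fun h' => h (by simpa [mem_subfieldSubgroup_iff] using h')⟩
  · refine (R.final hS hn' hr hc fun u hu v hv a ha => h1 ⟨?_, S.eich_mem_E u v a⟩).imp_right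
      fun h g hg => ?_
    · exact mem_subfieldSubgroup_iff.2 ⟨1, one_ne_zero, fun x hx => by simpa using R.eich_mem hu hv ha hx⟩
    · rw [Subgroup.mem_comap, mem_subfieldSubgroup_iff]
      simpa using h g hg

/-- the rescaled form parameter -/
def scaleP (P : FParam σ) {ζ η : F} (hζ : ζ ≠ 0) (hη : σ ζ = η * ζ) (hη1 : σ η = η) :
    FParam σ where
  ε := P.ε * η
  Λ := P.Λ.comap (AddMonoidHom.mulLeft ζ⁻¹)
  σσ := P.σσ
  σε := by rw [map_mul, P.σε, hη1]
  εε := by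
    have h := P.σσ ζ
    rw [hη, map_mul, hη1, hη] at h
    have : η * η = 1 := mul_right_cancel₀ hζ (by linear_combination h)
    linear_combination η * η * P.εε + this
  sub_mem a := by
    have h := P.σσ ζ
    rw [hη, map_mul, hη1, hη] at h
    have h1 : η * η = 1 := mul_right_cancel₀ hζ (by linear_combination h)
    have hη0 : η ≠ 0 := by rintro rfl; simp at h1
    have := P.sub_mem (ζ⁻¹ * a)
    change ζ⁻¹ * _ ∈ P.Λ
    convert this using 1
    rw [map_mul, map_inv₀, hη]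
    field_simp
    linear_combination (-(P.ε * σ a)) * h1
  mem_imp a ha := by
    have h := P.σσ ζ
    rw [hη, map_mul, hη1, hη] at h
    have h1 : η * η = 1 := mul_right_cancel₀ hζ (by linear_combination h)
    have hη0 : η ≠ 0 := by rintro rfl; simp at h1
    have := P.mem_imp _ ha
    simp only [AddMonoidHom.coe_mulLeft, map_mul, map_inv₀, hη] at this
    field_simp at this
    linear_combination η * this + (-a) * h1
  conj_mem x a ha := by
    have := P.conj_mem x _ ha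
    change ζ⁻¹ * _ ∈ P.Λ
    convert this using 1
    simp only [AddMonoidHom.coe_mulLeft]
    ring

theorem mem_scaleP {ζ η : F} {hζ : ζ ≠ 0} {hη : σ ζ = η * ζ} {hη1 : σ η = η} {a : F} :
    a ∈ (scaleP P hζ hη hη1).Λ ↔ ζ⁻¹ * a ∈ P.Λ := Iff.rfl

theorem eta_sq (P : FParam σ) {ζ η : F} (hζ : ζ ≠ 0) (hη : σ ζ = η * ζ) (hη1 : σ η = η) :
    η * η = 1 := by
  have h := P.σσ ζ
  rw [hη, map_mul, hη1, hη] at h
  exact mul_right_cancel₀ hζ (by linear_combination h)

/-- the rescaled form -/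
def scale {V : Type*} [AddCommGroup V] [Module F V] (S : PForm P V) {ζ η : F} (hζ : ζ ≠ 0)
    (hη : σ ζ = η * ζ) (hη1 : σ η = η) : PForm (scaleP P hζ hη hη1) V where
  h := ζ • S.h
  q x := ζ * S.q x
  symm x y := by
    change ζ * S.h y x = P.ε * η * σ (ζ * S.h x y)
    rw [S.symm, map_mul, hη]
    linear_combination (-(ζ * P.ε * σ (S.h x y))) * eta_sq P hζ hη hη1
  q_add x y := by
    rw [mem_scaleP]
    convert S.q_add x y using 1
    change ζ⁻¹ * (_ - (_ + _ + ζ * S.h x y)) = _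
    field_simp
  q_smul a x := by
    rw [mem_scaleP]
    convert S.q_smul a x using 1
    field_simp
  h_self x := by
    change ζ * S.h x x = ζ * S.q x + P.ε * η * σ (ζ * S.q x)
    rw [S.h_self, map_mul, hη]
    linear_combination (-(ζ * P.ε * σ (S.q x))) * eta_sq P hζ hη hη1

section
variable {V : Type*} [AddCommGroup V] [Module F V] {S : PForm P V} {ζ η : F} {hζ : ζ ≠ 0}
  {hη : σ ζ = η * ζ} {hη1 : σ η = η}

theorem scale_h (x y : V) : (scale S hζ hη hη1).h x y = ζ * S.h x y := rfl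

theorem scale_q (x : V) : (scale S hζ hη hη1).q x = ζ * S.q x := rfl

theorem scale_nondeg (hS : S.Nondeg) : (scale S hζ hη hη1).Nondeg := fun x hx =>
  hS x fun y => (mul_eq_zero.1 (hx y)).resolve_left hζ

theorem scale_eich (u v : V) (a : F) :
    ((scale S hζ hη hη1).eich u v a).1 = (S.eich u (ζ • v) (η * ζ * a)).1 := by
  have h1 := eta_sq P hζ hη hη1
  have key : (scale S hζ hη hη1).ECond u v a ↔ S.ECond u (ζ • v) (η * ζ * a) := by
    have e1 : (scale S hζ hη hη1).Sing u ↔ S.Sing u := by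
      simp [PForm.Sing, mem_scaleP, scale_q, ← mul_assoc, hζ]
    have e2 : a - (scale S hζ hη hη1).q v ∈ (scaleP P hζ hη hη1).Λ ↔
        η * ζ * a - S.q (ζ • v) ∈ P.Λ := by
      rw [mem_scaleP, scale_q]
      constructor <;> intro h
      · convert P.Λ.sub_mem (P.conj_mem ζ _ h) (S.q_smul ζ v) using 1
        rw [hη]; field_simp; ring
      · have := P.conj_mem ζ⁻¹ _ (P.Λ.add_mem h (S.q_smul ζ v))
        convert this using 1
        have hη0 : η ≠ 0 := by rintro rfl; simp at h1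
        rw [map_inv₀, hη]; field_simp; ring
    exact ⟨fun h => ⟨e1.1 h.1, by simpa [scale_h, hζ] using h.2, e2.1 h.3⟩,
      fun h => ⟨e1.2 h.1, by simpa [scale_h, hζ] using h.2, e2.2 h.3⟩⟩
  by_cases h : S.ECond u (ζ • v) (η * ζ * a)
  · ext x
    rw [eich_apply h, eich_apply (key.2 h)]
    change x + (ζ * S.h u x) • v - (P.ε * η * (ζ * S.h v x + a * (ζ * S.h u x))) • u = _
    rw [S.h_smul_left, hη]
    module
  · rw [eich_junk h, eich_junk (fun h' => h (key.1 h'))]; rfl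

end

theorem EGL_eq_closure (S : PForm P (ι → F)) :
    EGL S = Subgroup.closure {g | ∃ u v a, g = glEquiv.symm (S.eich u v a).1} := by
  rw [EGL, PForm.E, MonoidHom.map_closure]
  congr 1
  ext g
  constructor
  · rintro ⟨_, ⟨u, v, a, rfl⟩, rfl⟩; exact ⟨u, v, a, rfl⟩
  · rintro ⟨u, v, a, rfl⟩; exact ⟨_, ⟨u, v, a, rfl⟩, rfl⟩

theorem EGL_scale (S : PForm P (ι → F)) {ζ η : F} (hζ : ζ ≠ 0) (hη : σ ζ = η * ζ)
    (hη1 : σ η = η) : EGL S = EGL (scale S hζ hη hη1) := by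
  have h1 := eta_sq P hζ hη hη1
  rw [EGL_eq_closure, EGL_eq_closure]
  congr 1
  ext g
  constructor
  · rintro ⟨u, v, a, rfl⟩
    refine ⟨u, ζ⁻¹ • v, η * ζ⁻¹ * a, ?_⟩
    rw [scale_eich, smul_smul, mul_inv_cancel₀ hζ, one_smul]
    congr 3
    field_simp
    linear_combination (-a) * h1
  · rintro ⟨u, v, a, rfl⟩
    exact ⟨u, _, _, by rw [scale_eich]⟩

theorem pow_card_mem {F₀ : Subfield F} {σ : F →+* F} {q : ℕ} (hq : ∀ x, σ x = x ^ q) {c : F}
    (hc : c ∈ F₀) : σ c ∈ F₀ := by rw [hq]; exact F₀.pow_mem hc q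

/-- a rational structure for a form whose singular vectors are the isotropic ones -/
theorem rat_of_h {V : Type*} [AddCommGroup V] [Module F V] {S : PForm P V} {F₀ : Subfield F}
    {b : Basis ι F V} (h1 : ∀ c ∈ F₀, σ c ∈ F₀)
    (h2 : ∀ x ∈ V0 F₀ b, ∀ y ∈ V0 F₀ b, S.h x y ∈ F₀) {θ : F} (hθ : θ ∈ F₀)
    (hθ1 : θ + σ θ = 1) (hΛ : ∀ a, a + P.ε * σ a = 0 → a ∈ P.Λ) : Rat S F₀ b := by
  refine ⟨h1, h2, fun x hx => ⟨θ * S.h x x, F₀.mul_mem hθ (h2 x hx x hx), hΛ _ ?_⟩⟩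
  have e1 := S.symm x x
  have e2 := S.h_self x
  rw [map_sub, map_mul]
  linear_combination S.h x x * hθ1 - σ θ * e1 + e2

theorem exists_σ_ne_of_odd [Finite F] {F₀ : Subfield F} {σ : F →+* F} (hσ : ∀ a, σ (σ a) = a)
    (hne : σ ≠ RingHom.id F) (ho : Odd (finrank F₀ F)) : ∃ θ ∈ F₀, σ θ ≠ θ := by
  by_contra hc
  push Not at hc
  let e : F ≃ₐ[F₀] F := AlgEquiv.ofBijective
    { σ with commutes' := fun c => hc c c.2 } (Function.Involutive.bijective hσ)
  have h1 : orderOf e = 2 := orderOf_eq_prime (by ext x; exact hσ x)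
    (fun h => hne (RingHom.ext fun x => congrArg (fun f : F ≃ₐ[F₀] F => f x) h))
  have h2 := orderOf_dvd_natCard e
  rw [h1, IsGalois.card_aut_eq_finrank] at h2
  exact (Nat.not_even_iff_odd.2 ho) (even_iff_two_dvd.2 h2)

theorem σ_eq_of_two [Finite F] {F₀ : Subfield F} {σ : F →+* F} {q : ℕ} (hq : ∀ x, σ x = x ^ q)
    (hF : Nat.card F = q ^ 2) (h : Nat.card F = Nat.card F₀ ^ 2) {c : F} (hc : c ∈ F₀) :
    σ c = c := by
  have := Fintype.ofFinite F₀
  have h1 : q = Fintype.card F₀ := by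
    rw [hF, Nat.card_eq_fintype_card] at h
    exact Nat.pow_left_injective two_ne_zero h
  have := congrArg Subtype.val (FiniteField.pow_card (⟨c, hc⟩ : F₀))
  rw [hq, h1]
  simpa using this

end H29
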