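import Cfsg.Agent.H29.As2
import Cfsg.Agent.H29.RatC

/-! Aschbacher's theorem, part 3 (no forms): `struct_cases` (Clifford theory), `idem_or_field`,
`dec_of_idem` (imprimitivity), `exists_subfield_alg` (extension fields of prime degree),
`exists_rat` / `scalar_rat` (subfield structures), `CaseC.exists_ten` (tensor powers). -/

set_option autoImplicit false
set_option linter.unusedSectionVars false

namespace H29

open Matrix Cfsg.Geo Module
open scoped Kronecker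

variable {F : Type*} [Field F] {ι : Type} [Fintype ι] [DecidableEq ι]

/-- the centre of a subalgebra -/
def cenA (A : Subalgebra F (Matrix ι ι F)) : Subalgebra F (Matrix ι ι F) :=
  A ⊓ Subalgebra.centralizer F A

theorem mem_cenA {A : Subalgebra F (Matrix ι ι F)} {x : Matrix ι ι F} :
    x ∈ cenA A ↔ x ∈ A ∧ ∀ y ∈ A, y * x = x * y := Iff.rfl

theorem NmlA.cenA {H : Subgroup (GL ι F)} {A : Subalgebra F (Matrix ι ι F)} (h : NmlA H A) :
    NmlA H (cenA A) := fun g hg x hx => mem_cenA.2 ⟨h g hg x hx.1, fun y hy => by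
  rw [← cjA_cjA_inv g y, ← map_mul, ← map_mul, (mem_cenA.1 hx).2 _ (h g⁻¹ (H.inv_mem hg) y hy)]⟩

theorem cenA_comm {A : Subalgebra F (Matrix ι ι F)} :
    ∀ x ∈ cenA A, ∀ y ∈ cenA A, x * y = y * x := fun x hx _ hy => (mem_cenA.1 hy).2 x hx.1

theorem struct_cases [Finite F] [Nonempty ι] {H : Subgroup (GL ι F)} (hH : Irr H) :
    (∃ N ≤ H, Nml H N ∧ ∃ x ∈ cenA (env F N), ¬ Sc x) ∨
    (∃ N ≤ H, Nml H N ∧ ∃ d m, 2 ≤ d ∧ 2 ≤ m ∧ ∃ T : (Fin d × Fin m → F) ≃ₗ[F] (ι → F),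
      ∀ a, a ∈ env F N ↔ ∃ X, a = Φ T (X ⊗ₖ (1 : Matrix (Fin m) (Fin m) F))) ∨ Prim H := by
  refine or_iff_not_imp_left.2 fun h1 => or_iff_not_imp_right.2 fun h2 => ?_
  simp only [Prim, not_forall, not_or] at h2
  obtain ⟨N, hN, hn, hs, ht⟩ := h2
  push Not at h1
  haveI : Finite (env F N) := Subtype.finite
  obtain ⟨d, hd, ⟨e⟩⟩ := wedderburn (k := F) (R := env F N)
    (fun x hx => Subtype.ext (hH.eq_zero_of_nil hn.env x.2 fun y hy =>
      (hx ⟨y, hy⟩).map (env F N).val))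
    (fun x hx => by
      obtain ⟨c, hc⟩ := h1 N hN hn x (mem_cenA.2 ⟨x.2, fun y hy =>
        (congrArg Subtype.val (hx ⟨y, hy⟩)).symm⟩)
      exact ⟨c, Subtype.ext (hc.trans (Algebra.algebraMap_eq_smul_one c).symm)⟩)
  haveI : Nonempty (Fin d) := ⟨⟨0, hd⟩⟩
  obtain ⟨m, T, hT⟩ := exists_kron ((env F N).val.comp e.toAlgHom)
  have h : ∀ a, a ∈ env F N ↔ ∃ X, a = Φ T (X ⊗ₖ (1 : Matrix (Fin m) (Fin m) F)) := fun a =>
    ⟨fun ha => ⟨e.symm ⟨a, ha⟩, by rw [← hT]; simp⟩, fun ⟨X, hX⟩ => by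
      rw [hX, ← hT]; exact (e X).2⟩
  refine ⟨N, hN, hn, d, m, ?_, ?_, T, h⟩
  · by_contra hd2
    obtain rfl : d = 1 := by omega
    refine hs fun x hx => mem_scalars.2 ?_
    obtain ⟨X, hX⟩ := (h _).1 (coe_mem_env hx)
    refine ⟨X 0 0, ?_⟩
    rw [hX, ← map_one (Φ T), ← map_smul]
    congr 1
    ext ⟨a, i⟩ ⟨b, j⟩
    simp [Subsingleton.elim a 0, Subsingleton.elim b 0, Matrix.one_apply]
  · by_contra hm2
    have h0 : 0 < d * m := by
      have := finrank_pos (R := F) (M := ι → F)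
      rw [← T.finrank_eq] at this
      simpa only [finrank_fintype_fun_eq_card, Fintype.card_prod, Fintype.card_fin] using this
    obtain rfl : m = 1 := by
      rcases m with _ | m
      · simp at h0
      · omega
    refine ht (top_le_iff.1 fun a _ => (h a).2 ⟨of fun i j => (Φ T).symm a (i, 0) (j, 0), ?_⟩)
    rw [← AlgEquiv.symm_apply_eq]
    ext ⟨a, i⟩ ⟨b, j⟩
    simp [Subsingleton.elim i 0, Subsingleton.elim j 0]

theorem exists_pow_idem {M : Type*} [Monoid M] [Finite M] (x : M) :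
    ∃ n, x ^ (n + 1) * x ^ (n + 1) = x ^ (n + 1) := by
  obtain ⟨i, j, hij, h⟩ := not_injective_infinite_finite (fun n : ℕ => x ^ n) |>
    Function.not_injective_iff.1 |>.imp fun i h => h.imp fun j h => h.symm
  wlog hlt : i < j generalizing i j
  · exact this j i hij.symm h.symm (by omega)
  obtain ⟨d, rfl⟩ := Nat.exists_eq_add_of_lt hlt
  have : ∀ k, x ^ (i + k * (d + 1)) = x ^ i := fun k => by
    induction k with
    | zero => simp
    | succ k ih => rw [add_mul, one_mul, ← add_assoc, pow_add, ih, ← pow_add, ← add_assoc, ← h]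
  refine ⟨i * (d + 1) + d, ?_⟩
  rw [← pow_add, show i * (d + 1) + d + 1 + (i * (d + 1) + d + 1) =
    i + (i + 1) * (d + 1) + (i * d + d + 1) by ring, pow_add, this, ← pow_add]
  congr 1
  ring

theorem idem_or_field [Finite F] {H : Subgroup (GL ι F)} (hH : Irr H)
    {B : Subalgebra F (Matrix ι ι F)} (hB : NmlA H B) (hc : ∀ x ∈ B, ∀ y ∈ B, x * y = y * x) :
    (∃ e ∈ B, e * e = e ∧ e ≠ 0 ∧ e ≠ 1 ∧ ∀ f ∈ B, f * f = f → f * e = 0 ∨ f * e = e) ∨
      ∀ x ∈ B, x ≠ 0 → ∃ y ∈ B, x * y = 1 := by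
  refine or_iff_not_imp_right.2 fun h => ?_
  push Not at h
  obtain ⟨x, hx, hx0, hx1⟩ := h
  obtain ⟨n, hn⟩ := exists_pow_idem x
  obtain ⟨e, ⟨heB, he, he0, he1⟩, hmin⟩ := exists_minimalFor_of_wellFoundedLT
    (fun e : Matrix ι ι F => e ∈ B ∧ e * e = e ∧ e ≠ 0 ∧ e ≠ 1) (fun e => {y | e * y = y})
    ⟨x ^ (n + 1), pow_mem hx _, hn, fun h0 => hx0 (hH.eq_zero_of_nil hB hx fun y hy =>
      ⟨n + 1, by rw [(show Commute y x from hc y hy x hx).mul_pow, h0, mul_zero]⟩),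
      fun h1 => hx1 _ (pow_mem hx n) (by rw [← pow_succ', h1])⟩
  refine ⟨e, heB, he, he0, he1, fun f hf hff => or_iff_not_imp_left.2 fun h0 => ?_⟩
  have h2 : e * (f * e) = f * e := by rw [← mul_assoc, hc e heB f hf, mul_assoc, he]
  have := hmin (j := f * e) ⟨mul_mem hf heB, by rw [mul_assoc, h2, ← mul_assoc, hff], h0,
    fun h => he1 (by rwa [h, mul_one] at h2)⟩ (fun y (hy : f * e * y = y) =>
      show e * y = y by rw [← hy, ← mul_assoc, h2]) (show e * e = e from he)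
  rwa [Set.mem_setOf_eq, mul_assoc, he] at this

theorem orbit_idem {H : Subgroup (GL ι F)} {B : Subalgebra F (Matrix ι ι F)} (hB : NmlA H B)
    (hc : ∀ x ∈ B, ∀ y ∈ B, x * y = y * x) {e e' : Matrix ι ι F} (he : e ∈ B) (he' : e' ∈ B)
    (h1 : e * e = e) (h1' : e' * e' = e') (h2 : ∀ f ∈ B, f * f = f → f * e = 0 ∨ f * e = e)
    (h2' : ∀ f ∈ B, f * f = f → f * e' = 0 ∨ f * e' = e') {g : GL ι F} (hg : g ∈ H) :
    cjA g e = e' ∨ cjA g e * e' = 0 := by
  refine or_iff_not_imp_right.2 fun h0 => ?_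
  have h3 := (h2' _ (hB g hg e he) (by rw [← map_mul, h1])).resolve_left h0
  rcases h2 _ (hB g⁻¹ (H.inv_mem hg) e' he') (by rw [← map_mul, h1']) with h | h
  · have := congrArg (cjA g) h
    rw [map_mul, cjA_cjA_inv, map_zero, hc _ he' _ (hB g hg e he)] at this
    exact (h0 this).elim
  · have := congrArg (cjA g) h
    rw [map_mul, cjA_cjA_inv, hc _ he' _ (hB g hg e he), h3] at this
    exact this.symm

/-- the range of a matrix -/
abbrev rng (e : Matrix ι ι F) : Submodule F (ι → F) := LinearMap.range (toLin' e)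

theorem mem_rng {e : Matrix ι ι F} (he : e * e = e) {x : ι → F} : x ∈ rng e ↔ e *ᵥ x = x :=
  ⟨fun ⟨y, h⟩ => by rw [← h, toLin'_apply, mulVec_mulVec, he], fun h => ⟨x, h⟩⟩

theorem rng_cjA (g : GL ι F) (e : Matrix ι ι F) :
    rng (cjA g e) = (rng e).map (toLin' (g : Matrix ι ι F)) := by
  ext x
  constructor
  · rintro ⟨y, rfl⟩
    refine ⟨_, ⟨((g⁻¹ : GL ι F) : Matrix ι ι F) *ᵥ y, rfl⟩, ?_⟩
    simp only [toLin'_apply]
    rw [← cjA_mulVec, mulVec_inv_mulVec]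
  · rintro ⟨_, ⟨y, rfl⟩, rfl⟩
    exact ⟨_, cjA_mulVec g e y⟩

theorem dec_of_idem [Finite F] {H : Subgroup (GL ι F)} (hH : Irr H) {e : Matrix ι ι F}
    (he : e * e = e) (h0 : e ≠ 0) (h1 : e ≠ 1) (ho : ∀ g ∈ H, cjA g e = e ∨ cjA g e * e = 0) :
    ∃ (t : ℕ) (g : Fin t → GL ι F), (∀ i, g i ∈ H) ∧
      (∀ i j, i ≠ j → cjA (g i) e * cjA (g j) e = 0) ∧ ∑ i, cjA (g i) e = 1 ∧
      IsMDecomposition (finrank F (rng e)) (fun i => rng (cjA (g i) e)) ∧
      H ≤ decompositionStabilizer fun i => rng (cjA (g i) e) := by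
  classical
  let O : Set (Matrix ι ι F) := {f | ∃ g ∈ H, cjA g e = f}
  haveI := Fintype.ofFinite O
  let ε := (Fintype.equivFin O).symm
  choose g hg hge using fun i => (ε i).2
  have hid : ∀ g, cjA g e * cjA g e = cjA g e := fun g => by rw [← map_mul, he]
  have horth : ∀ i j, i ≠ j → cjA (g i) e * cjA (g j) e = 0 := fun i j hij => by
    rcases ho ((g j)⁻¹ * g i) (H.mul_mem (H.inv_mem (hg j)) (hg i)) with h | h
    · have := congrArg (cjA (g j)) h
      rw [cjA_mul, cjA_cjA_inv, hge, hge] at this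
      exact (hij (ε.injective (Subtype.ext this))).elim
    · have := congrArg (cjA (g j)) h
      rwa [map_mul, cjA_mul, cjA_cjA_inv, map_zero] at this
  have hperm : ∀ h ∈ H, ∀ i, ∃ j, cjA (h * g i) e = cjA (g j) e := fun h hh i =>
    ⟨ε.symm ⟨_, h * g i, H.mul_mem hh (hg i), rfl⟩, by rw [hge]; simp⟩
  have hmap : ∀ h ∈ H, ∀ i, ∃ j, ∀ x ∈ rng (cjA (g i) e),
      (h : Matrix ι ι F) *ᵥ x ∈ rng (cjA (g j) e) := fun h hh i => (hperm h hh i).imp
    fun j hj x hx => by rw [← hj, cjA_mul, rng_cjA]; exact ⟨x, hx, rfl⟩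
  obtain ⟨i₀, hi₀⟩ : ∃ i, cjA (g i) e = e := ⟨ε.symm ⟨e, 1, H.one_mem, cjA_one e⟩, by rw [hge]; simp⟩
  have hr0 : rng e ≠ ⊥ := fun h => h0 (toLin'.map_eq_zero_iff.1 (LinearMap.range_eq_bot.1 h))
  have htop : ⨆ i, rng (cjA (g i) e) = ⊤ := (hH _ fun h hh x hx => by
    induction hx using Submodule.iSup_induction' with
    | mem i x hx =>
      obtain ⟨j, hj⟩ := hmap h hh i
      exact Submodule.mem_iSup_of_mem j (hj x hx)
    | zero => simp
    | add x y _ _ h h' => rw [mulVec_add]; exact add_mem h h').resolve_left fun h =>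
      hr0 (by simpa [hi₀] using iSup_eq_bot.1 h i₀)
  have hk : ∀ i j, i ≠ j → ∀ x ∈ rng (cjA (g j) e), cjA (g i) e *ᵥ x = 0 := by
    rintro i j hij _ ⟨y, rfl⟩
    rw [toLin'_apply, mulVec_mulVec, horth i j hij, zero_mulVec]
  have hsum : ∑ i, cjA (g i) e = 1 := ext_mulVec fun x => by
    have hx : x ∈ ⨆ i, rng (cjA (g i) e) := htop ▸ Submodule.mem_top
    induction hx using Submodule.iSup_induction' with
    | mem i x hx =>
      rw [sum_mulVec, Finset.sum_eq_single i (fun j _ hj => hk j i hj x hx) (by simp),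
        (mem_rng (hid _)).1 hx, one_mulVec]
    | zero => simp
    | add x y _ _ h h' => rw [mulVec_add, mulVec_add, h, h']
  have hfr : ∀ i, finrank F (rng (cjA (g i) e)) = finrank F (rng e) := fun i => by
    rw [rng_cjA]
    exact LinearEquiv.finrank_map_eq (H11.glEquiv (g i)) _
  have hpos : 0 < finrank F (rng e) := by rwa [pos_iff_ne_zero, Ne, Submodule.finrank_eq_zero]
  have hind : iSupIndep fun i => rng (cjA (g i) e) := fun i =>
    Submodule.disjoint_def.2 fun x hx hx' => by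
      have : (⨆ j, ⨆ (_ : j ≠ i), rng (cjA (g j) e)) ≤ LinearMap.ker (toLin' (cjA (g i) e)) :=
        iSup₂_le fun j hj x hx => hk i j hj.symm x hx
      rw [← (mem_rng (hid _)).1 hx]
      exact this hx'
  refine ⟨_, g, hg, horth, hsum, ⟨?_, hpos, hfr, hind, htop⟩, fun h hh =>
    exists_perm_of_forall hpos hfr (fun i j hij => hind.pairwiseDisjoint hij) (H11.glEquiv h)
      (hmap h hh)⟩
  by_contra ht
  haveI : Subsingleton (Fin (Fintype.card O)) := Fin.subsingleton_iff_le_one.2 (by omega)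
  rw [Fintype.sum_subsingleton _ i₀, hi₀] at hsum
  exact h1 hsum

theorem exists_interField {k L : Type*} [Field k] [Fintype k] [Field L] [Algebra k L] [Finite L]
    {r s : ℕ} (h : finrank k L = r * s) : ∃ E : IntermediateField k L, finrank k E = r ∧
      finrank E L = s ∧ ∀ x, x ∈ E ↔ x ^ (Fintype.card k ^ r) = x := by
  let φ := FiniteField.frobeniusAlgEquivOfAlgebraic k L
  have h0 : 0 < r * s := h ▸ finrank_pos
  have h1 : finrank (IntermediateField.fixedField (Subgroup.zpowers (φ ^ r))) L = s := by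
    rw [IntermediateField.finrank_fixedField_eq_card, Nat.card_zpowers, orderOf_pow' _
      (Nat.pos_of_mul_pos_right h0).ne', FiniteField.orderOf_frobeniusAlgEquivOfAlgebraic, h,
      Nat.gcd_mul_right_left, Nat.mul_div_cancel_left _ (Nat.pos_of_mul_pos_right h0)]
  refine ⟨_, ?_, h1, fun x => ?_⟩
  · have := finrank_mul_finrank k (IntermediateField.fixedField (Subgroup.zpowers (φ ^ r))) L
    rw [h1, h] at this
    exact Nat.eq_of_mul_eq_mul_right (Nat.pos_of_mul_pos_left h0) this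
  · have : (φ ^ r) x = x ^ (Fintype.card k ^ r) := by
      rw [AlgEquiv.coe_pow, FiniteField.coe_frobeniusAlgEquivOfAlgebraic_iterate]
    rw [IntermediateField.mem_fixedField_iff, ← this]
    exact ⟨fun h => h _ (Subgroup.mem_zpowers _), fun h =>
      (Subgroup.zpowers_le (H := MulAction.stabilizer _ x)).2 h⟩

/-- a field subalgebra is a field -/
theorem isField_of [Nonempty ι] {B : Subalgebra F (Matrix ι ι F)} {d : ℕ}
    (hB : IsFieldSubalgebra d B) : IsField B :=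
  ⟨exists_pair_ne B, fun x y => Subtype.ext (hB.comm _ x.2 _ y.2), fun {x} hx => by
    obtain ⟨y, hy, h⟩ := hB.inv _ x.2 fun h => hx (Subtype.ext h)
    exact ⟨⟨y, hy⟩, Subtype.ext h⟩⟩

theorem exists_subfield_alg [Fintype F] [Nonempty ι] {B : Subalgebra F (Matrix ι ι F)} {d r : ℕ}
    (hB : IsFieldSubalgebra d B) (hr : r ∣ d) : ∃ K, IsFieldSubalgebra r K ∧
      ∀ x, x ∈ K ↔ x ∈ B ∧ x ^ (Fintype.card F ^ r) = x := by
  obtain ⟨s, rfl⟩ := hr
  letI := (isField_of hB).toField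
  haveI : Finite B := Subtype.finite
  obtain ⟨E, h1, -, h2⟩ := exists_interField (k := F) (L := B) hB.finrank_eq
  have h3 : ∀ x, x ∈ E.toSubalgebra.map B.val ↔ x ∈ B ∧ x ^ (Fintype.card F ^ r) = x := fun x =>
    ⟨fun ⟨y, hy, h⟩ => h ▸ ⟨y.2, congrArg Subtype.val ((h2 y).1 hy)⟩,
      fun h => ⟨⟨x, h.1⟩, (h2 _).2 (Subtype.ext h.2), rfl⟩⟩
  refine ⟨_, ⟨fun x hx y hy => hB.comm x ((h3 x).1 hx).1 y ((h3 y).1 hy).1, ?_, ?_⟩, h3⟩
  · rintro _ ⟨x, hx, rfl⟩ h0
    have : x ≠ 0 := fun h => h0 (by rw [h]; rfl)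
    exact ⟨_, ⟨x⁻¹, E.inv_mem hx, rfl⟩, congrArg Subtype.val (mul_inv_cancel₀ this)⟩
  · rw [← h1]
    exact (E.toSubalgebra.equivMapOfInjective B.val Subtype.val_injective).toLinearEquiv.finrank_eq.symm

theorem le_subalgebraNormalizer {H : Subgroup (GL ι F)} {K : Subalgebra F (Matrix ι ι F)}
    (h : NmlA H K) : H ≤ subalgebraNormalizer K := fun g hg k =>
  ⟨h g hg k, fun hk => cjA_inv_cjA g k ▸ h g⁻¹ (H.inv_mem hg) _ hk⟩

theorem nmlA_normalizer (K : Subalgebra F (Matrix ι ι F)) : NmlA (subalgebraNormalizer K) K :=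
  fun _ hg k hk => (hg k).1 hk

theorem one_lt_finrank [Nonempty ι] {B : Subalgebra F (Matrix ι ι F)} {x : Matrix ι ι F}
    (hx : x ∈ B) (h : ¬ Sc x) : 1 < finrank F B := by
  by_contra h1
  rw [not_lt, ← Subalgebra.finrank_bot (F := F) (E := Matrix ι ι F)] at h1
  have := Subalgebra.eq_of_le_of_finrank_le bot_le h1
  obtain ⟨c, hc⟩ := Algebra.mem_bot.1 (this ▸ hx)
  exact h ⟨c, hc ▸ Algebra.algebraMap_eq_smul_one c⟩

theorem exists_prime_index [Fintype F] {F₀ : Subfield F} (h : F₀ ≠ ⊤) :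
    ∃ (F₁ : Subfield F) (r : ℕ), F₀ ≤ F₁ ∧ r.Prime ∧ Fintype.card F = Nat.card F₁ ^ r := by
  haveI := Fintype.ofFinite F₀
  obtain ⟨r, hr, s, hs⟩ := Nat.exists_prime_and_dvd (n := finrank F₀ F) fun h1 => h (by
    rw [eq_top_iff]
    intro x _
    obtain ⟨c, hc⟩ := (finrank_eq_one_iff_of_nonzero' (1 : F) one_ne_zero).1 h1 x
    exact hc ▸ F₀.mul_mem c.2 F₀.one_mem)
  obtain ⟨E, -, h2, -⟩ := exists_interField (hs.trans (mul_comm _ _))
  refine ⟨E.toSubfield, r, fun x hx => E.algebraMap_mem ⟨x, hx⟩, hr, ?_⟩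
  rw [← h2, ← Nat.card_eq_fintype_card]
  exact Module.natCard_eq_pow_finrank (K := E)

/-- matrices with entries in a subfield -/
def RatM (F₀ : Subfield F) {κ : Type} (X : Matrix κ κ F) : Prop := ∀ i j, X i j ∈ F₀

theorem Φ_coordT {κ : Type} [Fintype κ] [DecidableEq κ] (e : ι ≃ κ) (P : GL ι F)
    (X : Matrix κ κ F) : Φ (coordT e P) X = cjA P (X.submatrix e e) := (eq_Φ fun x => by
  rw [coordT_apply, cjA_mulVec, coordT_apply, submatrix_mulVec_equiv]
  simp [Function.comp_assoc]).symm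

theorem rad_inv {A : Subring (Matrix ι ι F)} {W : Submodule F (ι → F)}
    (hW : ∀ x, x ∈ W ↔ ∀ a ∈ A, (∀ y ∈ A, IsNilpotent (y * a)) → a *ᵥ x = 0) {a : Matrix ι ι F}
    (ha : a ∈ A) : ∀ x ∈ W, a *ᵥ x ∈ W := fun x hx => (hW _).2 fun b hb h => by
  rw [mulVec_mulVec]
  refine (hW x).1 hx _ (mul_mem hb ha) fun y hy => ?_
  obtain ⟨n, hn⟩ := h _ (mul_mem ha hy)
  exact ⟨n + 1, by rw [← mul_assoc, pow_succ', mul_assoc, ← mul_pow_mul, ← mul_assoc a, hn]; simp⟩

theorem exists_rat [Finite F] [Nonempty ι] {F₀ : Subfield F} (A : Subalgebra F₀ (Matrix ι ι F))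
    (hsp : ∀ W : Submodule F (Matrix ι ι F), (∀ a ∈ A, a ∈ W) → W = ⊤)
    (hsc : ∀ c : F, c • (1 : Matrix ι ι F) ∈ A → c ∈ F₀) :
    ∃ P : GL ι F, ∀ a, a ∈ A ↔ RatM F₀ (cjA P⁻¹ a) := by
  haveI : Finite A := Subtype.finite
  obtain ⟨d, hd, ⟨e⟩⟩ := wedderburn (k := F₀) (R := A)
    (fun x hx => Subtype.ext (eq_zero_of_nil A.toSubring (fun W h0 hW => eq_top_of_inv (fun a => by
      let U : Submodule F (Matrix ι ι F) :=
        { carrier := {a | ∀ x ∈ W, a *ᵥ x ∈ W}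
          add_mem' := fun h h' x hx => by rw [add_mulVec]; exact add_mem (h x hx) (h' x hx)
          zero_mem' := by simp
          smul_mem' := fun c a h x hx => by rw [smul_mulVec]; exact W.smul_mem c (h x hx) }
      exact (show a ∈ U from hsp U (fun a ha => rad_inv hW ha) ▸ Submodule.mem_top)) h0) x.2
        fun y hy => (hx ⟨y, hy⟩).map A.val))
    (fun x hx => by
      obtain ⟨c, hc⟩ : Sc (x : Matrix ι ι F) := sc_of_comm fun b => by
        have := hsp (Subalgebra.toSubmodule (Subalgebra.centralizer F {(x : Matrix ι ι F)}))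
          fun a ha => show ∀ y ∈ ({(x : Matrix ι ι F)} : Set _), y * a = a * y from fun y hy => by
            rw [hy]; exact congrArg Subtype.val (hx ⟨a, ha⟩)
        exact (Submodule.eq_top_iff'.1 this b : ∀ y ∈ ({(x : Matrix ι ι F)} : Set _), _) _ rfl
      exact ⟨⟨c, hsc c (hc ▸ x.2)⟩, Subtype.ext (hc.trans (by
        rw [Algebra.algebraMap_eq_smul_one]; rfl))⟩)
  haveI : Nonempty (Fin d) := ⟨⟨0, hd⟩⟩
  obtain ⟨Θ, hΘ⟩ := algHom_of_units (F := F)
    (fun a b : Fin d => (e (single a b 1) : Matrix ι ι F)) (fun a b c d => by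
      rw [← Subalgebra.coe_mul, ← map_mul]
      split_ifs with h
      · subst h; rw [single_mul_single_same, mul_one]
      · rw [single_mul_single_of_ne _ _ _ _ h, map_zero, Subalgebra.coe_zero])
    (by rw [← AddSubmonoidClass.coe_finset_sum, ← map_sum, sum_single_one, map_one]; rfl)
  have h1 : ∀ X : Matrix (Fin d) (Fin d) F₀, Θ (X.map F₀.subtype) = e X := fun X => by
    rw [hΘ]
    conv_rhs => rw [matrix_eq_sum_single X]
    simp only [map_sum, AddSubmonoidClass.coe_finset_sum]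
    refine Finset.sum_congr rfl fun a _ => Finset.sum_congr rfl fun b _ => ?_
    rw [show single a b (X a b) = X a b • single a b (1 : F₀) by simp, map_smul]
    rfl
  obtain ⟨T, hT⟩ := exists_Φ (AlgEquiv.ofBijective Θ ⟨Θ.toRingHom.injective, fun a =>
    Submodule.eq_top_iff'.1 (hsp (LinearMap.range Θ.toLinearMap) fun a ha =>
      ⟨_, (h1 (e.symm ⟨a, ha⟩)).trans (by simp)⟩) a⟩)
  obtain ⟨ε, P, rfl⟩ := exists_coordT T
  simp only [AlgEquiv.ofBijective_apply, Φ_coordT] at hT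
  refine ⟨P, fun a => ⟨fun ha i j => ?_, fun ha => ?_⟩⟩
  · have := (h1 (e.symm ⟨a, ha⟩)).symm.trans (hT _)
    rw [e.apply_symm_apply] at this
    rw [show a = _ from this, cjA_inv_cjA]
    exact SetLike.coe_mem _
  · have := (h1 (of fun i j => ⟨_, ha (ε.symm i) (ε.symm j)⟩)).symm.trans (hT _)
    rw [← cjA_cjA_inv P a]
    convert this ▸ (e _).2 using 2
    ext i j
    simp

theorem scalar_rat [Nonempty ι] {F₀ : Subfield F} {g : GL ι F}
    (h : ∀ X, RatM F₀ X → RatM F₀ (cjA g X)) : ∃ c : F, c ≠ 0 ∧ RatM F₀ (c • (g : Matrix ι ι F)) := by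
  obtain ⟨b, j, h0⟩ : ∃ b j, ((g⁻¹ : GL ι F) : Matrix ι ι F) b j ≠ 0 := by
    by_contra hc
    push Not at hc
    exact (g⁻¹).ne_zero (by ext i j; exact hc i j)
  refine ⟨_, h0, fun i a => ?_⟩
  have := h (single a b 1) (fun i j => by
    rw [single_apply]; split_ifs; exacts [F₀.one_mem, F₀.zero_mem]) i j
  simpa [cjA_apply, Matrix.mul_apply, single_apply, ite_and, mul_comm] using this

theorem scalar_rat' [Nonempty ι] {F₀ : Subfield F} {g : GL ι F}
    (h : ∀ X, RatM F₀ X → RatM F₀ (cjA g⁻¹ X)) :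
    ∃ c : F, c ≠ 0 ∧ RatM F₀ (c • (g : Matrix ι ι F)) := by
  obtain ⟨i, a, h0⟩ : ∃ b j, ((g⁻¹ : GL ι F) : Matrix ι ι F) b j ≠ 0 := by
    by_contra hc
    push Not at hc
    exact (g⁻¹).ne_zero (by ext i j; exact hc i j)
  refine ⟨_, h0, fun b j => ?_⟩
  have := h (single a b 1) (fun i j => by
    rw [single_apply]; split_ifs; exacts [F₀.one_mem, F₀.zero_mem]) i j
  simpa [cjA_apply, Matrix.mul_apply, single_apply, ite_and] using this

theorem RatM.mono {F₀ F₁ : Subfield F} (h : F₀ ≤ F₁) {κ : Type} {X : Matrix κ κ F}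
    (hX : RatM F₀ X) : RatM F₁ X := fun i j => h (hX i j)

theorem mem_subfieldSubgroup {F₀ : Subfield F} {P g : GL ι F} :
    g ∈ subfieldSubgroup F₀ P ↔ ∃ c : F, c ≠ 0 ∧ RatM F₀ (c • cjA P⁻¹ (g : Matrix ι ι F)) := by
  have h1 : ∀ (c : F) u, ((P⁻¹ : GL ι F) : Matrix ι ι F) *ᵥ
      (c • (g : Matrix ι ι F) *ᵥ ((P : Matrix ι ι F) *ᵥ u)) =
      (c • cjA P⁻¹ (g : Matrix ι ι F)) *ᵥ u := fun c u => by
    rw [mulVec_smul, smul_mulVec, ← cjA_mulVec, inv_mulVec_mulVec]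
  rw [mem_subfieldSubgroup_iff]
  constructor
  · rintro ⟨c, hc, h⟩
    refine ⟨c⁻¹, inv_ne_zero hc, fun i j => ?_⟩
    have := mem_V0_basisOf.1 (h _ (mem_V0_basisOf'.2 ⟨Pi.single j 1, fun i => by
      rw [Pi.single_apply]; split_ifs; exacts [F₀.one_mem, F₀.zero_mem], rfl⟩)) i
    rwa [h1, mulVec_single_one] at this
  · rintro ⟨c, hc, h⟩
    refine ⟨c⁻¹, inv_ne_zero hc, fun x hx => ?_⟩
    obtain ⟨u, hu, rfl⟩ := mem_V0_basisOf'.1 hx
    rw [mem_V0_basisOf, inv_inv, h1]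
    exact mulVec_mem_subfield h hu

theorem le_subfieldSubgroup [Nonempty ι] {H : Subgroup (GL ι F)} {F₀ F₁ : Subfield F}
    (h01 : F₀ ≤ F₁) {A : Set (Matrix ι ι F)} {P : GL ι F}
    (hP : ∀ a, a ∈ A ↔ RatM F₀ (cjA P⁻¹ a)) (hA : NmlA H A) : H ≤ subfieldSubgroup F₁ P := by
  intro g hg
  obtain ⟨c, hc, h⟩ := scalar_rat (F₀ := F₀) (g := P⁻¹ * g * P) fun X hX => by
    rw [cjA_mul, cjA_mul, ← hP]
    exact hA g hg _ ((hP _).2 (by rwa [cjA_inv_cjA]))
  exact mem_subfieldSubgroup.2 ⟨c, hc, h.mono h01⟩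

theorem env_span {F₀ : Subfield F} {R : Subgroup (GL ι F)} (h : env F R = ⊤)
    (W : Submodule F (Matrix ι ι F)) (hW : ∀ a ∈ env F₀ R, a ∈ W) : W = ⊤ :=
  top_le_iff.1 fun a _ => env_ind (k := F) (N := R) (p := (· ∈ W))
    (fun _ hx => hW _ (coe_mem_env hx)) W.zero_mem (fun _ _ => W.add_mem) (fun c _ => W.smul_mem c)
    (h ▸ Algebra.mem_top)

theorem sc_of_realisable [Nonempty ι] {F₀ : Subfield F} {R : Subgroup (GL ι F)}
    (h : RealisableOver F₀ (matrixSet R)) (c : F) (hc : c • (1 : Matrix ι ι F) ∈ env F₀ R) :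
    c ∈ F₀ := by
  obtain ⟨B, hB⟩ := h
  obtain ⟨i⟩ := ‹Nonempty ι›
  have := env_ind (p := fun a => RatM F₀ (cjA B a)) (fun x hx => hB _ ⟨x, hx, rfl⟩)
    (fun i j => by simp) (fun a b h h' i j => by rw [map_add]; exact add_mem (h i j) (h' i j))
    (fun c a h i j => by
      rw [← algebraMap_smul F, map_smul]; exact F₀.mul_mem c.2 (h i j)) hc i i
  simpa using this

theorem CaseC.exists_ten [Finite F] [Nonempty ι] {H : Subgroup (GL ι F)}
    {t : ℕ} {P : Fin t → Subgroup (GL ι F)} (h : CaseC H P) (o : Fin t) :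
    ∃ (k : ℕ) (g : Fin t → GL ι F) (φ : Matrix (Fin k) (Fin k) F →ₐ[F] Matrix ι ι F)
      (T : ((Fin t → Fin k) → F) ≃ₗ[F] (ι → F)), 2 ≤ k ∧ (∀ i, g i ∈ H) ∧ g o = 1 ∧
      (∀ a, a ∈ env F (P o) ↔ ∃ X, φ X = a) ∧
      (∀ i X, cjA (g i) (φ X) = Φ T (ten (Pi.mulSingle i X))) ∧
      ∀ x ∈ H, ∃ c π a, x = scU c * ΦU T (pmU F (Fin k) π * tenU a) := by
  have hc : ∀ i j, i ≠ j → ∀ a ∈ env F (P i), ∀ b ∈ env F (P j), a * b = b * a :=
    fun i j hij a ha b hb => env_comm (fun y hy => (env_comm (fun x hx =>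
      congrArg Units.val (h.comm j i hij.symm y hy x hx)) ha).symm) hb
  haveI : Finite (env F (P o)) := Subtype.finite
  obtain ⟨k, hk, ⟨e⟩⟩ := wedderburn (k := F) (R := env F (P o))
    (fun x hx => Subtype.ext (eq_zero_of_nil (env F (P o)).toSubring (fun W h0 hW =>
      (irr_of_env h.top W fun g hg _ => mulVec_mem_of_stab ((iSup_le (fun i y hy =>
        mem_subspaceStabilizer_of_le fun v hv => by
          by_cases hi : i = o
          · exact rad_inv hW (coe_mem_env (hi ▸ hy)) v hv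
          · refine (hW _).2 fun b hb h' => ?_
            rw [mulVec_mulVec, ← hc i o hi _ (coe_mem_env hy) b hb, ← mulVec_mulVec,
              (hW v).1 hv b hb h', mulVec_zero]) : _ ≤ subspaceStabilizer W) hg)).resolve_left h0) x.2
        fun y hy => (hx ⟨y, hy⟩).map (env F (P o)).val))
    (fun x hx => by
      obtain ⟨c, hc⟩ : Sc (x : Matrix ι ι F) := sc_of_env h.top fun y hy => by
        induction hy using Subgroup.iSup_induction' with
        | hp i y hy =>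
          by_cases hi : i = o
          · exact congrArg Subtype.val (hx ⟨y, coe_mem_env (hi ▸ hy)⟩)
          · exact (hc i o hi _ (coe_mem_env hy) _ x.2).symm
        | h1 => simp
        | hmul y z _ _ h h' => rw [Units.val_mul, ← mul_assoc, h, mul_assoc, h', mul_assoc]
      exact ⟨c, Subtype.ext (hc.trans (Algebra.algebraMap_eq_smul_one c).symm)⟩)
  haveI : Nonempty (Fin k) := ⟨⟨0, hk⟩⟩
  let φ := (env F (P o)).val.comp e.toAlgHom
  have h0 : ∀ a, a ∈ env F (P o) ↔ ∃ X, φ X = a := fun a =>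
    ⟨fun ha => ⟨e.symm ⟨a, ha⟩, by simp [φ]⟩, fun ⟨X, hX⟩ => hX ▸ (e X).2⟩
  obtain ⟨g, hg, hgo, hgP⟩ : ∃ g : Fin t → GL ι F, (∀ i, g i ∈ H) ∧ g o = 1 ∧
      ∀ i x, x ∈ P o ↔ g i * x * (g i)⁻¹ ∈ P i := by
    choose g hg hgP using h.trans o
    refine ⟨Function.update g o 1, fun i => ?_, by simp, fun i => ?_⟩ <;> by_cases hi : i = o
    · simp [hi]
    · simp [hi, hg]
    · simp [hi]
    · simpa [hi] using hgP i
  let ψ := fun i => (cjA (g i)).toAlgHom.comp φ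
  have h1 : ∀ i a, a ∈ env F (P i) ↔ ∃ X, ψ i X = a := fun i a =>
    ⟨fun ha => ((h0 _).1 (cjA_env (g := (g i)⁻¹) (fun x hx => (hgP i _).2 (by
      simpa [mul_assoc] using hx)) ha)).imp fun X hX => by
        change cjA (g i) (φ X) = a
        rw [hX, cjA_cjA_inv],
      fun ⟨X, hX⟩ => hX ▸ cjA_env (fun x => (hgP i x).1) ((h0 _).2 ⟨X, rfl⟩)⟩
  have h2 : ∀ A : Subalgebra F (Matrix ι ι F), (∀ i X, ψ i X ∈ A) → A = ⊤ := fun A hA =>
    top_le_iff.1 (h.top ▸ env_le fun y hy => by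
      induction hy using Subgroup.iSup_induction' with
      | hp i y hy => obtain ⟨X, hX⟩ := (h1 i _).1 (coe_mem_env hy); exact hX ▸ hA i X
      | h1 => exact A.one_mem
      | hmul y z _ _ h h' => exact A.mul_mem h h')
  obtain ⟨T, hT⟩ := H29.exists_ten ψ
    (fun i j hij X Y => hc i j hij _ ((h1 i _).2 ⟨X, rfl⟩) _ ((h1 j _).2 ⟨Y, rfl⟩)) h2
  refine ⟨k, g, φ, T, ?_, hg, hgo, h0, hT, fun x hx => ?_⟩
  · by_contra hk2
    obtain rfl : k = 1 := by omega
    refine h.ne o (eq_bot_of_perfect_scalars (h.perfect o) fun x hx y hy => mem_scalars.2 ?_)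
    obtain ⟨X, hX⟩ := (h0 _).1 (coe_mem_env ((P o).mul_mem ((P o).mul_mem ((P o).mul_mem hx hy)
      ((P o).inv_mem hx)) ((P o).inv_mem hy)))
    refine ⟨X 0 0, ?_⟩
    rw [← hX, ← map_one φ, ← map_smul]
    congr 1
    ext a b
    simp [Subsingleton.elim a 0, Subsingleton.elim b 0]
  · obtain ⟨π, hπ⟩ := h.perm x hx
    obtain ⟨a, c, e⟩ := nml_ten h2 hT (g := x) (π := π) fun i X =>
      (h1 _ _).1 (cjA_env (hπ i) ((h1 i _).2 ⟨X, rfl⟩))
    exact ⟨c, π, a, e⟩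

end H29
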