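import Mathlib
/-! Sylow numbers: `card_sylow_quot`, `card_sylow_sub`, `not_dvd_card_sylow_of_burnside`, fixed point congruences
`ncard_fix_modEq`, centraliser bounds in permutation groups `card_cent_dvd`, `relIndex_cent_dvd`, `dvd_card_of_fibers`. -/

namespace H29
open MulAction Subgroup Equiv Nat

variable {G : Type*} [Group G] {p q : ℕ}

theorem syl_mem_of_smul {P Q : Sylow p G} {g : G} (hg : g ∈ (P : Subgroup G)) (h : g • Q = Q) :
    g ∈ (Q : Subgroup G) :=
  have h1 : g ∈ (P : Subgroup G) ⊓ normalizer (Q : Set G) := ⟨hg, Sylow.smul_eq_iff_mem_normalizer.1 h⟩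
  ((P.isPGroup'.inf_normalizer_sylow Q).le h1).2

theorem syl_smul_of_mem {Q : Sylow p G} {g : G} (hg : g ∈ (Q : Subgroup G)) : g • Q = Q :=
  Sylow.smul_eq_iff_mem_normalizer.2 (le_normalizer hg)

theorem syl_eq_of_le {P Q : Sylow p G} (h : (P : Subgroup G) ≤ Q) : P = Q :=
  Sylow.ext (P.is_maximal' Q.isPGroup' h).symm

theorem mem_syl_smul {Q : Sylow p G} {g x : G} : x ∈ ((g • Q : Sylow p G) : Subgroup G) ↔ g⁻¹ * x * g ∈ (Q : Subgroup G) := by
  rw [Sylow.coe_subgroup_smul, Subgroup.mem_pointwise_smul_iff_inv_smul_mem]; simp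

theorem card_sylow_quot [Finite G] [Fact p.Prime] (K : Subgroup G) [K.Normal]
    (hK : ∀ (P : Sylow p G), ∀ k ∈ K, k • P = P) : Nat.card (Sylow p (G ⧸ K)) = Nat.card (Sylow p G) := by
  symm
  refine Nat.card_congr (Equiv.ofBijective
    (fun P : Sylow p G => P.mapSurjective (QuotientGroup.mk'_surjective K)) ⟨?_, Sylow.mapSurjective_surjective _ p⟩)
  intro P Q hPQ
  have h := congrArg (fun R : Sylow p (G ⧸ K) => (R : Subgroup _).comap (QuotientGroup.mk' K)) hPQ
  simp only [Sylow.coe_mapSurjective, Subgroup.comap_map_eq, QuotientGroup.ker_mk'] at h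
  have hn : (Q : Subgroup G) ≤ normalizer (P : Set G) :=
    le_sup_left.trans (h.symm.le.trans (sup_le Subgroup.le_normalizer fun k hk =>
      Sylow.smul_eq_iff_mem_normalizer.1 (hK P k hk)))
  exact (syl_eq_of_le fun g hg => syl_mem_of_smul hg (Sylow.smul_eq_iff_mem_normalizer.2 (hn hg))).symm

theorem syl_le_of_index [Finite G] [Fact p.Prime] (H : Subgroup G) [H.Normal] (hp : ¬ p ∣ H.index) (P : Sylow p G) :
    (P : Subgroup G) ≤ H := by
  obtain ⟨k, hk⟩ := P.isPGroup'.exists_card_eq
  have hc : (Nat.card (P : Subgroup G)).Coprime H.index := by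
    rw [hk]; exact Nat.Coprime.pow_left _ ((Nat.Prime.coprime_iff_not_dvd Fact.out).2 hp)
  intro x hx
  have h3 : (orderOf x).Coprime H.index :=
    Nat.Coprime.coprime_dvd_left ((P : Subgroup G).orderOf_dvd_natCard hx) hc
  obtain ⟨m, hm⟩ := exists_pow_eq_self_of_coprime h3.symm
  rw [← hm]
  exact H.pow_mem (H.pow_index_mem x) m

theorem card_sylow_sub [Finite G] [Fact p.Prime] (H : Subgroup G) [H.Normal] (hp : ¬ p ∣ H.index) :
    Nat.card (Sylow p H) = Nat.card (Sylow p G) := by
  symm
  refine Nat.card_congr (Equiv.ofBijective (fun P : Sylow p G => P.subtype (syl_le_of_index H hp P))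
    ⟨fun P Q h => Sylow.subtype_injective h, fun R => ?_⟩)
  obtain ⟨Q, hQ⟩ := R.exists_comap_subtype_eq
  exact ⟨Q, Sylow.ext hQ⟩

theorem card_sylow_dvd [Finite G] [Fact p.Prime] : Nat.card (Sylow p G) ∣ Nat.card G :=
  (Sylow.card_dvd_index (default : Sylow p G)).trans (index_dvd_card _)

theorem not_dvd_card_sylow_of_burnside [Finite G] [Fact p.Prime] [Fact q.Prime] (P : Sylow p G)
    (h : normalizer (P : Set G) ≤ centralizer (P : Set G)) (ne : q ≠ p) : ¬ p ∣ Nat.card (Sylow q G) := by
  have hc := MonoidHom.ker_transferSylow_isComplement' P h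
  obtain ⟨k, hk⟩ := P.isPGroup'.exists_card_eq
  have h1 : ¬ q ∣ (MonoidHom.transferSylow P h).ker.index := by
    rw [hc.symm.index_eq_card, hk]
    exact fun c => ne ((Nat.prime_dvd_prime_iff_eq Fact.out Fact.out).1 ((Fact.out : q.Prime).dvd_of_dvd_pow c))
  rw [← card_sylow_sub _ h1]
  exact fun c => MonoidHom.not_dvd_card_ker_transferSylow P h (c.trans card_sylow_dvd)

theorem card_mul_card_sylow [Finite G] [Fact p.Prime] (P : Sylow p G) :
    Nat.card (normalizer (P : Set G)) * Nat.card (Sylow p G) = Nat.card G := by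
  rw [P.card_eq_index_normalizer]; exact card_mul_index _

theorem relIndex_cent_dvd [Finite G] (P : Subgroup G) (hp : (Nat.card P).Prime) :
    (centralizer (P : Set G)).relIndex (normalizer (P : Set G)) ∣ Nat.card P - 1 := by
  haveI := Fact.mk hp
  haveI : IsCyclic P := isCyclic_of_prime_card rfl
  rw [relIndex, ← P.normalizerMonoidHom_ker, index_ker, ← Nat.totient_prime hp, ← IsCyclic.card_mulAut]
  exact card_subgroup_dvd_card _

theorem card_cent_mul_relIndex (P : Subgroup G) :
    Nat.card (centralizer (P : Set G)) * (centralizer (P : Set G)).relIndex (normalizer (P : Set G)) =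
      Nat.card (normalizer (P : Set G)) := by
  rw [relIndex, ← Nat.card_congr (subgroupOfEquivOfLe (centralizer_le_normalizer (P : Set G))).toEquiv]
  exact card_mul_index _

theorem cent_zpowers (y : G) : centralizer (zpowers y : Set G) = centralizer {y} := by
  rw [zpowers_eq_closure, centralizer_closure]

/-- an element of prime order `r ∤ p - 1` normalising a subgroup of order `p` centralises it -/
theorem mem_cent_of_coprime [Finite G] (P : Subgroup G) (hp : (Nat.card P).Prime) {c : G}
    (hc : c ∈ normalizer (P : Set G)) (h : (orderOf c).Coprime (Nat.card P - 1)) : c ∈ centralizer (P : Set G) := by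
  have h1 := relIndex_cent_dvd P hp
  haveI : ((centralizer (P : Set G)).subgroupOf (normalizer (P : Set G))).Normal := by
    rw [← P.normalizerMonoidHom_ker]; infer_instance
  have h2 := ((centralizer (P : Set G)).subgroupOf (normalizer (P : Set G))).pow_index_mem ⟨c, hc⟩
  obtain ⟨m, hm⟩ := exists_pow_eq_self_of_coprime (x := c) (Nat.Coprime.coprime_dvd_right h1 h).symm
  rw [← hm]
  exact pow_mem (mem_subgroupOf.1 h2) m

variable {Ω : Type*} [MulAction G Ω]

theorem ncard_fix_modEq [Finite Ω] [Fact p.Prime] {y : G} {n : ℕ} (hy : y ^ p ^ n = 1) (S : Set Ω)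
    (hS : ∀ x ∈ S, y • x ∈ S) : S.ncard ≡ {x ∈ S | y • x = x}.ncard [MOD p] := by
  classical
  haveI := Fintype.ofFinite S
  let f : Function.End S := fun x => ⟨y • x.1, hS _ x.2⟩
  have h1 : ∀ (k : ℕ) (x : S), ((f ^ k) x).1 = y ^ k • x.1 := fun k => by
    induction k with
    | zero => simp [Function.End.one_def]
    | succ k ih => intro x; rw [_root_.pow_succ', _root_.pow_succ', mul_smul, ← ih]; rfl
  have h2 := Equiv.Perm.card_fixedPoints_modEq (f := f) (p := p) (n := n)
    (funext fun x => Subtype.ext (by rw [h1, hy, one_smul]; rfl))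
  rw [← Nat.card_eq_fintype_card, ← Nat.card_eq_fintype_card, Nat.card_coe_set_eq] at h2
  convert h2 using 1
  rw [← Nat.card_coe_set_eq]
  exact Nat.card_congr ⟨fun x => ⟨⟨x.1, x.2.1⟩, Subtype.ext x.2.2⟩, fun x => ⟨x.1.1, x.1.2, congrArg Subtype.val x.2⟩,
    fun _ => rfl, fun _ => rfl⟩

theorem cycleType_toPerm [Fintype Ω] [DecidableEq Ω] [Fact p.Prime] {y : G} (hy : y ^ p = 1) {c m : ℕ}
    (hm : {x : Ω | y • x = x}.ncard = m) (hc : Fintype.card Ω = m + c * p) :
    (toPerm y : Perm Ω).cycleType = Multiset.replicate c p := by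
  have h1 : (toPerm y : Perm Ω) ^ p = 1 := by
    rw [← toPermHom_apply, ← map_pow, hy, map_one]
  have h2 := Perm.cycleType_of_pow_prime_eq_one h1
  have h3 := (toPerm y : Perm Ω).sum_cycleType
  have h4 : (toPerm y : Perm Ω).support.card + m = Fintype.card Ω := by
    rw [← hm, ← Finset.card_add_card_compl (toPerm y : Perm Ω).support, ← Set.ncard_coe_finset (_ᶜ)]
    congr 2; ext x; simp
  rw [h2, Multiset.sum_replicate, smul_eq_mul] at h3
  rw [h2, Nat.eq_of_mul_eq_mul_right (Fact.out : p.Prime).pos (show (toPerm y : Perm Ω).cycleType.card * p = c * p by omega)]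

theorem card_cent_dvd' [Fintype Ω] [DecidableEq Ω] [FaithfulSMul G Ω] [Fact p.Prime] {y : G} (hy : y ^ p = 1)
    {c m : ℕ} (hm : {x : Ω | y • x = x}.ncard = m) (hc : Fintype.card Ω = m + c * p) (A : Subgroup (Perm Ω))
    (hA : ∀ g : G, toPerm g ∈ A) :
    Nat.card (centralizer {y} : Subgroup G) * A.relIndex (centralizer {toPerm y}) ∣ m ! * p ^ c * c ! := by
  have h1 := cycleType_toPerm hy hm hc
  have h2 := Perm.nat_card_centralizer (toPerm y : Perm Ω)
  have h3 : Nat.card (centralizer {(toPerm y : Perm Ω)}) = m ! * p ^ c * c ! := by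
    rw [h2, h1, Multiset.sum_replicate, Multiset.prod_replicate, smul_eq_mul, hc, Nat.add_sub_cancel]
    rcases c with _ | c
    · simp
    · rw [Multiset.toFinset_replicate, if_neg c.succ_ne_zero]; simp
  rw [← h3, ← card_mul_index (A.subgroupOf (centralizer {(toPerm y : Perm Ω)}))]
  refine Nat.mul_dvd_mul ?_ (dvd_refl _)
  let f : (centralizer {y} : Subgroup G) →* (centralizer {(toPerm y : Perm Ω)}) :=
    ((toPermHom G Ω).comp (Subgroup.subtype _)).codRestrict _ fun g => by
      rw [mem_centralizer_singleton_iff]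
      have := congrArg (toPermHom G Ω) (mem_centralizer_singleton_iff.1 g.2)
      rwa [map_mul, map_mul] at this
  refine card_dvd_of_injective (f.codRestrict _ fun g => hA g.1) fun a b h => Subtype.ext ?_
  exact toPerm_injective (β := Ω) (congrArg (fun x => x.1.1) h)

theorem card_cent_dvd [Fintype Ω] [DecidableEq Ω] [FaithfulSMul G Ω] [Fact p.Prime]
    (hev : ∀ g : G, Perm.sign (toPerm g : Perm Ω) = 1) {y : G} (hy : y ^ p = 1)
    {c m : ℕ} (hm : {x : Ω | y • x = x}.ncard = m) (hc : Fintype.card Ω = m + c * p) (h2 : 2 ≤ c) :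
    Nat.card (centralizer {y} : Subgroup G) * 2 ∣ m ! * p ^ c * c ! := by
  have h := card_cent_dvd' hy hm hc (alternatingGroup Ω) hev
  have h1 : (alternatingGroup Ω).relIndex (centralizer {(toPerm y : Perm Ω)}) ≠ 1 := by
    rw [Ne, relIndex_eq_one, Perm.centralizer_le_alternating_iff, cycleType_toPerm hy hm hc]
    rintro ⟨-, -, h⟩
    have := h p
    rw [Multiset.count_replicate_self] at this; omega
  haveI : Nontrivial Ω := Fintype.one_lt_card_iff_nontrivial.1 (by
    have := (Fact.out : p.Prime).two_le; nlinarith)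
  have h3 := relIndex_dvd_index_of_normal (alternatingGroup Ω) (centralizer {(toPerm y : Perm Ω)})
  rw [alternatingGroup.index_eq_two] at h3
  rwa [(Nat.prime_two.eq_one_or_self_of_dvd _ h3).resolve_left h1] at h

theorem sign_toPerm [Fintype Ω] [DecidableEq Ω] (h2 : ∀ N : Subgroup G, N.Normal → N.index ≠ 2) (g : G) :
    Perm.sign (toPerm g : Perm Ω) = 1 := by
  let f : G →* ℤˣ := Perm.sign.comp (toPermHom G Ω)
  have h1 : f.ker.index ∣ 2 := by
    rw [index_ker]; exact (card_subgroup_dvd_card _).trans (by simp)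
  have h3 := index_eq_one.1 ((Nat.prime_two.eq_one_or_self_of_dvd _ h1).resolve_right (h2 _ inferInstance))
  exact (h3.ge (mem_top g) : g ∈ f.ker)

theorem four_dvd_of_invol [Finite Ω] (h2 : ∀ N : Subgroup G, N.Normal → N.index ≠ 2) {t : G} (ht : t ^ 2 = 1) :
    4 ∣ Nat.card Ω - {x : Ω | t • x = x}.ncard := by
  classical
  haveI := Fintype.ofFinite Ω
  have h1 := sign_toPerm (Ω := Ω) h2 t
  have h3 := ncard_fix_modEq (p := 2) (n := 1) (y := t) (by simpa using ht) (Set.univ : Set Ω) (by simp)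
  rw [Perm.sign_of_pow_two_eq_one (by rw [← toPermHom_apply, ← map_pow, ht, map_one]),
    neg_one_pow_eq_one_iff_even (by decide), ← Nat.card_eq_fintype_card, ← Nat.card_eq_fintype_card,
    Nat.card_coe_set_eq] at h1
  simp only [Set.mem_univ, true_and, Set.ncard_univ] at h3
  have h4 : {x : Ω | t • x = x}.ncard ≤ Nat.card Ω := Set.ncard_le_card _
  change Even ((Nat.card Ω - {x : Ω | t • x = x}.ncard) / 2) at h1
  unfold Nat.ModEq at h3
  obtain ⟨k, hk⟩ := h1
  omega

theorem dvd_card_of_fibers {α β : Type*} [DecidableEq β] (s : Finset α) (f : α → β) {n : ℕ}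
    (h : ∀ a ∈ s, n ∣ (s.filter (f · = f a)).card) : n ∣ s.card := by
  rw [Finset.card_eq_sum_card_image f]
  refine Finset.dvd_sum fun b hb => ?_
  obtain ⟨a, ha, rfl⟩ := Finset.mem_image.1 hb
  exact h a ha

end H29
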