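import Mathlib
import Cfsg.Agent.H29.Sym

/-! Imprimitive wreath products in symmetric groups: `blockStab f` (stabilizer of the partition into
fibres of `f`), overgroups of it are primitive (`prim_of_pairs`), maximality in `S_n`
(`blockStab_coatom`) and in `A_n` (`alt_le_of_blockStab`). -/

set_option autoImplicit false

namespace H29

open Equiv Equiv.Perm MulAction
open scoped Pointwise

/-- the stabilizer of the partition into fibres of `f` -/
def blockStab {Ω ι : Type*} (f : Ω → ι) : Subgroup (Perm Ω) where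
  carrier := {g | ∀ x y : Ω, f x = f y ↔ f (g x) = f (g y)}
  one_mem' := fun _ _ => Iff.rfl
  mul_mem' := fun {a b} ha hb x y => (hb x y).trans (ha _ _)
  inv_mem' := fun {a} ha x y => by
    have := ha (a⁻¹ x) (a⁻¹ y)
    simpa using this.symm

theorem closure_blockStab {Ω ι : Type*} (f : Ω → ι) :
    Subgroup.closure {g : Perm Ω | ∀ x y : Ω, f x = f y ↔ f (g x) = f (g y)} = blockStab f :=
  Subgroup.closure_eq (blockStab f)

theorem mem_blockStab_of_fix {Ω ι : Type*} {f : Ω → ι} {g : Perm Ω} (h : ∀ x, f (g x) = f x) :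
    g ∈ blockStab f := fun x y => by rw [h, h]

theorem swap_mem_blockStab {Ω ι : Type*} [DecidableEq Ω] {f : Ω → ι} {x y : Ω} (h : f x = f y) :
    swap x y ∈ blockStab f := mem_blockStab_of_fix fun z => by
  rw [swap_apply_def]; split_ifs with h1 h2
  · rw [h1, h]
  · rw [h2, h]
  · rfl

theorem exists_coords {Ω : Type*} [Fintype Ω] {a b : ℕ} (f : Ω → Fin b)
    (hf : ∀ i : Fin b, Nat.card {x : Ω // f x = i} = a) :
    ∃ e : Ω ≃ Fin b × Fin a, ∀ x, (e x).1 = f x := by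
  have h : ∀ i : Fin b, Nonempty ({x : Ω // f x = i} ≃ Fin a) := fun i =>
    Finite.card_eq.1 (by rw [hf, Nat.card_eq_fintype_card, Fintype.card_fin])
  let g := fun i => (h i).some
  exact ⟨(Equiv.sigmaFiberEquiv f).symm.trans ((Equiv.sigmaCongrRight g).trans
    (Equiv.sigmaEquivProd _ _)), fun x => rfl⟩

section
variable {Ω : Type*} [Fintype Ω] [DecidableEq Ω] {a b : ℕ} {f : Ω → Fin b}

theorem exists_blockPerm (e : Ω ≃ Fin b × Fin a) (he : ∀ x, (e x).1 = f x) (i j : Fin b) :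
    ∃ w ∈ blockStab f, (∀ x, f (w x) = swap i j (f x)) ∧ ∀ x, f x ≠ i → f x ≠ j → w x = x := by
  let w : Perm Ω := e.symm.permCongr (Equiv.prodCongr (swap i j) (Equiv.refl _))
  have h1 : ∀ x, f (w x) = swap i j (f x) := fun x => by
    rw [← he, ← he]; simp [w]
  refine ⟨w, fun x y => by rw [h1, h1, (swap i j).apply_eq_iff_eq], h1, fun x hi hj => ?_⟩
  apply e.injective
  simp only [w, Equiv.permCongr_apply, Equiv.symm_symm, Equiv.apply_symm_apply]
  ext1
  · simp [he, swap_apply_of_ne_of_ne hi hj]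
  · simp

theorem exists_move (e : Ω ≃ Fin b × Fin a) (he : ∀ x, (e x).1 = f x) (y z : Ω) :
    ∃ w ∈ blockStab f, w y = z ∧ ∀ x, f x ≠ f y → f x ≠ f z → w x = x := by
  obtain ⟨w, hw, h1, h2⟩ := exists_blockPerm e he (f y) (f z)
  have h3 : f (w y) = f z := by rw [h1, swap_apply_left]
  refine ⟨swap (w y) z * w, mul_mem (swap_mem_blockStab h3) hw, by simp, fun x hy hz => ?_⟩
  rw [Perm.mul_apply, h2 x hy hz]
  exact swap_apply_of_ne_of_ne (fun h => hz (h ▸ h3)) (fun h => hz (h ▸ rfl))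

theorem prim_of_pairs (e : Ω ≃ Fin b × Fin a) (he : ∀ x, (e x).1 = f x) {G : Subgroup (Perm Ω)}
    (hG : ∀ w ∈ blockStab f, ∀ p q, ∃ g ∈ G, g p = w p ∧ g q = w q) (hn : ¬ G ≤ blockStab f) :
    IsPreprimitive G Ω := by
  have htr : IsPretransitive G Ω := ⟨fun y z => by
    obtain ⟨w, hw, h1, -⟩ := exists_move e he y z
    obtain ⟨g, hg, h2, -⟩ := hG w hw y y
    exact ⟨⟨g, hg⟩, h2.trans h1⟩⟩
  have key : ∀ B : Set Ω, IsBlock G B → ∀ w ∈ blockStab f, ∀ p ∈ B, ∀ q ∈ B, w p ∈ B → w q ∈ B := by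
    intro B hB w hw p hp q hq hwp
    obtain ⟨g, hg, h1, h2⟩ := hG w hw p q
    have := hB.smul_eq_of_mem (g := ⟨g, hg⟩) hp (by rw [← h1] at hwp; exact hwp)
    rw [← h2, ← this]
    exact Set.smul_mem_smul_set hq
  have fib : ∀ B : Set Ω, IsBlock G B → ¬ B.Subsingleton → B ≠ Set.univ →
      ∀ x ∈ B, ∀ z, z ∈ B ↔ f z = f x := by
    intro B hB h1 h2
    have same : ∀ x ∈ B, ∀ y ∈ B, f x = f y := by
      intro x hx y hy
      by_contra hne
      apply h2
      have aux : ∀ x ∈ B, ∀ y ∈ B, f x ≠ f y → ∀ z, f x ≠ f z → z ∈ B := by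
        intro x hx y hy hne z hz
        obtain ⟨w, hw, h3, h4⟩ := exists_move e he y z
        exact h3 ▸ key B hB w hw x hx y hy (by rw [h4 x hne hz]; exact hx)
      ext z
      simp only [Set.mem_univ, iff_true]
      by_cases hz : f x = f z
      · exact aux y hy x hx (Ne.symm hne) z (fun h => hne (hz.trans h.symm))
      · exact aux x hx y hy hne z hz
    intro x hx z
    refine ⟨fun hz => same z hz x hx, fun hz => ?_⟩
    obtain ⟨y, hy, hyx⟩ := (Set.not_subsingleton_iff.1 h1).exists_ne x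
    by_cases hzx : z = x
    · rw [hzx]; exact hx
    have := key B hB (swap y z) (swap_mem_blockStab ((same y hy x hx).trans hz.symm)) x hx y hy
      (by rw [swap_apply_of_ne_of_ne (Ne.symm hyx) (Ne.symm hzx)]; exact hx)
    rwa [swap_apply_left] at this
  refine ⟨fun {B} hB => ?_⟩
  by_contra hc
  have h1 : ¬ B.Subsingleton := fun h => hc (Or.inl h)
  have h2 : B ≠ Set.univ := fun h => hc (Or.inr h)
  have hall : ∀ g : G, ¬ (g • B).Subsingleton ∧ g • B ≠ Set.univ := fun g =>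
    ⟨fun h => h1 (by rw [← inv_smul_smul g B]; exact h.image _), fun h => h2 (by
      rw [← inv_smul_smul g B, h, Set.smul_set_univ])⟩
  obtain ⟨x0, hx0⟩ := (Set.not_subsingleton_iff.1 h1).nonempty
  have imp : ∀ g ∈ G, ∀ x y, f x = f y → f (g x) = f (g y) := by
    intro g hg x y hxy
    obtain ⟨k, hk⟩ := exists_smul_eq G x0 x
    have hx : x ∈ k • B := hk ▸ Set.smul_mem_smul_set hx0
    have hy : y ∈ k • B := (fib _ (hB.translate k) (hall k).1 (hall k).2 x hx y).2 hxy.symm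
    have hgx : g x ∈ ((⟨g, hg⟩ : G) * k) • B := by rw [mul_smul]; exact Set.smul_mem_smul_set hx
    have hgy : g y ∈ ((⟨g, hg⟩ : G) * k) • B := by rw [mul_smul]; exact Set.smul_mem_smul_set hy
    exact ((fib _ (hB.translate _) (hall _).1 (hall _).2 _ hgx _).1 hgy).symm
  exact hn fun g hg x y => ⟨imp g hg x y, fun h => by simpa using imp g⁻¹ (inv_mem hg) _ _ h⟩

theorem blockStab_wit (e : Ω ≃ Fin b × Fin a) (he : ∀ x, (e x).1 = f x) (ha : 2 ≤ a) (hb : 2 ≤ b) :
    ∃ x x' y : Ω, x ≠ x' ∧ f x = f x' ∧ f x ≠ f y := by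
  refine ⟨e.symm (⟨0, by omega⟩, ⟨0, by omega⟩), e.symm (⟨0, by omega⟩, ⟨1, by omega⟩),
    e.symm (⟨1, by omega⟩, ⟨0, by omega⟩), ?_, ?_, ?_⟩
  · simp
  · simp [← he]
  · simp [← he]

theorem blockStab_coatom (ha : 2 ≤ a) (hb : 2 ≤ b)
    (hf : ∀ i : Fin b, Nat.card {x : Ω // f x = i} = a) : IsCoatom (blockStab f) := by
  obtain ⟨e, he⟩ := exists_coords f hf
  obtain ⟨x, x', y, h1, h2, h3⟩ := blockStab_wit e he ha hb
  refine ⟨fun h => ?_, fun G hG => ?_⟩
  · have : swap x y ∈ blockStab f := h ▸ Subgroup.mem_top _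
    have h4 := (this x x').1 h2
    rw [swap_apply_left, swap_apply_of_ne_of_ne h1.symm (fun h => h3 (h2.trans (by rw [h])))] at h4
    exact h3 (h2.trans h4.symm)
  · exact subgroup_eq_top_of_isPreprimitive_of_isSwap_mem
      (prim_of_pairs e he (fun w hw p q => ⟨w, hG.le hw, rfl, rfl⟩) (not_le_of_gt hG)) _
      ⟨x, x', h1, rfl⟩ (hG.le (swap_mem_blockStab h2))

theorem exists_notMem_of_lt {α : Type*} [Fintype α] (s : Finset α) (h : s.card < Fintype.card α) :
    ∃ z, z ∉ s := by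
  by_contra hc
  push Not at hc
  have h1 : (Finset.univ : Finset α).card ≤ s.card := Finset.card_le_card fun z _ => hc z
  rw [Finset.card_univ] at h1
  omega

theorem exists_swap_fix (e : Ω ≃ Fin b × Fin a) (he : ∀ x, (e x).1 = f x) (ha : 2 ≤ a) (hb : 2 ≤ b)
    (hab : 3 ≤ a ∨ 3 ≤ b) (p q : Ω) :
    ∃ u v, u ≠ v ∧ f u = f v ∧ p ≠ u ∧ p ≠ v ∧ q ≠ u ∧ q ≠ v := by
  have free : ∀ i : Fin b, i ≠ f p → i ≠ f q →
      ∃ u v, u ≠ v ∧ f u = f v ∧ p ≠ u ∧ p ≠ v ∧ q ≠ u ∧ q ≠ v := fun i h1 h2 => by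
    refine ⟨e.symm (i, ⟨0, by omega⟩), e.symm (i, ⟨1, by omega⟩), by simp, by simp [← he], ?_, ?_, ?_, ?_⟩ <;>
      · rintro rfl; simp [← he] at h1 h2
  by_cases hpq : f p = f q
  · obtain ⟨i, hi⟩ := exists_notMem_of_lt ({f p} : Finset (Fin b)) (by simp; omega)
    exact free i (by simpa using hi) (by simpa [hpq] using hi)
  rcases hab with h | h
  · obtain ⟨k, hk⟩ := exists_notMem_of_lt ({(e p).2} : Finset (Fin a)) (by simp; omega)
    obtain ⟨l, hl⟩ := exists_notMem_of_lt ({(e p).2, k} : Finset (Fin a))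
      (lt_of_le_of_lt Finset.card_le_two (by simp; omega))
    simp only [Finset.mem_insert, Finset.mem_singleton, not_or] at hk hl
    refine ⟨e.symm (f p, k), e.symm (f p, l), by simpa using Ne.symm hl.2, by simp [← he], ?_, ?_, ?_, ?_⟩
    · intro h; apply hk; rw [h]; simp
    · intro h; apply hl.1; rw [h]; simp
    · intro h; apply hpq; rw [← he q, h]; simp
    · intro h; apply hpq; rw [← he q, h]; simp
  · obtain ⟨i, hi⟩ := exists_notMem_of_lt ({f p, f q} : Finset (Fin b))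
      (lt_of_le_of_lt Finset.card_le_two (by simp; omega))
    simp only [Finset.mem_insert, Finset.mem_singleton, not_or] at hi
    exact free i hi.1 hi.2

theorem pairs_of_alt (e : Ω ≃ Fin b × Fin a) (he : ∀ x, (e x).1 = f x) (ha : 2 ≤ a) (hb : 2 ≤ b)
    (hab : 3 ≤ a ∨ 3 ≤ b) {G : Subgroup (Perm Ω)} (hG : blockStab f ⊓ alternatingGroup Ω ≤ G) :
    ∀ w ∈ blockStab f, ∀ p q, ∃ g ∈ G, g p = w p ∧ g q = w q := by
  intro w hw p q
  rcases Int.units_eq_one_or (sign w) with h | h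
  · exact ⟨w, hG ⟨hw, h⟩, rfl, rfl⟩
  obtain ⟨u, v, h1, h2, h3, h4, h5, h6⟩ := exists_swap_fix e he ha hb hab p q
  refine ⟨w * swap u v, hG ⟨mul_mem hw (swap_mem_blockStab h2), ?_⟩, ?_, ?_⟩
  · show sign _ = 1
    rw [Perm.sign_mul, h, sign_swap h1]; rfl
  · rw [Perm.mul_apply, swap_apply_of_ne_of_ne h3 h4]
  · rw [Perm.mul_apply, swap_apply_of_ne_of_ne h5 h6]

/-- a group containing the even part of the centralizer of a perfect matching and not contained in
that centralizer contains a `3`-cycle (`b = 3` or `b ≥ 5` pairs). -/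
theorem three_cycle_of_pairs (e : Ω ≃ Fin b × Fin 2) (he : ∀ x, (e x).1 = f x) (hb : b = 3 ∨ 5 ≤ b)
    {G : Subgroup (Perm Ω)} (hG : blockStab f ⊓ alternatingGroup Ω ≤ G) (hn : ¬ G ≤ blockStab f) :
    ∃ c ∈ G, c.IsThreeCycle := by
  -- the partner map
  obtain ⟨π, hπ1, hπ2, hπ3⟩ : ∃ π : Ω → Ω, (∀ x, π x ≠ x) ∧ (∀ x, f (π x) = f x) ∧
      ∀ x y, f y = f x → y = x ∨ y = π x := by
    refine ⟨fun x => e.symm ((e x).1, (e x).2 + 1), fun x h => ?_, fun x => by simp [← he], fun x y h => ?_⟩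
    · have := congrArg (fun z => (e z).2) h
      simp at this
    · rw [← he, ← he] at h
      have h2 : ∀ s t : Fin 2, s = t ∨ s = t + 1 := by decide
      rcases h2 (e y).2 (e x).2 with h3 | h3
      · exact Or.inl (e.injective (Prod.ext h h3))
      · exact Or.inr (e.injective (by simp [Prod.ext_iff, h, h3]))
  have hππ : ∀ x, π (π x) = x := fun x =>
    ((hπ3 (π x) x (hπ2 x).symm).resolve_left (hπ1 x).symm).symm
  have hπi : Function.Injective π := Function.LeftInverse.injective hππ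
  have hD : ∀ p r, swap p (π p) * swap r (π r) ∈ G := fun p r =>
    hG ⟨mul_mem (swap_mem_blockStab (hπ2 p).symm) (swap_mem_blockStab (hπ2 r).symm),
      mul_mem_alternatingGroup_of_isSwap ⟨_, _, (hπ1 p).symm, rfl⟩ ⟨_, _, (hπ1 r).symm, rfl⟩⟩
  obtain ⟨g, hg, x0, hx0⟩ : ∃ g ∈ G, ∃ x, g (π x) ≠ π (g x) := by
    by_contra hc
    push Not at hc
    have imp : ∀ g ∈ G, ∀ x y, f x = f y → f (g x) = f (g y) := fun g hg x y h => by
      rcases hπ3 y x h with rfl | rfl
      · rfl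
      · rw [hc g hg, hπ2]
    exact hn fun g hg x y => ⟨imp g hg x y, fun h => by simpa using imp g⁻¹ (inv_mem hg) _ _ h⟩
  obtain ⟨ρ, hρ1, hρρ, hD', x, hx⟩ : ∃ ρ : Ω → Ω, (∀ x, ρ x ≠ x) ∧ (∀ x, ρ (ρ x) = x) ∧
      (∀ p r, swap p (ρ p) * swap r (ρ r) ∈ G) ∧ ∃ x, ρ x ≠ π x := by
    refine ⟨fun x => g (π (g⁻¹ x)), fun x h => hπ1 (g⁻¹ x) (by rw [Perm.eq_inv_iff_eq]; exact h),
      fun x => by simp [hππ], fun p r => ?_, g x0, by simpa using hx0⟩
    have := mul_mem (mul_mem hg (hD (g⁻¹ p) (g⁻¹ r))) (inv_mem hg)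
    have h2 : g * (swap (g⁻¹ p) (π (g⁻¹ p)) * swap (g⁻¹ r) (π (g⁻¹ r))) * g⁻¹ =
        (g * swap (g⁻¹ p) (π (g⁻¹ p)) * g⁻¹) * (g * swap (g⁻¹ r) (π (g⁻¹ r)) * g⁻¹) := by group
    rw [h2, ← swap_apply_apply, ← swap_apply_apply] at this
    simpa using this
  have hρi : Function.Injective ρ := Function.LeftInverse.injective hρρ
  have hfz : f (ρ x) ≠ f x := fun h => (hπ3 x _ h).elim (hρ1 x) hx
  have hcard : Fintype.card Ω = b * 2 := by rw [Fintype.card_congr e]; simp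
  obtain ⟨v, hv⟩ := exists_notMem_of_lt ({x, ρ x, π x, ρ (π x)} : Finset Ω)
    (lt_of_le_of_lt Finset.card_le_four (by omega))
  simp only [Finset.mem_insert, Finset.mem_singleton, not_or] at hv
  obtain ⟨hv1, hv2, hv3, hv4⟩ := hv
  have hw1 : ρ v ≠ x := fun h => hv2 (by rw [← h, hρρ])
  have hw2 : ρ v ≠ ρ x := fun h => hv1 (hρi h)
  have hw3 : ρ v ≠ π x := fun h => hv4 (by rw [← h, hρρ])
  by_cases hu : ∃ u, f u ≠ f x ∧ f u ≠ f (ρ x) ∧ f u ≠ f v ∧ f u ≠ f (ρ v)
  · obtain ⟨u, hu1, hu2, hu3, hu4⟩ := hu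
    have hfix : ∀ y, f u ≠ f y → swap u (π u) y = y := fun y hy =>
      swap_apply_of_ne_of_ne (fun h => hy (h ▸ rfl)) (fun h => hy (by rw [h, hπ2]))
    have h1 := mul_mem (mul_mem (mul_mem (hD x u) (hD' x v)) (inv_mem (hD x u))) (inv_mem (hD' x v))
    have h2 : ∀ s : Perm Ω, s * (swap x (ρ x) * swap v (ρ v)) * s⁻¹ =
        swap (s x) (s (ρ x)) * swap (s v) (s (ρ v)) := fun s => by
      rw [swap_apply_apply, swap_apply_apply]; group
    rw [h2] at h1
    simp only [Perm.mul_apply, hfix _ hu1, hfix _ hu2, hfix _ hu3, hfix _ hu4, swap_apply_left,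
      swap_apply_of_ne_of_ne (hρ1 x) hx, swap_apply_of_ne_of_ne hv1 hv3,
      swap_apply_of_ne_of_ne hw1 hw3] at h1
    refine ⟨_, h1, ?_⟩
    rw [mul_inv_rev, swap_inv, swap_inv, mul_assoc, ← mul_assoc (swap v (ρ v)), swap_mul_self, one_mul,
      swap_comm (π x), swap_comm x]
    exact isThreeCycle_swap_mul_swap_same hx (hρ1 x) (hπ1 x)
  have hb3 : b = 3 := by
    refine hb.resolve_right fun h5 => hu ?_
    obtain ⟨i, hi⟩ := exists_notMem_of_lt ({f x, f (ρ x), f v, f (ρ v)} : Finset (Fin b))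
      (lt_of_le_of_lt Finset.card_le_four (by simp; omega))
    simp only [Finset.mem_insert, Finset.mem_singleton, not_or] at hi
    exact ⟨e.symm (i, 0), by simpa [← he] using hi⟩
  by_cases hA : ρ (π x) = π (ρ x)
  · have hv5 : f v ≠ f x := fun h => (hπ3 x v h).elim hv1 hv3
    have hv6 : f v ≠ f (ρ x) := fun h => (hπ3 _ v h).elim hv2 (fun h => hv4 (h.trans hA.symm))
    have hw5 : f (ρ v) ≠ f x := fun h => (hπ3 x _ h).elim hw1 hw3
    have hw6 : f (ρ v) ≠ f (ρ x) := fun h => (hπ3 _ _ h).elim hw2 (fun h => hv3 (hρi (h.trans hA.symm)))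
    have h7 : f (ρ v) = f v := by
      subst hb3
      revert hfz hv5 hv6 hw5 hw6
      generalize f (ρ v) = s, f v = t, f x = r, f (ρ x) = k
      revert s t r k
      decide
    have h8 : ρ v = π v := (hπ3 v _ h7).resolve_left (hρ1 v)
    have h1 := mul_mem (hD' x v) (inv_mem (hD x v))
    refine ⟨_, h1, ?_⟩
    rw [h8, mul_inv_rev, swap_inv, swap_inv, mul_assoc, ← mul_assoc (swap v (π v)), swap_mul_self, one_mul]
    exact isThreeCycle_swap_mul_swap_same (hρ1 x).symm (hπ1 x).symm hx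
  · have h1 : swap x (ρ x) * swap (π x) (π (ρ x)) ∈ G := by
      refine hG ⟨?_, mul_mem_alternatingGroup_of_isSwap ⟨_, _, (hρ1 x).symm, rfl⟩
        ⟨_, _, fun h => hρ1 x (hπi h).symm, rfl⟩⟩
      have h3 : ∀ y, f ((swap x (ρ x) * swap (π x) (π (ρ x))) y) = swap (f x) (f (ρ x)) (f y) := by
        intro y
        have n1 : π (ρ x) ≠ x := fun h => hfz (by rw [← hπ2 (ρ x), h])
        by_cases c1 : f y = f x
        · rw [c1, swap_apply_left]
          rcases hπ3 x y c1 with rfl | rfl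
          · rw [Perm.mul_apply, swap_apply_of_ne_of_ne (hπ1 y).symm n1.symm, swap_apply_left]
          · rw [Perm.mul_apply, swap_apply_left, swap_apply_of_ne_of_ne n1 (hπ1 _), hπ2]
        by_cases c2 : f y = f (ρ x)
        · rw [c2, swap_apply_right]
          rcases hπ3 _ y c2 with rfl | rfl
          · rw [Perm.mul_apply, swap_apply_of_ne_of_ne hx (hπ1 _).symm, swap_apply_right]
          · rw [Perm.mul_apply, swap_apply_right, swap_apply_of_ne_of_ne (hπ1 _) hx.symm, hπ2]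
        rw [swap_apply_of_ne_of_ne c1 c2, Perm.mul_apply,
          swap_apply_of_ne_of_ne (x := y) (fun h => c1 (by rw [h, hπ2])) (fun h => c2 (by rw [h, hπ2])),
          swap_apply_of_ne_of_ne (fun h => c1 (by rw [h])) (fun h => c2 (by rw [h]))]
      exact fun y z => by rw [h3, h3, (swap _ _).apply_eq_iff_eq]
    refine ⟨_, mul_mem (inv_mem (hD' x (π x))) h1, ?_⟩
    rw [mul_inv_rev, swap_inv, swap_inv, mul_assoc, ← mul_assoc (swap x (ρ x)), swap_mul_self, one_mul]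
    exact isThreeCycle_swap_mul_swap_same (hρ1 _).symm (fun h => hρ1 x (hπi h).symm) hA

theorem alt_le_of_blockStab (e : Ω ≃ Fin b × Fin a) (he : ∀ x, (e x).1 = f x) (ha : 2 ≤ a) (hb : 2 ≤ b)
    (hab : 3 ≤ a ∨ b = 3 ∨ 5 ≤ b) {G : Subgroup (Perm Ω)} (hG : blockStab f ⊓ alternatingGroup Ω ≤ G)
    (hn : ¬ G ≤ blockStab f) : alternatingGroup Ω ≤ G := by
  have hp := prim_of_pairs e he (pairs_of_alt e he ha hb (by omega) hG) hn
  suffices ∃ c ∈ G, c.IsThreeCycle by
    obtain ⟨c, hc, h3⟩ := this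
    exact alternatingGroup_le_of_isPreprimitive_of_isThreeCycle_mem hp h3 hc
  by_cases h3 : 3 ≤ a
  · let i : Fin b := ⟨0, by omega⟩
    have h : (swap (e.symm (i, ⟨0, by omega⟩)) (e.symm (i, ⟨1, by omega⟩)) *
        swap (e.symm (i, ⟨0, by omega⟩)) (e.symm (i, ⟨2, by omega⟩))).IsThreeCycle :=
      isThreeCycle_swap_mul_swap_same (by simp) (by simp) (by simp)
    exact ⟨_, hG ⟨mul_mem (swap_mem_blockStab (by simp [← he])) (swap_mem_blockStab (by simp [← he])),
      h.mem_alternatingGroup⟩, h⟩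
  obtain rfl : a = 2 := by omega
  exact three_cycle_of_pairs e he (by omega) hG hn

end

end H29
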