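import Cfsg.Agent.H29.LinAux
import Cfsg.Agent.H17.Comp

/-! Aschbacher's theorem, part 1: enveloping algebras `env k N` of matrix groups, irreducibility
`Irr H`, conjugation `cjA g`, Wedderburn's theorem for finite semiprimitive algebras with centre the
ground field (`wedderburn`), and the group-theoretic case division `core_cases`. -/

set_option autoImplicit false
set_option linter.unusedSectionVars false

namespace H29

open Matrix Cfsg.Geo Module
open scoped commutatorElement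

theorem wedderburn {k R : Type*} [Field k] [Ring R] [Nontrivial R] [Algebra k R] [Finite R]
    (hJ : ∀ x : R, (∀ y, IsNilpotent (y * x)) → x = 0)
    (hZ : ∀ x : R, (∀ y, x * y = y * x) → ∃ c : k, x = algebraMap k R c) :
    ∃ d, 0 < d ∧ Nonempty (Matrix (Fin d) (Fin d) k ≃ₐ[k] R) := by
  have hss : IsSemisimpleRing R := IsArtinianRing.isSemisimpleRing_iff_jacobson.2 (by
    rw [eq_bot_iff]
    intro x hx
    obtain ⟨n, hn⟩ := IsArtinianRing.isNilpotent_jacobson_bot (R := R)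
    rw [Ideal.jacobson_bot] at hn
    refine hJ x fun y => ⟨n, ?_⟩
    have := Ideal.pow_mem_pow (Ideal.mul_mem_left _ y hx) n
    rwa [hn] at this)
  have hs : IsSimpleRing R := IsSimpleRing.of_eq_bot_or_eq_top fun I => by
    obtain ⟨e, he, hI⟩ := IsSemisimpleRing.ideal_eq_span_idempotent I.asIdeal
    have heI : e ∈ I := by
      have : e ∈ I.asIdeal := hI ▸ Ideal.subset_span rfl
      simpa using this
    have h1 : ∀ x ∈ I, x * e = x := fun x hx => by
      have : x ∈ Ideal.span {e} := hI ▸ (by simpa using hx)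
      obtain ⟨a, rfl⟩ := Ideal.mem_span_singleton'.1 this
      rw [mul_assoc, he.eq]
    have h2 : ∀ a, e * a * e = e * a := fun a => h1 _ (I.mul_mem_right _ _ heI)
    have h3 : ∀ a, (1 - e) * a * e = 0 := fun a => hJ _ fun y => ⟨2, by
      have : e * (y * (1 - e)) = 0 := by rw [mul_sub, mul_sub, mul_one, ← mul_assoc, h2, sub_self]
      calc (y * ((1 - e) * a * e)) ^ 2 = y * ((1 - e) * a) * (e * (y * (1 - e))) * (a * e) := by
            noncomm_ring
        _ = 0 := by rw [this]; simp⟩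
    obtain ⟨c, hc⟩ := hZ e fun a => by
      have := h3 a
      rw [sub_mul, sub_mul, one_mul, h2, sub_eq_zero] at this
      exact this.symm
    by_cases h0 : c = 0
    · left
      rw [eq_bot_iff]
      intro x hx
      rw [← h1 x hx, hc, h0]
      simp
    · right
      refine (TwoSidedIdeal.one_mem_iff I).1 ?_
      have := I.mul_mem_left (algebraMap k R c⁻¹) _ heI
      rwa [hc, ← map_mul, inv_mul_cancel₀ h0, map_one] at this
  have : Module.Finite k R := Module.Finite.of_finite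
  obtain ⟨n, hn, D, _, _, _, ⟨e⟩⟩ := IsSimpleRing.exists_algEquiv_matrix_divisionRing_finite k R
  have hD : Finite D := Finite.of_injective (fun c : D => e.symm (Matrix.scalar (Fin n) c))
    (e.symm.injective.comp fun _ _ h => Matrix.scalar_inj.1 h)
  have hb : Function.Bijective (algebraMap k D) := ⟨(algebraMap k D).injective, fun c => by
    obtain ⟨a, ha⟩ := hZ (e.symm (Matrix.scalar (Fin n) c)) fun y => e.injective (by
      rw [map_mul, map_mul, e.apply_symm_apply]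
      exact Matrix.scalar_commute c
        (fun b => (Finite.isDomain_to_isField D).mul_comm c b) (e y))
    refine ⟨a, (Matrix.scalar_inj (n := Fin n)).1 ?_⟩
    rw [← e.apply_symm_apply (Matrix.scalar (Fin n) c), ha, AlgEquiv.commutes]
    rfl⟩
  exact ⟨n, Nat.pos_of_ne_zero hn.out,
    ⟨(AlgEquiv.mapMatrix (AlgEquiv.ofBijective (Algebra.ofId k D) hb)).trans e.symm⟩⟩

variable {F : Type*} [Field F] {ι : Type} [Fintype ι] [DecidableEq ι]

/-- irreducibility -/
def Irr (H : Subgroup (GL ι F)) : Prop :=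
  ∀ W : Submodule F (ι → F), (∀ g ∈ H, ∀ x ∈ W, (g : Matrix ι ι F) *ᵥ x ∈ W) → W = ⊥ ∨ W = ⊤

/-- `H` normalises `N` -/
def Nml {G : Type*} [Group G] (H N : Subgroup G) : Prop := ∀ h ∈ H, ∀ x ∈ N, h * x * h⁻¹ ∈ N

theorem nml_iff {G : Type*} [Group G] {H N : Subgroup G} :
    Nml H N ↔ H ≤ Subgroup.normalizer (N : Set G) :=
  ⟨fun h g hg x => ⟨h g hg x, fun hx => by simpa [mul_assoc] using h g⁻¹ (H.inv_mem hg) _ hx⟩,
    fun h g hg x hx => (h hg x).1 hx⟩

/-- conjugation -/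
def cjA (g : GL ι F) : Matrix ι ι F ≃ₐ[F] Matrix ι ι F where
  toFun a := g * a * (g⁻¹ : GL ι F)
  invFun a := (g⁻¹ : GL ι F) * a * g
  left_inv a := by simp [mul_assoc, ← mul_assoc (g : Matrix ι ι F)⁻¹]
  right_inv a := by simp [mul_assoc, ← mul_assoc (g : Matrix ι ι F)]
  map_mul' a b := by simp [mul_assoc, ← mul_assoc (g : Matrix ι ι F)⁻¹]
  map_add' a b := by simp [mul_add, add_mul]
  commutes' c := by simp [Algebra.algebraMap_eq_smul_one]

theorem cjA_apply (g : GL ι F) (a : Matrix ι ι F) : cjA g a = g * a * (g⁻¹ : GL ι F) := rfl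

theorem cjA_coe (g x : GL ι F) : cjA g x = (g * x * g⁻¹ : GL ι F) := rfl

theorem cjA_mul (g h : GL ι F) (a : Matrix ι ι F) : cjA (g * h) a = cjA g (cjA h a) := by
  simp only [cjA_apply, _root_.mul_inv_rev, Units.val_mul, mul_assoc]

@[simp] theorem cjA_one (a : Matrix ι ι F) : cjA 1 a = a := by simp [cjA_apply]

@[simp] theorem cjA_inv_cjA (g : GL ι F) (a : Matrix ι ι F) : cjA g⁻¹ (cjA g a) = a := by
  rw [← cjA_mul, inv_mul_cancel, cjA_one]

@[simp] theorem cjA_cjA_inv (g : GL ι F) (a : Matrix ι ι F) : cjA g (cjA g⁻¹ a) = a := by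
  rw [← cjA_mul, mul_inv_cancel, cjA_one]

theorem cjA_mul_self (g : GL ι F) (a : Matrix ι ι F) : cjA g a * g = g * a := by
  rw [cjA_apply, mul_assoc, Units.inv_mul, mul_one]

theorem cjA_eq_iff {g : GL ι F} {a b : Matrix ι ι F} : cjA g a = b ↔ g * a = b * g :=
  ⟨fun h => by rw [← h, cjA_mul_self], fun h => by
    rw [cjA_apply, h, mul_assoc, Units.mul_inv, mul_one]⟩

theorem cjA_mulVec (g : GL ι F) (a : Matrix ι ι F) (x : ι → F) :
    cjA g a *ᵥ ((g : Matrix ι ι F) *ᵥ x) = (g : Matrix ι ι F) *ᵥ (a *ᵥ x) := by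
  rw [mulVec_mulVec, mulVec_mulVec, cjA_mul_self]

@[simp] theorem inv_mulVec_mulVec (g : GL ι F) (x : ι → F) :
    ((g⁻¹ : GL ι F) : Matrix ι ι F) *ᵥ ((g : Matrix ι ι F) *ᵥ x) = x := by
  rw [mulVec_mulVec, Units.inv_mul, one_mulVec]

@[simp] theorem mulVec_inv_mulVec (g : GL ι F) (x : ι → F) :
    (g : Matrix ι ι F) *ᵥ (((g⁻¹ : GL ι F) : Matrix ι ι F) *ᵥ x) = x := by
  rw [mulVec_mulVec, Units.mul_inv, one_mulVec]

theorem ext_mulVec {a b : Matrix ι ι F} (h : ∀ x, a *ᵥ x = b *ᵥ x) : a = b :=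
  Matrix.toLin'.injective (LinearMap.ext h)

/-- `H` normalises the set of matrices `A` -/
def NmlA (H : Subgroup (GL ι F)) (A : Set (Matrix ι ι F)) : Prop := ∀ g ∈ H, ∀ a ∈ A, cjA g a ∈ A

/-- scalar matrices -/
def Sc (a : Matrix ι ι F) : Prop := ∃ c : F, a = c • (1 : Matrix ι ι F)

theorem mem_scalars {g : GL ι F} [Nonempty ι] : g ∈ scalars ι F ↔ Sc (g : Matrix ι ι F) := by
  rw [mem_scalars_iff]
  refine ⟨fun ⟨c, h⟩ => ⟨c, h⟩, fun ⟨c, h⟩ => ⟨Units.mk0 c fun h0 => ?_, h⟩⟩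
  exact g.ne_zero (by rw [h, h0, zero_smul])

theorem Sc.commute {a : Matrix ι ι F} (h : Sc a) (b : Matrix ι ι F) : a * b = b * a := by
  obtain ⟨c, rfl⟩ := h
  simp

theorem sc_of_comm {a : Matrix ι ι F} (h : ∀ b, a * b = b * a) : Sc a := by
  obtain ⟨c, hc⟩ := Matrix.mem_range_scalar_of_commute_single (M := a) fun i j _ => (h _).symm
  exact ⟨c, by rw [← hc, smul_one_eq_diagonal]; rfl⟩

theorem scalars_comm {z : GL ι F} (hz : z ∈ scalars ι F) (g : GL ι F) : z * g = g * z := by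
  obtain ⟨c, hc⟩ := (mem_scalars_iff z).1 hz
  exact Units.ext (Sc.commute ⟨(c : F), hc⟩ _)

/-- the scalar matrix of a unit -/
def scU (c : Fˣ) : GL ι F := Units.map (Matrix.scalar ι : F →+* Matrix ι ι F).toMonoidHom c

@[simp] theorem coe_scU (c : Fˣ) : ((scU c : GL ι F) : Matrix ι ι F) = (c : F) • 1 := by
  simp [scU, smul_one_eq_diagonal]

theorem scU_mem (c : Fˣ) : (scU c : GL ι F) ∈ scalars ι F := ⟨c, rfl⟩

section env
variable (k : Type*) [CommSemiring k] [Algebra k F]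

/-- the enveloping algebra -/
def env (N : Subgroup (GL ι F)) : Subalgebra k (Matrix ι ι F) := Algebra.adjoin k (matrixSet N)

variable {k} {N : Subgroup (GL ι F)}

theorem coe_mem_env {x : GL ι F} (hx : x ∈ N) : (x : Matrix ι ι F) ∈ env k N :=
  Algebra.subset_adjoin ⟨x, hx, rfl⟩

theorem env_ind {p : Matrix ι ι F → Prop} (h1 : ∀ x ∈ N, p (x : Matrix ι ι F)) (h0 : p 0)
    (ha : ∀ a b, p a → p b → p (a + b)) (hs : ∀ (c : k) a, p a → p (c • a)) {a : Matrix ι ι F}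
    (h : a ∈ env k N) : p a := by
  have h' : a ∈ Subalgebra.toSubmodule (Algebra.adjoin k (matrixSet N)) := h
  rw [Algebra.adjoin_eq_span] at h'
  clear h
  induction h' using Submodule.span_induction with
  | mem x hx =>
    have : ∃ y ∈ N, (y : Matrix ι ι F) = x := by
      induction hx using Submonoid.closure_induction with
      | mem x hx => exact hx
      | one => exact ⟨1, N.one_mem, rfl⟩
      | mul x y _ _ hx hy =>
        obtain ⟨x, hx, rfl⟩ := hx
        obtain ⟨y, hy, rfl⟩ := hy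
        exact ⟨x * y, N.mul_mem hx hy, rfl⟩
    obtain ⟨y, hy, rfl⟩ := this
    exact h1 y hy
  | zero => exact h0
  | add x y _ _ h h' => exact ha _ _ h h'
  | smul c x _ h => exact hs _ _ h

theorem env_le {A : Subalgebra k (Matrix ι ι F)} (h : ∀ x ∈ N, (x : Matrix ι ι F) ∈ A) :
    env k N ≤ A := Algebra.adjoin_le (by rintro _ ⟨x, hx, rfl⟩; exact h x hx)

theorem env_mono {N' : Subgroup (GL ι F)} (h : N ≤ N') : env k N ≤ env k N' :=
  env_le fun _ hx => coe_mem_env (h hx)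

theorem cjA_env {N' : Subgroup (GL ι F)} {g : GL ι F} (h : ∀ x ∈ N, g * x * g⁻¹ ∈ N')
    {a : Matrix ι ι F} (ha : a ∈ env k N) : cjA g a ∈ env k N' :=
  env_ind (p := fun a => cjA g a ∈ env k N') (fun x hx => coe_mem_env (h x hx))
    (by simpa using zero_mem _) (fun a b h h' => by rw [map_add]; exact add_mem h h')
    (fun c a h => by
      rw [← algebraMap_smul F, map_smul, algebraMap_smul]; exact Subalgebra.smul_mem _ h c) ha

theorem Nml.env {H : Subgroup (GL ι F)} (h : Nml H N) : NmlA H (env k N) :=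
  fun g hg _ ha => cjA_env (h g hg) ha

theorem env_comm {b : Matrix ι ι F} (h : ∀ x ∈ N, b * x = x * b) {a : Matrix ι ι F}
    (ha : a ∈ env k N) : b * a = a * b :=
  env_ind (p := fun a => b * a = a * b) h (by simp)
    (fun _ _ h h' => by rw [mul_add, add_mul, h, h'])
    (fun c a h => by rw [Matrix.mul_smul, Matrix.smul_mul, h]) ha

theorem env_inv {W : Submodule F (ι → F)} (h : ∀ g ∈ N, ∀ x ∈ W, (g : Matrix ι ι F) *ᵥ x ∈ W)
    {a : Matrix ι ι F} (ha : a ∈ env k N) : ∀ x ∈ W, a *ᵥ x ∈ W :=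
  env_ind (p := fun a => ∀ x ∈ W, a *ᵥ x ∈ W) h (by simp)
    (fun _ _ h h' x hx => by rw [add_mulVec]; exact W.add_mem (h x hx) (h' x hx))
    (fun c a h x hx => by
      rw [← algebraMap_smul F, smul_mulVec]; exact W.smul_mem _ (h x hx)) ha

end env

theorem eq_top_of_inv {W : Submodule F (ι → F)} (h : ∀ a : Matrix ι ι F, ∀ x ∈ W, a *ᵥ x ∈ W)
    (h0 : W ≠ ⊥) : W = ⊤ := by
  obtain ⟨x, hx, hx0⟩ := Submodule.exists_mem_ne_zero_of_ne_bot h0
  obtain ⟨i, hi⟩ := Function.ne_iff.1 hx0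
  rw [eq_top_iff]
  intro y _
  have := h (vecMulVec ((x i)⁻¹ • y) (Pi.single i 1)) x hx
  rwa [vecMulVec_mulVec, single_dotProduct, one_mul, op_smul_eq_smul, smul_smul,
    mul_inv_cancel₀ hi, one_smul] at this

theorem irr_of_env {N : Subgroup (GL ι F)} (h : env F N = ⊤) : Irr N := fun W hW =>
  or_iff_not_imp_left.2 (eq_top_of_inv fun _ => env_inv (k := F) hW (h ▸ Algebra.mem_top))

theorem sc_of_env {N : Subgroup (GL ι F)} (h : env F N = ⊤) {b : Matrix ι ι F}
    (hb : ∀ x ∈ N, b * x = x * b) : Sc b :=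
  sc_of_comm fun _ => env_comm (k := F) hb (h ▸ Algebra.mem_top)

theorem absIrr_of_env {N : Subgroup (GL ι F)} (h : env F N = ⊤) :
    ActsAbsolutelyIrreducibly (matrixSet N) :=
  ⟨fun W hW => irr_of_env h W fun g hg x hx => hW _ ⟨g, hg, rfl⟩ ⟨x, hx, rfl⟩,
    fun _ hM => sc_of_env h fun x hx => hM _ ⟨x, hx, rfl⟩⟩

theorem Irr.mono {H K : Subgroup (GL ι F)} (h : Irr H) (hK : H ≤ K) : Irr K :=
  fun W hW => h W fun g hg => hW g (hK hg)

theorem Irr.not_le_scalars {H : Subgroup (GL ι F)} (h : Irr H) (hn : 2 ≤ Fintype.card ι) :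
    ¬ H ≤ scalars ι F := fun hH => by
  obtain ⟨i⟩ : Nonempty ι := Fintype.card_pos_iff.1 (by omega)
  have h0 : (Pi.single i 1 : ι → F) ≠ 0 := by simp
  rcases h (F ∙ Pi.single i 1) (fun g hg x hx => by
    obtain ⟨c, hc⟩ := (mem_scalars_iff g).1 (hH hg)
    rw [hc, smul_mulVec, one_mulVec]
    exact Submodule.smul_mem _ _ hx) with h1 | h1
  · exact h0 (by simpa using h1)
  · have := finrank_span_singleton (K := F) h0
    rw [h1] at this
    simp at this
    omega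

/-- a subring normalised by an irreducible group is semiprimitive -/
theorem eq_zero_of_nil [Finite F] (A : Subring (Matrix ι ι F))
    (h : ∀ W : Submodule F (ι → F), W ≠ ⊥ → (∀ x, x ∈ W ↔ ∀ a ∈ A, (∀ y ∈ A, IsNilpotent (y * a)) →
      a *ᵥ x = 0) → W = ⊤) {a : Matrix ι ι F} (ha : a ∈ A) (h1 : ∀ y ∈ A, IsNilpotent (y * a)) :
    a = 0 := by
  by_contra ha0
  obtain ⟨v, hv⟩ : ∃ v, a *ᵥ v ≠ 0 := by
    by_contra hc
    push Not at hc
    exact ha0 (ext_mulVec fun x => by rw [hc, zero_mulVec])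
  obtain ⟨u, ⟨hu0, hu⟩⟩ : ∃ u : ι → F, u ≠ 0 ∧ ∀ y ∈ A, y *ᵥ u ≠ 0 → ∃ z ∈ A, z *ᵥ (y *ᵥ u) = u := by
    obtain ⟨u, hu0, hmin⟩ := exists_minimalFor_of_wellFoundedLT (fun u : ι → F => u ≠ 0)
      (fun u => {x | ∃ y ∈ A, y *ᵥ u = x}) ⟨_, hv⟩
    refine ⟨u, hu0, fun y hy h0 => hmin h0 ?_ ⟨1, A.one_mem, one_mulVec _⟩⟩
    rintro _ ⟨z, hz, rfl⟩
    exact ⟨z * y, A.mul_mem hz hy, by rw [mulVec_mulVec]⟩
  let W : Submodule F (ι → F) :=
    { carrier := {x | ∀ a ∈ A, (∀ y ∈ A, IsNilpotent (y * a)) → a *ᵥ x = 0}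
      add_mem' := fun hx hy a ha h => by rw [mulVec_add, hx a ha h, hy a ha h, add_zero]
      zero_mem' := fun a _ _ => mulVec_zero a
      smul_mem' := fun c x hx a ha h => by rw [mulVec_smul, hx a ha h, smul_zero] }
  have huW : u ∈ W := fun b hb h => by
    by_contra h0
    obtain ⟨z, hz, e⟩ := hu b hb h0
    obtain ⟨n, hn⟩ := h z hz
    have : ∀ m : ℕ, (z * b) ^ m *ᵥ u = u := fun m => by
      induction m with
      | zero => simp
      | succ m ih => rw [pow_succ, ← mulVec_mulVec, ← mulVec_mulVec, e, ih]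
    exact hu0 (by rw [← this n, hn, zero_mulVec])
  have := h W (fun h0 => hu0 (by simpa [h0] using huW)) fun _ => Iff.rfl
  exact hv ((show v ∈ W from this ▸ Submodule.mem_top) a ha h1)

theorem Irr.eq_zero_of_nil [Finite F] {H : Subgroup (GL ι F)} (hH : Irr H)
    {A : Subalgebra F (Matrix ι ι F)} (hA : NmlA H A) {a : Matrix ι ι F} (ha : a ∈ A)
    (h1 : ∀ y ∈ A, IsNilpotent (y * a)) : a = 0 :=
  H29.eq_zero_of_nil A.toSubring (fun W h0 hW => (hH W fun g hg x hx => (hW _).2 fun b hb h => by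
    have := (hW x).1 hx _ (hA g⁻¹ (H.inv_mem hg) b hb) fun y hy => by
      simpa using (h _ (hA g hg y hy)).map (cjA g⁻¹)
    rw [← cjA_cjA_inv g b, cjA_mulVec, this, mulVec_zero]).resolve_left h0) ha h1

/-- every normal subgroup is scalar or absolutely irreducible -/
def Prim (H : Subgroup (GL ι F)) : Prop :=
  ∀ N ≤ H, Nml H N → N ≤ scalars ι F ∨ env F N = ⊤

theorem Prim.sup {H : Subgroup (GL ι F)} (h : Prim H) {N : Subgroup (GL ι F)}
    (hN : N ≤ H ⊔ scalars ι F) (hn : Nml H N) : N ≤ scalars ι F ∨ env F N = ⊤ := by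
  rcases h ((N ⊔ scalars ι F) ⊓ H) inf_le_right (fun g hg x hx =>
    ⟨by
      obtain ⟨y, hy, z, hz, rfl⟩ := Subgroup.mem_sup_of_normal_right.1 hx.1
      rw [show g * (y * z) * g⁻¹ = g * y * g⁻¹ * (g * z * g⁻¹) by group]
      exact Subgroup.mul_mem_sup (hn g hg y hy) (scalars_normal.1 z hz g),
    H.mul_mem (H.mul_mem hg hx.2) (H.inv_mem hg)⟩) with h1 | h1
  · refine Or.inl fun x hx => ?_
    obtain ⟨y, hy, z, hz, rfl⟩ := Subgroup.mem_sup_of_normal_right.1 (hN hx)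
    refine Subgroup.mul_mem _ (h1 ⟨?_, hy⟩) hz
    simpa using Subgroup.mul_mem_sup hx (Subgroup.inv_mem _ hz)
  · refine Or.inr (top_le_iff.1 (h1 ▸ env_le fun x hx => ?_))
    obtain ⟨y, hy, z, hz, rfl⟩ := Subgroup.mem_sup_of_normal_right.1 hx.1
    obtain ⟨c, hc⟩ := (mem_scalars_iff z).1 hz
    rw [Units.val_mul, hc, Matrix.mul_smul, mul_one]
    exact Subalgebra.smul_mem _ (coe_mem_env hy) _

structure CaseB (H M : Subgroup (GL ι F)) (r : ℕ) : Prop where
  prime : r.Prime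
  le : M ≤ H
  nml : Nml H M
  top : env F M = ⊤
  pow : ∀ x ∈ M, x ^ r ∈ scalars ι F
  comm : ∀ x ∈ M, ∀ y ∈ M, x * y * x⁻¹ * y⁻¹ ∈ scalars ι F
  min : ∀ N ≤ M, Nml H N → N ≤ scalars ι F ∨ N = M

structure CaseC (H : Subgroup (GL ι F)) {t : ℕ} (P : Fin t → Subgroup (GL ι F)) : Prop where
  two : 2 ≤ t
  le : ∀ i, P i ≤ H
  perfect : ∀ i, ⁅P i, P i⁆ = P i
  ne : ∀ i, P i ≠ ⊥
  comm : ∀ i j, i ≠ j → ∀ x ∈ P i, ∀ y ∈ P j, x * y = y * x
  perm : ∀ h ∈ H, ∃ π : Equiv.Perm (Fin t), ∀ i, ∀ x ∈ P i, h * x * h⁻¹ ∈ P (π i)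
  trans : ∀ i j, ∃ h ∈ H, ∀ x, x ∈ P i ↔ h * x * h⁻¹ ∈ P j
  top : env F (⨆ i, P i) = ⊤

structure CaseD (H P : Subgroup (GL ι F)) : Prop where
  le : P ≤ H
  nml : Nml H P
  perfect : ⁅P, P⁆ = P
  simple : IsSimpleGroup (P ⧸ (scalars ι F).subgroupOf P)
  nonabelian : ¬ IsMulCommutative (P ⧸ (scalars ι F).subgroupOf P)
  cent : ∀ h ∈ H, (∀ x ∈ P, h * x * h⁻¹ * x⁻¹ ∈ scalars ι F) → h ∈ scalars ι F
  top : env F P = ⊤

theorem eq_bot_of_perfect_scalars {P : Subgroup (GL ι F)} (h : ⁅P, P⁆ = P)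
    (h1 : ∀ x ∈ P, ∀ y ∈ P, x * y * x⁻¹ * y⁻¹ ∈ scalars ι F) : P = ⊥ := by
  have h2 : P ≤ scalars ι F := h ▸ Subgroup.commutator_le.2 h1
  rw [← h, eq_bot_iff, Subgroup.commutator_le]
  intro x hx y _
  rw [Subgroup.mem_bot, commutatorElement_eq_one_iff_mul_comm]
  exact scalars_comm (h2 hx) y

theorem comm_of_perfect {P : Subgroup (GL ι F)} (hP : ⁅P, P⁆ = P) {h : GL ι F}
    (h1 : ∀ x ∈ P, h * x * h⁻¹ * x⁻¹ ∈ scalars ι F) : ∀ x ∈ P, h * x = x * h := by
  have : P ≤ Subgroup.centralizer {h} := by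
    rw [← hP, Subgroup.commutator_le]
    intro x hx y hy
    rw [Subgroup.mem_centralizer_singleton_iff]
    obtain ⟨a, ha, e1⟩ : ∃ a ∈ scalars ι F, h * x * h⁻¹ = a * x := ⟨_, h1 x hx, by group⟩
    obtain ⟨b, hb, e2⟩ : ∃ a ∈ scalars ι F, h * y * h⁻¹ = a * y := ⟨_, h1 y hy, by group⟩
    have e3 : h * ⁅x, y⁆ * h⁻¹ = ⁅x, y⁆ := by
      rw [conjugate_commutatorElement, e1, e2, commutatorElement_def, commutatorElement_def]
      calc a * x * (b * y) * (a * x)⁻¹ * (b * y)⁻¹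
          = a * (x * (b * y) * x⁻¹) * a⁻¹ * y⁻¹ * b⁻¹ := by group
        _ = x * y * x⁻¹ * y⁻¹ := by
          rw [scalars_comm ha, mul_inv_cancel_right, scalars_comm hb, mul_assoc x, mul_assoc x,
            mul_assoc x, mul_assoc y, mul_assoc y, mul_assoc y, mul_assoc b, mul_assoc b,
            scalars_comm hb]
          group
    rw [← e3]
    conv_rhs => rw [e3]
    group
  exact fun x hx => (Subgroup.mem_centralizer_singleton_iff.1 (this hx)).symm

theorem core_cases [Finite F] {H : Subgroup (GL ι F)} (hH : Irr H) (hn : 2 ≤ Fintype.card ι)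
    (hP : Prim H) : (∃ M r, CaseB H M r) ∨ (∃ t, ∃ P : Fin t → Subgroup (GL ι F), CaseC H P) ∨
      ∃ P, CaseD H P := by
  classical
  haveI : Nonempty ι := Fintype.card_pos_iff.1 (by omega)
  obtain ⟨M, ⟨hMH, hMn, hMs⟩, hmin⟩ := exists_minimal_of_wellFoundedLT
    (fun N : Subgroup (GL ι F) => N ≤ H ∧ Nml H N ∧ ¬ N ≤ scalars ι F)
    ⟨H, le_rfl, nml_iff.2 Subgroup.le_normalizer, hH.not_le_scalars hn⟩
  have min : ∀ N ≤ M, Nml H N → N ≤ scalars ι F ∨ N = M := fun N h1 h2 =>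
    or_iff_not_imp_left.2 fun h3 => le_antisymm h1 (hmin ⟨h1.trans hMH, h2, h3⟩ h1)
  have htop := (hP M hMH hMn).resolve_left hMs
  rcases min ⁅M, M⁆ (Subgroup.commutator_le.2 fun x hx y hy =>
    M.mul_mem (M.mul_mem (M.mul_mem hx hy) (M.inv_mem hx)) (M.inv_mem hy))
    (nml_iff.2 fun g hg => H17.mem_normalizer_iff_cj.2 (by
      rw [H17.cj_commutator, H17.mem_normalizer_iff_cj.1 (nml_iff.1 hMn hg)])) with hc | hc
  · left
    have hc' : ∀ x ∈ M, ∀ y ∈ M, x * y * x⁻¹ * y⁻¹ ∈ scalars ι F := Subgroup.commutator_le.1 hc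
    obtain ⟨x₀, hx₀, hx₀'⟩ := SetLike.not_le_iff_exists.1 hMs
    let π := QuotientGroup.mk' (scalars ι F)
    have hπ : ∀ x, π x = 1 ↔ x ∈ scalars ι F := fun x => QuotientGroup.eq_one_iff x
    obtain ⟨r, hr, m, hm⟩ := Nat.exists_prime_and_dvd (n := orderOf (π x₀))
      (by rwa [Ne, orderOf_eq_one_iff, hπ])
    let N : Subgroup (GL ι F) :=
      { carrier := {x | x ∈ M ∧ π x ^ r = 1}
        mul_mem' := fun {x y} hx hy => ⟨M.mul_mem hx.1 hy.1, by
          have : Commute (π x) (π y) := commutatorElement_eq_one_iff_commute.1 (by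
            rw [← map_commutatorElement]; exact (hπ _).2 (hc' x hx.1 y hy.1))
          rw [map_mul, this.mul_pow, hx.2, hy.2, one_mul]⟩
        one_mem' := ⟨M.one_mem, by simp⟩
        inv_mem' := fun hx => ⟨M.inv_mem hx.1, by rw [map_inv, inv_pow, hx.2, inv_one]⟩ }
    have hN : N = M := (min N (fun x hx => hx.1) fun g hg x hx => ⟨hMn g hg x hx.1, by
      rw [map_mul, map_mul, map_inv, conj_pow, hx.2]; simp⟩).resolve_left fun h => by
      have h1 := (hπ _).2 (h (x := x₀ ^ m) ⟨M.pow_mem hx₀ m, by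
        rw [map_pow, ← pow_mul, mul_comm, ← hm, pow_orderOf_eq_one]⟩)
      rw [map_pow, ← orderOf_dvd_iff_pow_eq_one, hm] at h1
      have h2 := orderOf_pos (π x₀)
      have h3 : 0 < m := Nat.pos_of_mul_pos_left (hm ▸ h2)
      have := Nat.le_of_dvd h3 h1
      nlinarith [hr.two_le]
    exact ⟨M, r, hr, hMH, hMn, htop, fun x hx => (hπ _).1 (by
      rw [map_pow]; exact (show x ∈ N from hN ▸ hx).2), hc', min⟩
  right
  have hns : ∀ K : Subgroup (GL ι F), ⁅K, K⁆ = K → K ≠ ⊥ → ¬ K ≤ scalars ι F := fun K h1 h2 h3 =>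
    h2 (eq_bot_of_perfect_scalars h1 fun x hx y hy => h3
      (K.mul_mem (K.mul_mem (K.mul_mem hx hy) (K.inv_mem hx)) (K.inv_mem hy)))
  have hfit : H17.fit M ≤ scalars ι F := (min _ (H17.fit_le M) (nml_iff.2
    ((nml_iff.1 hMn).trans (H17.normalizer_le_fit M)))).resolve_right fun h =>
      hMs (by rw [H17.eq_bot_of_perfect_of_solvable (h ▸ H17.fit_solvable M) hc]; exact bot_le)
  obtain ⟨K, hK⟩ : ∃ K, H17.IsComp K M := by
    by_contra h
    push Not at h
    exact hMs fun x hx => hfit (H17.centralizer_fit_le_of_lay_eq_bot (H17.lay_eq_bot_iff.2 h)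
      ⟨hx, fun y hy => scalars_comm (hfit hy) x⟩)
  let O : Set (Subgroup (GL ι F)) := {L | ∃ g ∈ H, H17.cj g K = L}
  have hO : ∀ L ∈ O, H17.IsComp L M := by
    rintro _ ⟨g, hg, rfl⟩
    exact hK.cj_of_mem_normalizer (nml_iff.1 hMn hg)
  have hOc : ∀ h ∈ H, ∀ L ∈ O, H17.cj h L ∈ O := by
    rintro h hh _ ⟨g, hg, rfl⟩
    exact ⟨h * g, H.mul_mem hh hg, H17.cj_mul _ _ _⟩
  have hKO : K ∈ O := ⟨1, H.one_mem, H17.cj_one K⟩
  have hsup : sSup O = M := (min _ (sSup_le fun L hL => (hO L hL).le) fun g hg x hx => by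
    have : H17.cj g (sSup O) ≤ sSup O := by
      rw [Subgroup.map_le_iff_le_comap, sSup_le_iff]
      exact fun L hL => Subgroup.map_le_iff_le_comap.1 (le_sSup (hOc g hg L hL))
    exact this ⟨x, hx, rfl⟩).resolve_left fun h =>
      hns K hK.perfect hK.ne_bot ((le_sSup hKO).trans h)
  by_cases h1 : ∀ L ∈ O, L = K
  · right
    obtain rfl : K = M := le_antisymm hK.le (hsup ▸ sSup_le fun L hL => (h1 L hL).le)
    have e : (scalars ι F).subgroupOf K = Subgroup.center K := by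
      ext x
      rw [Subgroup.mem_subgroupOf, Subgroup.mem_center_iff]
      exact ⟨fun h y => Subtype.ext (scalars_comm h y).symm, fun h => mem_scalars.2
        (sc_of_env htop fun y hy => congrArg (fun z : K => ((z : GL ι F) : Matrix ι ι F))
          (h ⟨y, hy⟩).symm)⟩
    refine ⟨K, hMH, hMn, hc, ?_, fun h => hK.ne_bot (eq_bot_of_perfect_scalars hc fun x hx y hy =>
      ?_), fun h hh h2 => mem_scalars.2 (sc_of_env htop fun x hx =>
        congrArg Units.val (comm_of_perfect hc h2 x hx)), htop⟩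
    · haveI := hK.2.2
      exact (QuotientGroup.quotientMulEquivOfEq e).isSimpleGroup
    · have := h.1.1 (QuotientGroup.mk (⟨x, hx⟩ : K)) (QuotientGroup.mk ⟨y, hy⟩)
      rw [← commutatorElement_eq_one_iff_mul_comm, ← QuotientGroup.mk'_apply,
        ← QuotientGroup.mk'_apply, ← map_commutatorElement, QuotientGroup.mk'_apply,
        QuotientGroup.eq_one_iff] at this
      exact this
  left
  push Not at h1
  obtain ⟨L, hL, hLK⟩ := h1
  haveI := Fintype.ofFinite O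
  let e := (Fintype.equivFin O).symm
  refine ⟨Fintype.card O, fun i => e i, Fintype.one_lt_card_iff.2 ⟨⟨L, hL⟩, ⟨K, hKO⟩, by simpa⟩,
    fun i => (hO _ (e i).2).le.trans hMH, fun i => (hO _ (e i).2).perfect,
    fun i => (hO _ (e i).2).ne_bot, fun i j hij x hx y hy => ?_, fun h hh => ?_, fun i j => ?_, ?_⟩
  · have := ((hO _ (e i).2).eq_or_commutator (hO _ (e j).2)).resolve_left
      fun h => hij (e.injective (Subtype.ext h))
    exact commutatorElement_eq_one_iff_mul_comm.1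
      (Subgroup.mem_bot.1 (this ▸ Subgroup.commutator_mem_commutator hx hy))
  · let φ : O → O := fun L => ⟨H17.cj h L, hOc h hh L L.2⟩
    have hφ : Function.Injective φ := fun a b hab =>
      Subtype.ext (H17.cj_injective h (congrArg Subtype.val hab))
    refine ⟨e.trans ((Equiv.ofBijective φ (Finite.injective_iff_bijective.1 hφ)).trans e.symm),
      fun i x hx => ?_⟩
    simp only [Equiv.trans_apply, Equiv.apply_symm_apply, Equiv.ofBijective_apply]
    exact ⟨x, hx, rfl⟩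
  · obtain ⟨g, hg, e1⟩ := (e i).2
    obtain ⟨g', hg', e2⟩ := (e j).2
    refine ⟨g' * g⁻¹, H.mul_mem hg' (H.inv_mem hg), fun x => ?_⟩
    rw [← e1, ← e2, H17.mem_cj, H17.mem_cj]
    simp [mul_assoc]
  · rw [← htop, ← hsup, sSup_eq_iSup', ← e.iSup_comp]

end H29
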