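import Cfsg.Agent.H29.As1

/-! Aschbacher's theorem, part 2: coordinates `Φ T`, Skolem-Noether (`exists_inner`), matrix units
(`algHom_of_units`), tensor factorisation along a matrix subalgebra (`exists_kron`, `nml_kron`),
tensor powers (`ten`, `pm`, `exists_ten`, `nml_ten`), bridges to the Prelude (`coordT`). -/

set_option autoImplicit false
set_option linter.unusedSectionVars false

namespace H29

open Matrix Cfsg.Geo Module
open scoped Kronecker

variable {F : Type*} [Field F] {ι κ μ : Type} [Fintype ι] [DecidableEq ι] [Fintype κ]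
  [DecidableEq κ] [Fintype μ] [DecidableEq μ]

/-- transport of matrices along coordinates -/
noncomputable def Φ (T : (κ → F) ≃ₗ[F] (ι → F)) : Matrix κ κ F ≃ₐ[F] Matrix ι ι F :=
  Matrix.toLinAlgEquiv'.trans ((T.conjAlgEquiv F).trans Matrix.toLinAlgEquiv'.symm)

theorem Φ_mulVec (T : (κ → F) ≃ₗ[F] (ι → F)) (X : Matrix κ κ F) (x : κ → F) :
    Φ T X *ᵥ T x = T (X *ᵥ x) := by
  have := Matrix.toLinAlgEquiv'_apply (Φ T X) (T x)
  rw [← this]
  simp [Φ, LinearEquiv.conjAlgEquiv_apply, Matrix.toLinAlgEquiv'_apply]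

theorem eq_Φ {T : (κ → F) ≃ₗ[F] (ι → F)} {a : Matrix ι ι F} {X : Matrix κ κ F}
    (h : ∀ x, a *ᵥ T x = T (X *ᵥ x)) : a = Φ T X :=
  ext_mulVec fun x => by rw [← T.apply_symm_apply x, h, Φ_mulVec]

theorem exists_Φ (ψ : Matrix κ κ F ≃ₐ[F] Matrix ι ι F) : ∃ T, ∀ X, ψ X = Φ T X := by
  obtain ⟨T, hT⟩ := (Matrix.toLinAlgEquiv'.symm.trans
    (ψ.trans Matrix.toLinAlgEquiv')).eq_linearEquivConjAlgEquiv
  exact ⟨T, fun X => by simp [Φ, ← hT]⟩

/-- the unit attached to an invertible matrix in coordinates -/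
noncomputable def ΦU (T : (κ → F) ≃ₗ[F] (ι → F)) : GL κ F ≃* GL ι F :=
  Units.mapEquiv (Φ T).toMulEquiv

@[simp] theorem coe_ΦU (T : (κ → F) ≃ₗ[F] (ι → F)) (g : GL κ F) :
    ((ΦU T g : GL ι F) : Matrix ι ι F) = Φ T g := rfl

theorem Φ_cjA (T : (κ → F) ≃ₗ[F] (ι → F)) (g : GL κ F) (X : Matrix κ κ F) :
    Φ T (cjA g X) = cjA (ΦU T g) (Φ T X) := by
  rw [cjA_apply, cjA_apply, map_mul, map_mul, ← map_inv]
  rfl

theorem exists_inner (ψ : Matrix κ κ F ≃ₐ[F] Matrix κ κ F) : ∃ g : GL κ F, ∀ X, ψ X = cjA g X := by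
  obtain ⟨T, hT⟩ := exists_Φ ψ
  refine ⟨H11.glEquiv.symm T, fun X => ?_⟩
  rw [hT, eq_comm, cjA_eq_iff]
  refine ext_mulVec fun x => ?_
  rw [← mulVec_mulVec, ← mulVec_mulVec, glEquiv_symm_mulVec, glEquiv_symm_mulVec, Φ_mulVec]

theorem exists_inner_of_range [Nonempty κ] {R : Type*} [Ring R] [Nontrivial R] [Algebra F R]
    (φ φ' : Matrix κ κ F →ₐ[F] R) (h : ∀ X, ∃ Y, φ Y = φ' X) :
    ∃ a : GL κ F, ∀ X, φ' X = φ (cjA a X) := by
  let e := AlgEquiv.ofInjective φ φ.toRingHom.injective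
  let ψ : Matrix κ κ F →ₐ[F] Matrix κ κ F := e.symm.toAlgHom.comp (φ'.codRestrict φ.range h)
  have h1 : Function.Injective ψ := ψ.toRingHom.injective
  obtain ⟨a, ha⟩ := exists_inner (AlgEquiv.ofBijective ψ
    ⟨h1, (LinearMap.injective_iff_surjective (f := ψ.toLinearMap)).1 h1⟩)
  refine ⟨a, fun X => ?_⟩
  rw [← ha]
  exact (congrArg Subtype.val (e.apply_symm_apply ⟨φ' X, h X⟩)).symm

theorem algHom_of_units {R : Type*} [Ring R] [Algebra F R] (E : κ → κ → R)
    (hmul : ∀ a b c d, E a b * E c d = if b = c then E a d else 0) (hone : ∑ a, E a a = 1) :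
    ∃ Θ : Matrix κ κ F →ₐ[F] R, ∀ X, Θ X = ∑ a, ∑ b, X a b • E a b := by
  let L : Matrix κ κ F →ₗ[F] R :=
    { toFun := fun X => ∑ a, ∑ b, X a b • E a b
      map_add' := fun X Y => by simp [add_smul, Finset.sum_add_distrib]
      map_smul' := fun c X => by simp [Finset.smul_sum, mul_smul] }
  have hL : ∀ a b c, L (single a b c) = c • E a b := fun a b c => by
    simp [L, single_apply, ite_and, ite_smul]
  refine ⟨AlgHom.ofLinearMap L (by simp [L, Matrix.one_apply, ite_smul, hone]) fun X Y => ?_,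
    fun _ => rfl⟩
  induction X using Matrix.induction_on' with
  | h_zero => simp
  | h_add p q hp hq => rw [add_mul, map_add, map_add, hp, hq, add_mul]
  | h_std_basis a b x =>
    induction Y using Matrix.induction_on' with
    | h_zero => simp
    | h_add p q hp hq => rw [mul_add, map_add, map_add, hp, hq, mul_add]
    | h_std_basis c d y =>
      rw [hL, hL, smul_mul_smul_comm, hmul]
      split_ifs with h
      · subst h; rw [single_mul_single_same, hL]
      · rw [single_mul_single_of_ne _ _ _ _ h, map_zero, smul_zero]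

theorem exists_kron [Nonempty κ] (φ : Matrix κ κ F →ₐ[F] Matrix ι ι F) :
    ∃ m, ∃ T : (κ × Fin m → F) ≃ₗ[F] (ι → F), ∀ X, φ X = Φ T (X ⊗ₖ (1 : Matrix (Fin m) (Fin m) F)) := by
  obtain ⟨o⟩ := ‹Nonempty κ›
  let W := LinearMap.range (Matrix.toLin' (φ (single o o 1)))
  let b := Module.finBasis F W
  have hW : ∀ w : W, φ (single o o 1) *ᵥ (w : ι → F) = w := by
    rintro ⟨_, v, rfl⟩
    simp only [toLin'_apply, mulVec_mulVec, ← map_mul, single_mul_single_same, mul_one]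
  let T₀ : (κ × Fin (finrank F W) → F) →ₗ[F] (ι → F) :=
    ∑ a, Matrix.toLin' (φ (single a o 1)) ∘ₗ W.subtype ∘ₗ b.equivFun.symm.toLinearMap ∘ₗ
      LinearMap.funLeft F F fun j => (a, j)
  have hT : ∀ x, T₀ x = ∑ a, φ (single a o 1) *ᵥ (b.equivFun.symm fun j => x (a, j) : W) :=
    fun x => by simp only [T₀, LinearMap.sum_apply]; rfl
  have h1 : ∀ x a, φ (single o a 1) *ᵥ T₀ x = (b.equivFun.symm fun j => x (a, j) : W) := by
    intro x a
    rw [hT, mulVec_sum, Finset.sum_eq_single a (fun c _ hc => by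
      rw [mulVec_mulVec, ← map_mul, single_mul_single_of_ne _ _ _ _ hc.symm, map_zero,
        zero_mulVec]) (by simp), mulVec_mulVec, ← map_mul, single_mul_single_same, mul_one, hW]
  have h2 : ∀ v, ∑ a, φ (single a o 1) *ᵥ (φ (single o a 1) *ᵥ v) = v := fun v => by
    simp only [mulVec_mulVec, ← map_mul, single_mul_single_same, mul_one]
    rw [← sum_mulVec, ← map_sum, sum_single_one, map_one, one_mulVec]
  have hsurj : Function.Surjective T₀ := fun v => by
    have hw : ∀ a, φ (single o a 1) *ᵥ v ∈ W := fun a => ⟨φ (single o a 1) *ᵥ v, by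
      rw [toLin'_apply, mulVec_mulVec, ← map_mul, single_mul_single_same, mul_one]⟩
    obtain ⟨c, hc⟩ : ∃ c : κ → Fin (finrank F W) → F,
        ∀ a, ((b.equivFun.symm (c a) : W) : ι → F) = φ (single o a 1) *ᵥ v :=
      ⟨fun a => b.equivFun ⟨_, hw a⟩, fun a => by rw [LinearEquiv.symm_apply_apply]⟩
    refine ⟨fun p => c p.1 p.2, ?_⟩
    rw [hT, ← h2 v]
    exact Finset.sum_congr rfl fun a _ => by rw [← hc a]
  have hb : Function.Bijective T₀ := ⟨(injective_iff_map_eq_zero _).2 fun x hx => by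
    ext ⟨a, j⟩
    have := h1 x a
    rw [hx, mulVec_zero, eq_comm, ZeroMemClass.coe_eq_zero, LinearEquiv.map_eq_zero_iff] at this
    exact congrFun this j, hsurj⟩
  refine ⟨_, LinearEquiv.ofBijective T₀ hb, fun X => eq_Φ fun x => ?_⟩
  simp only [LinearEquiv.ofBijective_apply]
  rw [← h2 (T₀ (_ *ᵥ _)), hT x, mulVec_sum]
  simp only [h1]
  have h3 : ∀ a, φ X * φ (single a o 1) = ∑ c, X c a • φ (single c o 1) := fun a => by
    simp only [← map_smul, ← map_sum, ← map_mul]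
    congr 1
    ext i j
    simp [Matrix.mul_apply, Matrix.sum_apply, single_apply, ite_and]
  have h4 : ∀ c, (fun j => ((X ⊗ₖ (1 : Matrix (Fin (finrank F W)) (Fin (finrank F W)) F)) *ᵥ x) (c, j)) =
      ∑ a, X c a • fun j => x (a, j) := fun c => by
    ext j
    simp [mulVec, dotProduct, Fintype.sum_prod_type, Matrix.one_apply]
  simp only [mulVec_mulVec, h3, sum_mulVec, smul_mulVec, h4, map_sum, map_smul,
    AddSubmonoidClass.coe_finset_sum, SetLike.val_smul, mulVec_sum, mulVec_smul]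
  exact Finset.sum_comm

/-- the first tensor factor -/
def kronL (F : Type*) [Field F] (κ μ : Type) [Fintype κ] [DecidableEq κ] [Fintype μ]
    [DecidableEq μ] : Matrix κ κ F →ₐ[F] Matrix (κ × μ) (κ × μ) F where
  toFun X := X ⊗ₖ (1 : Matrix μ μ F)
  map_one' := one_kronecker_one
  map_mul' X Y := by rw [← mul_kronecker_mul, mul_one]
  map_zero' := zero_kronecker _
  map_add' X Y := add_kronecker _ _ _
  commutes' c := by
    rw [Algebra.algebraMap_eq_smul_one, Algebra.algebraMap_eq_smul_one, smul_kronecker,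
      one_kronecker_one]

/-- the second tensor factor -/
def kronR (F : Type*) [Field F] (κ μ : Type) [Fintype κ] [DecidableEq κ] [Fintype μ]
    [DecidableEq μ] : Matrix μ μ F →ₐ[F] Matrix (κ × μ) (κ × μ) F where
  toFun X := (1 : Matrix κ κ F) ⊗ₖ X
  map_one' := one_kronecker_one
  map_mul' X Y := by rw [← mul_kronecker_mul, mul_one]
  map_zero' := kronecker_zero _
  map_add' X Y := kronecker_add _ _ _
  commutes' c := by
    rw [Algebra.algebraMap_eq_smul_one, Algebra.algebraMap_eq_smul_one, kronecker_smul,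
      one_kronecker_one]

@[simp] theorem kronL_apply (X : Matrix κ κ F) : kronL F κ μ X = X ⊗ₖ (1 : Matrix μ μ F) := rfl
@[simp] theorem kronR_apply (X : Matrix μ μ F) : kronR F κ μ X = (1 : Matrix κ κ F) ⊗ₖ X := rfl

theorem comm_kron [Nonempty κ] {Y : Matrix (κ × μ) (κ × μ) F}
    (h : ∀ X : Matrix κ κ F, Y * X ⊗ₖ (1 : Matrix μ μ F) = X ⊗ₖ (1 : Matrix μ μ F) * Y) :
    ∃ B : Matrix μ μ F, Y = (1 : Matrix κ κ F) ⊗ₖ B := by
  obtain ⟨o⟩ := ‹Nonempty κ›
  refine ⟨of fun j l => Y (o, j) (o, l), ?_⟩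
  ext ⟨a, j⟩ ⟨c, l⟩
  have := congrFun₂ (h (single c o 1)) (a, j) (o, l)
  simp only [Matrix.mul_apply, Fintype.sum_prod_type, kroneckerMap_apply, single_apply,
    Matrix.one_apply, ite_and] at this
  simp only [kroneckerMap_apply, Matrix.one_apply, of_apply]
  simpa [eq_comm] using this

/-- the Kronecker product of invertible matrices -/
def kronU (a : GL κ F) (b : GL μ F) : GL (κ × μ) F where
  val := (a : Matrix κ κ F) ⊗ₖ (b : Matrix μ μ F)
  inv := ((a⁻¹ : GL κ F) : Matrix κ κ F) ⊗ₖ ((b⁻¹ : GL μ F) : Matrix μ μ F)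
  val_inv := by rw [← mul_kronecker_mul, Units.mul_inv, Units.mul_inv, one_kronecker_one]
  inv_val := by rw [← mul_kronecker_mul, Units.inv_mul, Units.inv_mul, one_kronecker_one]

theorem nml_kron [Nonempty κ] [Nonempty μ] {g : GL (κ × μ) F}
    (h : ∀ X : Matrix κ κ F, ∃ Y : Matrix κ κ F,
      Y ⊗ₖ (1 : Matrix μ μ F) = cjA g (X ⊗ₖ (1 : Matrix μ μ F))) :
    ∃ (a : GL κ F) (b : GL μ F), (g : Matrix (κ × μ) (κ × μ) F) =
      (a : Matrix κ κ F) ⊗ₖ (b : Matrix μ μ F) := by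
  obtain ⟨a, ha⟩ := exists_inner_of_range (kronL F κ μ) ((cjA g).toAlgHom.comp (kronL F κ μ)) h
  have key : ∀ u : GL (κ × μ) F, (∀ X, cjA u (kronL F κ μ X) = kronL F κ μ X) →
      ∃ B : Matrix μ μ F, (u : Matrix (κ × μ) (κ × μ) F) = (1 : Matrix κ κ F) ⊗ₖ B :=
    fun u hu => comm_kron fun X => cjA_eq_iff.1 (hu X)
  have h1 : ∀ X, cjA ((kronU a 1)⁻¹ * g) (kronL F κ μ X) = kronL F κ μ X := fun X => by
    rw [cjA_mul, show cjA g (kronL F κ μ X) = _ from ha X, cjA_eq_iff]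
    change (_ ⊗ₖ _) * (_ ⊗ₖ _) = (_ ⊗ₖ _) * (_ ⊗ₖ _)
    rw [← mul_kronecker_mul, ← mul_kronecker_mul, ← cjA_mul_self, cjA_inv_cjA, one_mul, mul_one]
  obtain ⟨B, hB⟩ := key _ h1
  obtain ⟨C, hC⟩ := key ((kronU a 1)⁻¹ * g)⁻¹ fun X => by
    conv_lhs => rw [← h1 X, cjA_inv_cjA]
  have h2 : B * C = 1 := (kronR F κ μ).toRingHom.injective (by
    change kronR F κ μ (B * C) = kronR F κ μ 1
    rw [map_mul, map_one, kronR_apply, kronR_apply, ← hB, ← hC, Units.mul_inv])
  refine ⟨a, ⟨B, C, h2, mul_eq_one_comm.1 h2⟩, ?_⟩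
  rw [← mul_inv_cancel_left (kronU a 1) g, Units.val_mul, hB]
  change (_ ⊗ₖ _) * (_ ⊗ₖ _) = _
  rw [← mul_kronecker_mul, mul_one, Units.val_one, one_mul]

theorem kron_unique {A A' : Matrix κ κ F} {B B' : Matrix μ μ F} (h : A ⊗ₖ B = A' ⊗ₖ B')
    (hA : A ≠ 0) (hB : B ≠ 0) : ∃ c : F, c ≠ 0 ∧ A' = c • A ∧ B' = c⁻¹ • B := by
  obtain ⟨i, j, h1⟩ : ∃ i j, A i j ≠ 0 := by
    by_contra hc; push Not at hc; exact hA (by ext i j; exact hc i j)
  obtain ⟨k, l, h2⟩ : ∃ i j, B i j ≠ 0 := by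
    by_contra hc; push Not at hc; exact hB (by ext i j; exact hc i j)
  have e : ∀ a b c d, A a b * B c d = A' a b * B' c d := fun a b c d => congrFun₂ h (a, c) (b, d)
  have h3 : A' i j ≠ 0 ∧ B' k l ≠ 0 := mul_ne_zero_iff.1 (e i j k l ▸ mul_ne_zero h1 h2)
  refine ⟨A' i j / A i j, div_ne_zero h3.1 h1, ?_, ?_⟩
  · ext a b
    simp only [Matrix.smul_apply, smul_eq_mul]
    field_simp
    exact mul_right_cancel₀ h3.2 (by
      linear_combination (A a b) * e i j k l - A i j * e a b k l)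
  · ext a b
    simp only [Matrix.smul_apply, smul_eq_mul]
    have := h3.1
    field_simp
    linear_combination -e i j a b

theorem eq_top_of_kron {A : Subalgebra F (Matrix (κ × μ) (κ × μ) F)}
    (h1 : ∀ X : Matrix κ κ F, X ⊗ₖ (1 : Matrix μ μ F) ∈ A)
    (h2 : ∀ X : Matrix μ μ F, (1 : Matrix κ κ F) ⊗ₖ X ∈ A) : A = ⊤ := by
  rw [eq_top_iff]
  intro Y _
  rw [matrix_eq_sum_single Y]
  refine sum_mem fun p _ => sum_mem fun q _ => ?_
  have := A.mul_mem (h1 (single p.1 q.1 (Y p q))) (h2 (single p.2 q.2 1))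
  rwa [← mul_kronecker_mul, mul_one, one_mul, single_kronecker_single, mul_one] at this

variable {t : ℕ}

/-- tensor product of a family of matrices -/
def ten (X : Fin t → Matrix κ κ F) : Matrix (Fin t → κ) (Fin t → κ) F :=
  of fun x y => ∏ i, X i (x i) (y i)

theorem ten_apply (X : Fin t → Matrix κ κ F) (x y : Fin t → κ) :
    ten X x y = ∏ i, X i (x i) (y i) := rfl

theorem ten_mul (X Y : Fin t → Matrix κ κ F) : ten (X * Y) = ten X * ten Y := by
  ext x y
  simp only [ten_apply, Matrix.mul_apply, Pi.mul_apply, Finset.prod_univ_sum, Fintype.piFinset_univ,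
    Finset.prod_mul_distrib]

theorem ten_single (x y : Fin t → κ) : ten (fun i => single (x i) (y i) (1 : F)) = single x y 1 := by
  ext z w
  simp only [ten_apply, single_apply, Finset.prod_ite_zero, Finset.mem_univ, true_imp_iff,
    Finset.prod_const_one, forall_and, funext_iff]

theorem ten_one : ten (1 : Fin t → Matrix κ κ F) = 1 := by
  ext z w
  simp only [ten_apply, Pi.one_apply, Matrix.one_apply, Finset.prod_ite_zero, Finset.mem_univ,
    true_imp_iff, Finset.prod_const_one, funext_iff]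

theorem ten_smul (c : Fin t → F) (X : Fin t → Matrix κ κ F) :
    ten (fun i => c i • X i) = (∏ i, c i) • ten X := by
  ext z w
  simp [ten_apply, Finset.prod_mul_distrib]

/-- tensor product of invertible matrices -/
def tenU (a : Fin t → GL κ F) : GL (Fin t → κ) F where
  val := ten fun i => a i
  inv := ten fun i => ((a i)⁻¹ : GL κ F)
  val_inv := by rw [← ten_mul, ← ten_one]; congr 1; ext1 i; simp
  inv_val := by rw [← ten_mul, ← ten_one]; congr 1; ext1 i; simp

/-- permutation of the tensor factors -/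
def pm (F : Type*) [Field F] (κ : Type) [Fintype κ] [DecidableEq κ] (π : Equiv.Perm (Fin t)) :
    Matrix (Fin t → κ) (Fin t → κ) F := of fun x y => if y = x ∘ π then 1 else 0

theorem pm_mul (π : Equiv.Perm (Fin t)) (M : Matrix (Fin t → κ) (Fin t → κ) F) (x y : Fin t → κ) :
    (pm F κ π * M) x y = M (x ∘ π) y := by simp [pm, Matrix.mul_apply]

theorem mul_pm (π : Equiv.Perm (Fin t)) (M : Matrix (Fin t → κ) (Fin t → κ) F) (x y : Fin t → κ) :
    (M * pm F κ π) x y = M x (y ∘ π.symm) := by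
  simp only [pm, Matrix.mul_apply, of_apply, ← Equiv.comp_symm_eq]
  simp

theorem pm_mul_ten (π : Equiv.Perm (Fin t)) (X : Fin t → Matrix κ κ F) :
    pm F κ π * ten X = ten (X ∘ π.symm) * pm F κ π := by
  ext x y
  rw [pm_mul, mul_pm, ten_apply, ten_apply]
  exact Fintype.prod_equiv π _ _ (by simp)

/-- the permutation of the tensor factors as an invertible matrix -/
def pmU (F : Type*) [Field F] (κ : Type) [Fintype κ] [DecidableEq κ] (π : Equiv.Perm (Fin t)) :
    GL (Fin t → κ) F where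
  val := pm F κ π
  inv := pm F κ π.symm
  val_inv := by ext x y; rw [pm_mul]; simp [pm, Matrix.one_apply, Function.comp_assoc, eq_comm]
  inv_val := by ext x y; rw [pm_mul]; simp [pm, Matrix.one_apply, Function.comp_assoc, eq_comm]

theorem prod_ofFn_mul {R : Type*} [Monoid R] {t : ℕ} (f g : Fin t → R)
    (h : ∀ i j, i ≠ j → Commute (g i) (f j)) :
    (List.ofFn (f * g)).prod = (List.ofFn f).prod * (List.ofFn g).prod := by
  induction t with
  | zero => simp
  | succ t ih =>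
    simp only [List.ofFn_succ, List.prod_cons, Pi.mul_apply]
    have h1 : Commute (g 0) (List.ofFn fun i : Fin t => f i.succ).prod :=
      Commute.list_prod_right _ _ fun x hx => by
        obtain ⟨i, rfl⟩ := List.mem_ofFn.1 hx
        exact h _ _ (Fin.succ_ne_zero i).symm
    have := ih (fun i => f i.succ) (fun i => g i.succ) fun i j hij =>
      h _ _ fun e => hij (Fin.succ_injective _ e)
    rw [show (fun i : Fin t => f i.succ * g i.succ) = (fun i => f i.succ) * fun i => g i.succ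
      from rfl, this, mul_assoc, mul_assoc, ← mul_assoc (g 0), h1.eq, mul_assoc]

theorem prod_ofFn_mulSingle {R : Type*} [Monoid R] {t : ℕ} (i : Fin t) (x : R) :
    (List.ofFn (Pi.mulSingle i x : Fin t → R)).prod = x := by
  induction t with
  | zero => exact i.elim0
  | succ t ih =>
    rw [List.ofFn_succ, List.prod_cons]
    refine Fin.cases ?_ (fun j => ?_) i
    · simp [List.prod_eq_one, List.mem_ofFn]
    · rw [Pi.mulSingle_eq_of_ne (Fin.succ_ne_zero j).symm, one_mul]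
      refine Eq.trans ?_ (ih j)
      congr 2
      ext l
      simp [Pi.mulSingle_apply]

theorem exists_ten [Nonempty κ] [Nonempty ι] (φ : Fin t → (Matrix κ κ F →ₐ[F] Matrix ι ι F))
    (hc : ∀ i j, i ≠ j → ∀ X Y, φ i X * φ j Y = φ j Y * φ i X)
    (hg : ∀ A : Subalgebra F (Matrix ι ι F), (∀ i X, φ i X ∈ A) → A = ⊤) :
    ∃ T : ((Fin t → κ) → F) ≃ₗ[F] (ι → F), ∀ i X, φ i X = Φ T (ten (Pi.mulSingle i X)) := by
  let Ψ := (MultilinearMap.mkPiAlgebraFin F t (Matrix ι ι F)).compLinearMap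
    fun i => (φ i).toLinearMap
  have hΨ : ∀ X, Ψ X = (List.ofFn fun i => φ i (X i)).prod := fun X => rfl
  have hmul : ∀ X Y, Ψ (X * Y) = Ψ X * Ψ Y := fun X Y => by
    rw [hΨ, hΨ, hΨ, ← prod_ofFn_mul _ _ fun i j hij => hc i j hij _ _]
    congr 2
    ext1 i
    simp
  have hsum : ∀ X, Ψ X = ∑ x : Fin t → κ, ∑ y : Fin t → κ, ten X x y •
      Ψ fun i => single (x i) (y i) 1 := fun X => by
    have : X = fun i => ∑ a, ∑ b, X i a b • single a b (1 : F) := by
      ext1 i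
      conv_lhs => rw [matrix_eq_sum_single (X i)]
      simp
    conv_lhs => rw [this, Ψ.map_sum]
    refine Finset.sum_congr rfl fun x _ => ?_
    rw [Ψ.map_sum]
    exact Finset.sum_congr rfl fun y _ => Ψ.map_smul_univ _ _
  obtain ⟨Θ, hΘ⟩ := algHom_of_units (F := F)
    (fun x y : Fin t → κ => Ψ fun i => single (x i) (y i) 1) (fun a b c d => by
      rw [← hmul]
      split_ifs with h
      · subst h; congr 1; ext1 i; simp
      · obtain ⟨i, hi⟩ := Function.ne_iff.1 h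
        exact Ψ.map_coord_zero i (single_mul_single_of_ne _ _ _ _ hi _)) (by
      have := hsum 1
      simp only [ten_one, Matrix.one_apply, ite_smul, one_smul, zero_smul, Finset.sum_ite_eq,
        Finset.mem_univ, if_true] at this
      rw [← this, hΨ]
      simp [List.prod_eq_one, List.mem_ofFn])
  have h1 : ∀ i X, φ i X = Θ (ten (Pi.mulSingle i X)) := fun i X => by
    rw [hΘ, ← hsum, hΨ, ← prod_ofFn_mulSingle i (φ i X)]
    congr 2
    ext1 j
    by_cases h : j = i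
    · subst h; simp
    · simp [Pi.mulSingle_eq_of_ne h]
  obtain ⟨T, hT⟩ := exists_Φ (AlgEquiv.ofBijective Θ ⟨Θ.toRingHom.injective,
    (AlgHom.range_eq_top Θ).1 (hg _ fun i X => ⟨_, (h1 i X).symm⟩)⟩)
  exact ⟨T, fun i X => (h1 i X).trans (hT _)⟩

theorem nml_ten [Nonempty κ] [Nonempty ι] {φ : Fin t → (Matrix κ κ F →ₐ[F] Matrix ι ι F)}
    (hg : ∀ A : Subalgebra F (Matrix ι ι F), (∀ i X, φ i X ∈ A) → A = ⊤)
    {T : ((Fin t → κ) → F) ≃ₗ[F] (ι → F)} (hT : ∀ i X, φ i X = Φ T (ten (Pi.mulSingle i X)))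
    {g : GL ι F} {π : Equiv.Perm (Fin t)} (h : ∀ i X, ∃ Y, φ (π i) Y = cjA g (φ i X)) :
    ∃ (a : Fin t → GL κ F) (c : Fˣ), g = scU c * ΦU T (pmU F κ π * tenU a) := by
  choose a ha using fun i =>
    exists_inner_of_range (φ (π i)) ((cjA g).toAlgHom.comp (φ i)) (h i)
  have h1 : ∀ i X, cjA (ΦU T (pmU F κ π * tenU a)) (φ i X) = cjA g (φ i X) := fun i X => by
    rw [show cjA g (φ i X) = _ from ha i X, hT, hT, ← Φ_cjA, cjA_mul]
    congr 1
    have e1 : cjA (tenU a) (ten (Pi.mulSingle i X)) = ten (Pi.mulSingle i (cjA (a i) X)) := by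
      rw [cjA_eq_iff]
      change ten _ * ten _ = ten _ * ten _
      rw [← ten_mul, ← ten_mul]
      congr 1
      ext1 j
      by_cases h : j = i
      · subst h; simp [cjA_mul_self]
      · simp [Pi.mulSingle_eq_of_ne h]
    rw [e1, cjA_eq_iff]
    change pm F κ π * ten _ = ten _ * pm F κ π
    rw [pm_mul_ten]
    congr 2
    ext1 j
    simp [Pi.mulSingle_apply, Equiv.symm_apply_eq]
  have h2 : g * (ΦU T (pmU F κ π * tenU a))⁻¹ ∈ scalars ι F := mem_scalars.2 (sc_of_comm fun b => by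
    have := hg (AlgHom.equalizer (cjA (ΦU T (pmU F κ π * tenU a))).toAlgHom (cjA g).toAlgHom) h1
    have h3 : cjA (ΦU T (pmU F κ π * tenU a))⁻¹ b ∈ AlgHom.equalizer
      (cjA (ΦU T (pmU F κ π * tenU a))).toAlgHom (cjA g).toAlgHom := this ▸ Algebra.mem_top
    rw [← cjA_eq_iff, cjA_mul]
    exact (Eq.symm h3).trans (cjA_cjA_inv _ _))
  obtain ⟨c, hc⟩ := h2
  exact ⟨a, c, eq_mul_of_mul_inv_eq hc.symm⟩

/-- the coordinates attached to the data of the Prelude -/
noncomputable def coordT (e : ι ≃ κ) (P : GL ι F) : (κ → F) ≃ₗ[F] (ι → F) :=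
  (LinearEquiv.funCongrLeft F F e).trans (H11.glEquiv P)

theorem coordT_apply (e : ι ≃ κ) (P : GL ι F) (x : κ → F) :
    coordT e P x = (P : Matrix ι ι F) *ᵥ (x ∘ e) := rfl

theorem exists_coordT (T : (κ → F) ≃ₗ[F] (ι → F)) : ∃ e P, T = coordT e P := by
  have : Fintype.card ι = Fintype.card κ := by simpa using T.finrank_eq.symm
  let e := Fintype.equivOfCardEq this
  refine ⟨e, H11.glEquiv.symm ((LinearEquiv.funCongrLeft F F e).symm.trans T), ?_⟩
  ext1 x
  rw [coordT_apply, glEquiv_symm_mulVec]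
  exact congrArg T ((LinearEquiv.funCongrLeft F F e).symm_apply_apply x).symm

theorem conj_glReindex (e : ι ≃ κ) (P : GL ι F) (X : GL κ F) :
    MulAut.conj P (glReindex e.symm X) = ΦU (coordT e P) X := Units.ext (eq_Φ fun x => by
  rw [MulAut.conj_apply, ← cjA_coe, coordT_apply, cjA_mulVec, coordT_apply]
  congr 1
  change (X : Matrix κ κ F).submatrix e e *ᵥ (x ∘ e) = _
  rw [submatrix_mulVec_equiv]
  simp [Function.comp_assoc])

theorem map_glReindex (e : ι ≃ κ) (P : GL ι F) (K : Subgroup (GL κ F)) :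
    (K.map (glReindex e.symm).toMonoidHom).map (MulAut.conj P).toMonoidHom =
      K.map (ΦU (coordT e P)).toMonoidHom := by
  rw [Subgroup.map_map]
  congr 1
  ext1 X
  exact conj_glReindex e P X

theorem mem_tensorProductSubgroup {n₁ n₂ : ℕ} {e : ι ≃ Fin n₁ × Fin n₂} {P g : GL ι F} :
    g ∈ tensorProductSubgroup n₁ n₂ e P ↔ ∃ (a : GL (Fin n₁) F) (b : GL (Fin n₂) F),
      (g : Matrix ι ι F) = Φ (coordT e P)
        ((a : Matrix (Fin n₁) (Fin n₁) F) ⊗ₖ (b : Matrix (Fin n₂) (Fin n₂) F)) := by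
  rw [tensorProductSubgroup, map_glReindex]
  constructor
  · rintro ⟨X, ⟨a, b, h⟩, rfl⟩
    exact ⟨a, b, by rw [← h]; rfl⟩
  · rintro ⟨a, b, h⟩
    exact ⟨kronU a b, ⟨a, b, rfl⟩, Units.ext h.symm⟩

theorem mem_tensorWreathSubgroup {k : ℕ} (ht : 0 < t) {e : ι ≃ (Fin t → Fin k)} {P : GL ι F}
    (c : Fˣ) (π : Equiv.Perm (Fin t)) (a : Fin t → GL (Fin k) F) :
    scU c * ΦU (coordT e P) (pmU F (Fin k) π * tenU a) ∈ tensorWreathSubgroup k t e P := by
  rw [tensorWreathSubgroup, map_glReindex]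
  refine ⟨tenU (Pi.mulSingle ⟨0, ht⟩ (scU c)) * (pmU F (Fin k) π * tenU a), Subgroup.mul_mem _
    (Subgroup.subset_closure (Or.inl ⟨_, fun _ _ => rfl⟩)) (Subgroup.mul_mem _
      (Subgroup.subset_closure (Or.inr ⟨π, fun _ _ => rfl⟩))
      (Subgroup.subset_closure (Or.inl ⟨_, fun _ _ => rfl⟩))), ?_⟩
  rw [MulEquiv.coe_toMonoidHom, map_mul]
  congr 1
  refine Units.ext ?_
  have : ((tenU (Pi.mulSingle ⟨0, ht⟩ (scU c)) : GL (Fin t → Fin k) F) :
      Matrix (Fin t → Fin k) (Fin t → Fin k) F) = (c : F) • 1 := by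
    have := ten_smul (κ := Fin k) (Pi.mulSingle ⟨0, ht⟩ (c : F)) 1
    rw [ten_one, Finset.prod_pi_mulSingle', if_pos (Finset.mem_univ _)] at this
    rw [← this]
    change ten _ = ten _
    congr 1
    ext1 j
    by_cases h : j = ⟨0, ht⟩
    · subst h; simp
    · simp [Pi.mulSingle_eq_of_ne h]
  rw [coe_ΦU, this, map_smul, map_one, coe_scU]

end H29
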