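import Cfsg.Agent.H29.Fr4
import Cfsg.Agent.H29.TI
import Cfsg.Agent.H11.Levi

/-! Maximality of the stabiliser of an orthonormal frame in even dimension (`frame_max_even`). -/

set_option autoImplicit false
set_option linter.unusedSectionVars false

namespace H29

open Module H11 H11.PForm Finset

universe u

variable {F : Type*} [Field F] {V : Type u} [AddCommGroup V] [Module F V] {S : PForm (orthP F) V}
  [FiniteDimensional F V] [Fintype F] {H : Subgroup S.Isom} {ι : Type} [Fintype ι] [DecidableEq ι]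
  {e : ι → V}

theorem FE.le_fm (h : FE H e) (hz : S.negOne ∈ H) : H ≤ FM S e := by
  have f := h.f
  haveI := finite_isom (S := S)
  have cm : ∀ g : S.Isom, g * S.negOne = S.negOne * g := fun g => isom_ext fun x => by simp
  have nn : S.negOne * S.negOne = 1 := isom_ext fun x => by simp
  have nA : S.negOne ∈ FA S e := fun i => Or.inr (by simp)
  have ne : ∀ i, e i ≠ -e i := fun i a => by
    have := congrArg (S.h (e i)) a
    simp only [map_neg, f.hh, if_true] at this
    exact mul_ne_zero f.two f.two (by linear_combination this)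
  obtain ⟨L, hL⟩ : ∃ L : Fin 7 → ι, Function.Injective L :=
    ⟨_, (Function.Embedding.nonempty_of_card_le (α := Fin 7) (β := ι) (by
      have := h.card; simp; omega)).some.injective⟩
  have n : ∀ a b, a ≠ b → L a ≠ L b := fun a b hab => hL.ne hab
  have r1 : ∀ i, (S.refl (e i)).1 (e i) = -e i := fun i => refl_apply_self (by simp [f.q1])
  have r2 : ∀ i j, i ≠ j → (S.refl (e i)).1 (e j) = e j := fun i j a => refl_apply_of_perp (f.orth i j a)
  have ev := fun {x y : S.Isom} (a : x = y) (i : ι) => congrArg (fun z : S.Isom => z.1 (e i)) a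
  by_contra hc
  obtain ⟨g, hg⟩ := ti_quot (G := H) (A := (FA S e).subgroupOf H) (M := (FM S e).subgroupOf H)
    (z := ⟨_, hz⟩) (fun g => Subtype.ext (cm g)) nA (Subgroup.subgroupOf_mono _ FA_le)
    (fun a => hc (Subgroup.subgroupOf_eq_top.1 a))
    (fun a ha => Subtype.ext (h.ext' fun i => by
      rcases ha i with b | b <;> simp only [Subgroup.coe_subtype] at b <;> simp [b]))
    (fun a ha g hg => h.sclosed ha g.2 hg)
    (fun a ha a1 a2 g hg => h.fm_of_r2 g.2 (n 0 1 (by decide)) (h.cent ha (fun b => a1 (Subtype.ext b))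
      (fun b => a2 (Subtype.ext b)) (mul_mem (mul_mem g.2 (h.r2 _ _)) (inv_mem g.2)) (by
        have b1 := h.fa_comm ha (mul_mem (h.r_fa (L 0)) (h.r_fa (L 1)))
        generalize S.refl (e (L 0)) * S.refl (e (L 1)) = r at b1
        simp only [Subgroup.coe_subtype] at b1 ⊢
        rcases hg with b | b <;> have b := congrArg Subtype.val b <;>
          simp only [Subgroup.coe_mul, Subgroup.coe_inv] at b
        · conv_lhs => rw [← b]
          conv_rhs => rw [← b]
          rw [conj_mul, conj_mul, b1]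
        · have : a.1 = g.1 * (a.1 * S.negOne) * g.1⁻¹ := by
            rw [← mul_assoc, mul_assoc _ _ g.1⁻¹, ← cm, ← mul_assoc, b, mul_assoc, nn, mul_one]
          conv_lhs => rw [this]
          conv_rhs => rw [this]
          rw [conj_mul, conj_mul, ← mul_assoc r, ← b1, mul_assoc a.1, cm, mul_assoc a.1])))
    (fun g hg => h.fm_of_r2 g.2 (n 0 1 (by decide)) (FA_le (hg ⟨_, h.r2 _ _⟩
      (mul_mem (h.r_fa (L 0)) (h.r_fa (L 1))))))
    (a := ⟨_, h.r2 (L 0) (L 1)⟩) (b := ⟨_, mul_mem (h.r2 (L 0) (L 1)) (h.r2 (L 2) (L 3))⟩)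
    (mul_mem (h.r_fa _) (h.r_fa _)) (mul_mem (mul_mem (h.r_fa _) (h.r_fa _)) (mul_mem (h.r_fa _) (h.r_fa _)))
    (fun a => ne (L 0) (by simpa [r1, r2, n] using (ev (congrArg Subtype.val a) (L 0)).symm))
    (fun a => ne (L 2) (by simpa [r1, r2, n] using ev (congrArg Subtype.val a) (L 2)))
    (fun a => ne (L 0) (by simpa [r1, r2, n] using (ev (congrArg Subtype.val a) (L 0)).symm))
    (fun a => ne (L 4) (by simpa [r1, r2, n] using ev (congrArg Subtype.val a) (L 4)))
  have hb := mul_mem (mul_mem (h.r_fa (L 0)) (h.r_fa (L 1))) (mul_mem (h.r_fa (L 2)) (h.r_fa (L 3)))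
  have hg' : g.1 * (S.refl (e (L 0)) * S.refl (e (L 1))) * g.1⁻¹ = _ ∨
    g.1 * (S.refl (e (L 0)) * S.refl (e (L 1))) * g.1⁻¹ = _ := hg.imp (congrArg Subtype.val) (congrArg Subtype.val)
  have gM := h.fm_of_r2 g.2 (n 0 1 (by decide)) (FA_le (by
    rcases hg' with b | b <;> rw [b]
    exacts [hb, mul_mem hb nA]))
  obtain ⟨i, hi⟩ := FM.fv gM (L 0)
  obtain ⟨j, hj⟩ := FM.fv gM (L 1)
  rw [← conj_mul, conj_refl, conj_refl, show S.refl (g.1.1 (e (L 0))) = S.refl (e i) by
    rcases hi with a | a <;> simp [a, refl_neg], show S.refl (g.1.1 (e (L 1))) = S.refl (e j) by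
    rcases hj with a | a <;> simp [a, refl_neg]] at hg'
  have k : ∀ a b c, a ≠ b → a ≠ c → b ≠ c → ∃ d, (d = a ∨ d = b ∨ d = c) ∧
      (S.refl (e i) * S.refl (e j)).1 (e (L d)) = e (L d) := fun a b c ab ac bc => by
    obtain ⟨d, d1, d2⟩ := exists_mem_notMem_of_card_lt_card (s := {i, j}) (t := {L a, L b, L c})
      (by rw [card_eq_three.2 ⟨_, _, _, n a b ab, n a c ac, n b c bc, rfl⟩]; exact Nat.lt_succ_of_le card_le_two)
    simp only [mem_insert, mem_singleton, not_or] at d1 d2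
    have : (S.refl (e i) * S.refl (e j)).1 (e d) = e d := by simp [r2, Ne.symm d2.1, Ne.symm d2.2]
    rcases d1 with rfl | rfl | rfl <;> exact ⟨_, by simp, this⟩
  rcases hg' with b | b
  · obtain ⟨d, d1, d2⟩ := k 0 1 2 (by decide) (by decide) (by decide)
    rw [b] at d2
    rcases d1 with rfl | rfl | rfl <;> exact ne _ (by simpa [r1, r2, n] using d2.symm)
  · obtain ⟨d, d1, d2⟩ := k 4 5 6 (by decide) (by decide) (by decide)
    rw [b] at d2
    rcases d1 with rfl | rfl | rfl <;> exact ne _ (by simpa [r1, r2, n] using d2.symm)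

theorem frame_even (hS : S.Nondeg) (hp : (Fintype.card F).Prime) (h2 : (2 : F) ≠ 0) {t : ℕ}
    {D : Fin t → Submodule F V} (h : ODec S 1 D) (hn : 11 ≤ t) (ho : Even (finrank F V))
    {e : Fin t → V} (he : ∀ i, e i ∈ D i) (hq : ∀ i, S.q (e i) = 1) (H : Subgroup S.Isom)
    (hH : ∀ g ∈ S.E, ODec.Perm D g → g ∈ H) : S.E ≤ H ∨ ∀ g ∈ H, ODec.Perm D g := by
  have e0 : ∀ i, e i ≠ 0 := fun i e' => by simpa [e', S.orth_q_zero] using hq i
  have hD : ∀ i, D i = F ∙ e i := fun i => (Submodule.eq_of_le_of_finrank_eq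
    ((Submodule.span_singleton_le_iff_mem _ _).2 (he i)) (by rw [finrank_span_singleton (e0 i), h.dim])).symm
  have pm : ∀ g ∈ FM S e, ODec.Perm D g := fun g hg i =>
    (FM.fv hg i).imp fun j hj x hx => by
      rw [hD] at hx ⊢
      obtain ⟨c, rfl⟩ := Submodule.mem_span_singleton.1 hx
      rcases hj with a | a <;> simp [a, Submodule.smul_mem]
  have f0 : FK (⊤ : Subgroup S.Isom) e := ⟨hS, h2, prime_field hp, by simp; omega, hq,
    fun i j hij => h.orth i j hij (he j) _ (he i), fun x hx => h.eq_zero hS fun i => by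
      rw [hD, mem_perp_singleton]; exact hx i, fun _ => trivial, fun _ _ _ _ _ _ => trivial⟩
  have h3 : 3 ≤ finrank F V :=
    ((f0.vec (L := Fin.castLE (by omega : 3 ≤ t)) (Fin.castLE_injective _)).2.ge).trans
      (Submodule.finrank_le _)
  obtain ⟨a, b, Hy⟩ := hS.orth_exists_hyp h3
  have q0 : ∀ i, S.q (e i) ≠ 0 := by simp [hq]
  have rr : ∀ a b, S.q a ≠ 0 → S.q b = S.q a → S.refl a * S.refl b ∈ S.E := fun a b a1 a2 =>
    (hS.mem_E_iff h3 Hy _).2 ⟨by rw [map_mul, hS.dick_refl a1, hS.dick_refl (by rwa [a2])]; rfl,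
      by rw [map_mul, hS.spin_refl a1, hS.spin_refl (by rwa [a2]), a2, Int.units_mul_self]⟩
  have r1 : ∀ i, S.refl (e i) ∈ FM S e := fun i => mem_FM fun j => by
    by_cases a : i = j
    · exact ⟨j, Or.inr (by rw [a, refl_apply_self (q0 j)])⟩
    · exact ⟨j, Or.inl (refl_apply_of_perp (f0.orth i j a))⟩
  have r2 : ∀ i j, i ≠ j → S.refl (e i - e j) ∈ FM S e := fun i j ij =>
    mem_FM fun k => ⟨_, Or.inl (f0.t_e ij k)⟩
  refine or_iff_not_imp_left.2 fun hE g hg => pm g (FE.le_fm ⟨f0, hp, by simpa,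
    fun i j => hH _ (rr _ _ (q0 i) (by rw [hq, hq])) (pm _ (mul_mem (r1 i) (r1 j))),
    fun i j k l ij kl => hH _ (rr _ _ (by rwa [f0.q_sub ij]) (by rw [f0.q_sub ij, f0.q_sub kl]))
      (pm _ (mul_mem (r2 i j ij) (r2 k l kl))), hE⟩ (hH _ ?_ (pm _ (mem_FM fun i => ⟨i, by simp⟩))) hg)
  obtain ⟨g, g1, g2⟩ := exists_prod_refl e univ (fun i _ => q0 i) fun i _ j _ => f0.orth i j
  have : g = S.negOne := isom_ext fun x => f0.ext fun i => by simp [g1, hq, f0.hh]; ring
  refine (hS.mem_E_iff h3 Hy _).2 ⟨by rw [hS.dick_negOne h2, ho.neg_one_pow], ?_⟩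
  simp [← this, g2, hS.spin_refl (q0 _), hq, (sqSign_eq_one_iff (a := (1 : F))).2 IsSquare.one]

theorem frame_max_even (hp : (Fintype.card F).Prime) (h2 : (2 : F) ≠ 0) (hn : 11 ≤ Fintype.card ι)
    (ho : Even (Fintype.card ι)) {Q : (ι → F) → F} (hQ : Cfsg.Geo.IsNondegenerateQuadraticForm Q) {t : ℕ}
    {D : Fin t → Submodule F (ι → F)} (hD : Cfsg.Geo.IsOrthogonalMDecomposition Q 1 D) :
    Cfsg.Geo.IsMaximalIn (Cfsg.Geo.omegaGL Q) (Cfsg.Geo.decompositionStabilizer D ⊓ Cfsg.Geo.omegaGL Q) := by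
  have h : ODec (orthS (quadOf hQ)) 1 D := odec_of _ (fun x y => Iff.rfl) hD.decomp
  have hdim : t = Fintype.card ι := by
    have h1 := (DirectSum.isInternal_submodule_of_iSupIndep_of_iSup_eq_top hD.decomp.1.indep
      hD.decomp.1.iSup_eq_top)
    simpa [Module.finrank_directSum, h.dim] using
      (LinearEquiv.ofBijective (DirectSum.coeLinearMap D) h1).finrank_eq
  have i0 : Fin t := ⟨0, by omega⟩
  obtain ⟨x, hx, hx0⟩ := exists_ne_zero_of_finrank (D i0) (by rw [h.dim]; omega)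
  have hc : Q x ≠ 0 := fun h0 => hx0 (h.eq_zero' hx fun y hy => by
    obtain ⟨c, rfl⟩ := Submodule.mem_span_singleton.1 ((Submodule.eq_of_le_of_finrank_eq
      ((Submodule.span_singleton_le_iff_mem _ _).2 hx) (by rw [finrank_span_singleton hx0, h.dim])).ge hy)
    rw [map_smul, LinearMap.smul_apply, orth_h_self, show (orthS (quadOf hQ)).q x = 0 from h0]; simp)
  choose f hf using hD.isometric i0
  have hh : ∀ y z, QuadraticMap.polar Q y z = 0 ↔ (orthS ((Q x)⁻¹ • quadOf hQ)).h y z = 0 := by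
    intro y z; simp [QuadraticMap.polar_smul, hc, coe_quadOf]
  have hS : (orthS ((Q x)⁻¹ • quadOf hQ)).Nondeg := fun y hy =>
    quadOf_nondeg hQ y fun z => (hh y z).2 (hy z)
  rw [← coe_quadOf hQ, ← omegaGL_smul _ (inv_ne_zero hc), omegaGL_eq _ hS (by omega)]
  have hq : ∀ i, (orthS ((Q x)⁻¹ • quadOf hQ)).q (f i ⟨x, hx⟩) = 1 := fun i => by
    simp [coe_quadOf, hf, hc]
  have h' := odec_of _ hh hD.decomp
  generalize orthS ((Q x)⁻¹ • quadOf hQ) = S at hS hq h'
  refine isMaximalIn_odec hS hD.decomp.1 h' ?_ fun H hH _ => frame_even hS hp h2 h' (by omega) (by simpa)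
    (fun i => (f i ⟨x, hx⟩).2) hq H hH
  have hv := (f i0 ⟨x, hx⟩).2
  have qv := hq i0
  generalize (f i0 ⟨x, hx⟩ : ι → F) = v at hv qv
  obtain ⟨s, hs, h1, h3⟩ := exists_sing_top hS (iso3_orth S) [v] [] (by simp; omega)
  have h1 := h1 v (by simp)
  have e : ∀ c : F, (S.eich s v (S.q v)).1 (c • v) = c • (v - (2 : F) • s) := fun c => by
    rw [map_smul, eich_apply_of_perp (ECond.of_q hs (S.h_swap_zero h1)) (S.h_swap_zero h1)]
    simp [orth_h_self, qv]
  refine ⟨_, S.eich_mem_E s v (S.q v), fun hp => ?_⟩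
  obtain ⟨j, hj⟩ := hp i0
  have h4 := hj _ (Submodule.smul_mem _ 1 hv)
  rw [e, one_smul] at h4
  by_cases hij : i0 = j
  · subst hij
    refine h3 ((smul_eq_zero.1 (h'.eq_zero' ((Submodule.sub_mem_iff_right _ hv).1 h4)
      fun y hy => ?_)).resolve_left h2 ▸ zero_mem _)
    obtain ⟨c, rfl⟩ := Submodule.mem_span_singleton.1 ((Submodule.eq_of_le_of_finrank_eq
      ((Submodule.span_singleton_le_iff_mem _ _).2 hv) (by
        rw [finrank_span_singleton (by rintro rfl; simp [S.orth_q_zero] at qv), h.dim])).ge hy)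
    simp [h1]
  · simpa [h1, orth_h_self, qv, h2] using h'.orth i0 j hij h4 v hv

end H29
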