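import Cfsg.Agent.H29.Bridge
import Cfsg.Agent.H10.SL

/-! Overgroups of the Eichler group of a form inside the general linear group: `lin_dichotomy` (a subgroup of
`GL(V)` containing `E` contains all transvections or consists of similarities of the sesquilinear form),
`LFull H u` (all transvections with centre `u`), `sl_le_of_tv`, `isMaximalIn_SL`. -/

set_option autoImplicit false

namespace H29
open H11 H11.PForm Module Matrix
open scoped MatrixGroups

variable {F : Type*} [Field F] {σ : F →+* F} {P : FParam σ} {V : Type*} [AddCommGroup V]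
  [Module F V] {S : PForm P V}

/-- `H` contains the transvection `x ↦ x + φ x • u` -/
def HasTv (H : Subgroup (V ≃ₗ[F] V)) (φ : Dual F V) (u : V) : Prop :=
  ∃ t ∈ H, ∀ x, t x = x + φ x • u

/-- `H` contains all transvections with centre `u` -/
def LFull (H : Subgroup (V ≃ₗ[F] V)) (u : V) : Prop := ∀ φ : Dual F V, φ u = 0 → HasTv H φ u

theorem HasTv.conj {H : Subgroup (V ≃ₗ[F] V)} {φ : Dual F V} {u : V} (h : HasTv H φ u)
    {g : V ≃ₗ[F] V} (hg : g ∈ H) : HasTv H (φ ∘ₗ (g.symm : V →ₗ[F] V)) (g u) := by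
  obtain ⟨t, ht, h⟩ := h
  refine ⟨g * t * g⁻¹, H.mul_mem (H.mul_mem hg ht) (H.inv_mem hg), fun x => ?_⟩
  simp [LinearEquiv.mul_apply, h]

theorem HasTv.add {H : Subgroup (V ≃ₗ[F] V)} {φ ψ : Dual F V} {u : V} (h : HasTv H φ u)
    (h' : HasTv H ψ u) (hu : φ u = 0) : HasTv H (φ + ψ) u := by
  obtain ⟨t, ht, h⟩ := h
  obtain ⟨t', ht', h'⟩ := h'
  refine ⟨t * t', H.mul_mem ht ht', fun x => ?_⟩
  simp only [LinearEquiv.mul_apply, h, h', map_add, map_smul, hu, LinearMap.add_apply]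
  module

theorem HasTv.add_right {H : Subgroup (V ≃ₗ[F] V)} {φ : Dual F V} {u v : V} (h : HasTv H φ u)
    (h' : HasTv H φ v) (hv : φ v = 0) : HasTv H φ (u + v) := by
  obtain ⟨t, ht, h⟩ := h
  obtain ⟨t', ht', h'⟩ := h'
  refine ⟨t * t', H.mul_mem ht ht', fun x => ?_⟩
  simp only [LinearEquiv.mul_apply, h, h', map_add, map_smul, hv]
  module

theorem HasTv.neg {H : Subgroup (V ≃ₗ[F] V)} {φ : Dual F V} {u : V} (h : HasTv H φ u)
    (hu : φ u = 0) : HasTv H (-φ) u := by
  obtain ⟨t, ht, h⟩ := h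
  refine ⟨t⁻¹, H.inv_mem ht, fun x => t.injective ?_⟩
  rw [← LinearEquiv.mul_apply, mul_inv_cancel, h]
  simp [hu]

theorem hasTv_zero (H : Subgroup (V ≃ₗ[F] V)) (u : V) : HasTv H 0 u := ⟨1, H.one_mem, by simp⟩

theorem HasTv.smul_swap {H : Subgroup (V ≃ₗ[F] V)} {φ : Dual F V} {u : V} {c : F} :
    HasTv H (c • φ) u ↔ HasTv H φ (c • u) := by
  simp [HasTv, smul_smul, mul_comm]

theorem LFull.map {H : Subgroup (V ≃ₗ[F] V)} {u : V} (h : LFull H u) {g : V ≃ₗ[F] V}
    (hg : g ∈ H) : LFull H (g u) := by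
  intro φ hφ
  have := (h (φ ∘ₗ (g : V →ₗ[F] V)) (by simpa using hφ)).conj hg
  convert this using 1
  ext x; simp

theorem LFull.smul {H : Subgroup (V ≃ₗ[F] V)} {u : V} (h : LFull H u) (c : F) :
    LFull H (c • u) := by
  intro φ hφ
  by_cases hc : c = 0
  · exact ⟨1, H.one_mem, by simp [hc]⟩
  · rw [← HasTv.smul_swap]
    exact h _ (by simpa using hφ)

theorem LFull.add {H : Subgroup (V ≃ₗ[F] V)} {u w : V} (h : LFull H u) (h' : LFull H w) :
    LFull H (w + u) := by
  by_cases hm : w ∈ F ∙ u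
  · obtain ⟨c, rfl⟩ := Submodule.mem_span_singleton.1 hm
    have := h.smul (c + 1)
    rwa [add_smul, one_smul] at this
  obtain ⟨φ, hφ, hφw⟩ := LinearMap.exists_extend_of_notMem (0 : (F ∙ u) →ₗ[F] F) hm 1
  have hu : φ u = 0 := by
    simpa using LinearMap.congr_fun hφ ⟨u, Submodule.mem_span_singleton_self u⟩
  obtain ⟨t, ht, h1⟩ := h φ hu
  have := h'.map ht
  rwa [h1, hφw, one_smul] at this

/-- the subspace of full centres -/
def lfullSub (H : Subgroup (V ≃ₗ[F] V)) : Submodule F V where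
  carrier := {u | LFull H u}
  add_mem' ha hb := LFull.add hb ha
  zero_mem' _ _ := ⟨1, H.one_mem, by simp⟩
  smul_mem' c _ h := LFull.smul h c

theorem mem_lfullSub {H : Subgroup (V ≃ₗ[F] V)} {u : V} : u ∈ lfullSub H ↔ LFull H u := Iff.rfl

variable [FiniteDimensional F V]

theorem lfull_of_tv (hS : S.Nondeg) (h3 : Iso3 S) (hn : 7 ≤ finrank F V)
    (H : Subgroup (V ≃ₗ[F] V)) (hE : ∀ u v a, (S.eich u v a).1 ∈ H) {u z : V} (hu : S.Sing u)
    (hu0 : u ≠ 0) (huz : S.h u z = 0) (hzu : z ∉ F ∙ u) (hz : HasTv H (S.h z) u) (x : V) :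
    LFull H x := by
  let T : AddSubgroup V :=
    { carrier := {y | S.h u y = 0 ∧ HasTv H (S.h y) u}
      add_mem' := fun {a b} ha hb => ⟨by simp [ha.1, hb.1], by
        rw [map_add]; exact ha.2.add hb.2 (S.h_swap_zero ha.1)⟩
      zero_mem' := ⟨by simp, by rw [map_zero]; exact hasTv_zero H u⟩
      neg_mem' := fun {a} ha => ⟨by simp [ha.1], by
        rw [map_neg]; exact ha.2.neg (S.h_swap_zero ha.1)⟩ }
  have hT : ∀ y, S.h u y = 0 → y ∈ T := fun y hy =>
    irr hS h3 hn hu T (fun w v a hc h1 h2 z hz => by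
      have hf : (S.eich w v a).1 u = u :=
        eich_apply_of_perp_perp (S.h_swap_zero h1) (S.h_swap_zero h2)
      refine ⟨by rw [← hf, isom_h]; exact hz.1, ?_⟩
      have := hz.2.conj (hE w v a)
      rw [hf] at this
      convert this using 1
      ext y
      rw [isom_h_left]; rfl) ⟨huz, hz⟩ huz hzu hy
  have hfull : LFull H u := by
    intro φ hφ
    obtain ⟨y, rfl⟩ := hS.exists_h_eq φ
    exact (hT y (S.h_swap_zero hφ)).2
  refine span_sing_top hS h3 (by omega) (lfullSub H).toAddSubgroup (fun y hy => ?_) x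
  by_cases hy0 : y = 0
  · rw [hy0]; exact Submodule.zero_mem _
  obtain ⟨g, hg, rfl⟩ := exists_E_vec hS h3 (by omega) hu0 hy0 (P.Λ.sub_mem hy hu)
  have : S.E ≤ H.comap S.Isom.subtype := S.E_le_iff.2 fun u v a _ => hE u v a
  exact hfull.map (this hg)

/-- a linear map with every singular vector an eigenvector is a scalar -/
theorem scalar_of_sing_eigen (hS : S.Nondeg) (h3 : Iso3 S) (hn : 5 ≤ finrank F V)
    (A : V →ₗ[F] V) (hA : ∀ u, S.Sing u → A u ∈ F ∙ u) : ∃ c : F, ∀ x, A x = c • x := by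
  have key : ∀ u w (a b : F), S.Sing u → S.Sing w → S.h u w = 0 → u ≠ 0 → w ≠ 0 → A u = a • u →
      A w = b • w → a = b := by
    intro u w a b hu hw huw hu0 hw0 ha hb
    by_cases hm : w ∈ F ∙ u
    · obtain ⟨c, rfl⟩ := Submodule.mem_span_singleton.1 hm
      rw [map_smul, ha, smul_comm] at hb
      exact smul_left_injective F hw0 hb
    obtain ⟨c, hc⟩ := Submodule.mem_span_singleton.1 (hA _ (hu.add hw huw))
    rw [map_add, ha, hb] at hc
    have h1 : (c - b) • w = (a - c) • u := by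
      rw [sub_smul, sub_smul, sub_eq_sub_iff_add_eq_add, ← hc, smul_add, add_comm]
    by_cases hcb : c - b = 0
    · rw [hcb, zero_smul] at h1
      have := (smul_eq_zero.1 h1.symm).resolve_right hu0
      linear_combination this + hcb
    · exfalso; apply hm
      have : w = (c - b)⁻¹ • ((a - c) • u) := by
        rw [← h1, smul_smul, inv_mul_cancel₀ hcb, one_smul]
      rw [this]
      exact Submodule.smul_mem _ _ (Submodule.smul_mem _ _ (Submodule.mem_span_singleton_self u))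
  obtain ⟨e, -, he0, he⟩ := h3 ⊤ (by rw [finrank_top]; omega)
  obtain ⟨c, hc⟩ := Submodule.mem_span_singleton.1 (hA e he)
  refine ⟨c, fun x => ?_⟩
  have := span_sing_top hS h3 (by omega) (LinearMap.ker (A - c • LinearMap.id)).toAddSubgroup
    (fun y hy => by
      by_cases hy0 : y = 0
      · rw [hy0]; exact Submodule.zero_mem _
      obtain ⟨w, hw, hp, hw0⟩ := exists_sing_top hS h3 [e, y] [] (by simpa using hn)
      simp only [List.mem_cons, List.not_mem_nil, or_false, forall_eq_or_imp, forall_eq,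
        Set.setOf_false, Submodule.span_empty, Submodule.mem_bot] at hp hw0
      obtain ⟨a, ha⟩ := Submodule.mem_span_singleton.1 (hA w hw)
      obtain ⟨b, hb⟩ := Submodule.mem_span_singleton.1 (hA y hy)
      have h1 := key e w c a he hw hp.1 he0 hw0 hc.symm ha.symm
      have h2 := key y w b a hy hw hp.2 hy0 hw0 hb.symm ha.symm
      show (A - c • LinearMap.id : V →ₗ[F] V) y = 0
      simp [← hb, h1, h2]) x
  have h2 : (A - c • LinearMap.id : V →ₗ[F] V) x = 0 := this
  simpa [sub_eq_zero] using h2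

theorem eigen_of_commute (hS : S.Nondeg) (hn : 3 ≤ finrank F V) {u : V} (hu : S.Sing u) {y : V}
    (hy : ∀ v, S.h u v = 0 → (S.eich u v (S.q v)).1 y = y) (hu0 : u ≠ 0) : y ∈ F ∙ u := by
  have h1 := hS.finrank_perp (F ∙ u)
  have h2 := finrank_span_one_le (F := F) u
  have key : ∀ v, S.h u v = 0 → S.h u y • v = (P.ε * (S.h v y + S.q v * S.h u y)) • u := by
    intro v hv
    have := hy v hv
    rw [eich_apply (ECond.of_q hu hv), add_sub_assoc, add_eq_left, sub_eq_zero] at this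
    exact this
  have huy : S.h u y = 0 := by
    by_contra h0
    have : S.perp (F ∙ u) ≤ F ∙ u := fun v hv => by
      have h4 := key v (S.mem_perp_singleton.1 hv)
      have : v = (S.h u y)⁻¹ • (S.h u y • v) := by rw [smul_smul, inv_mul_cancel₀ h0, one_smul]
      rw [this, h4]
      exact Submodule.smul_mem _ _ (Submodule.smul_mem _ _ (Submodule.mem_span_singleton_self u))
    have := Submodule.finrank_mono this
    omega
  rw [← hS.perp_perp (F ∙ u)]
  intro v hv
  have := key v (S.mem_perp_singleton.1 hv)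
  simpa [huy, hu0, P.ε_ne_zero] using this.symm

/-- the adjoint-type operator of `g`: `h (g x) (g y) = h (A x) y` -/
theorem exists_gram (hS : S.Nondeg) (g : V →ₗ[F] V) :
    ∃ A : V →ₗ[F] V, ∀ x y, S.h (A x) y = S.h (g x) (g y) := by
  choose A hA using fun x => hS.exists_h_eq ((S.h (g x)) ∘ₗ g)
  have hA' : ∀ x y, S.h (A x) y = S.h (g x) (g y) := fun x y => by rw [hA]; rfl
  exact ⟨{ toFun := A
           map_add' := fun x y => hS.ext_left fun z => by simp [hA']
           map_smul' := fun c x => hS.ext_left fun z => by simp [hA'] }, hA'⟩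

theorem sim_of_conj_isom (hS : S.Nondeg) (h3 : Iso3 S) (hn : 5 ≤ finrank F V) (g : V ≃ₗ[F] V)
    (hg : ∀ u v a x y, S.h (g ((S.eich u v a).1 x)) (g ((S.eich u v a).1 y)) = S.h (g x) (g y)) :
    ∃ c : F, c ≠ 0 ∧ ∀ x y, S.h (g x) (g y) = c * S.h x y := by
  obtain ⟨A, hA⟩ := exists_gram hS (g : V →ₗ[F] V)
  obtain ⟨c, hc⟩ := scalar_of_sing_eigen hS h3 hn A (fun u hu => by
    by_cases hu0 : u = 0
    · simp [hu0]
    refine eigen_of_commute hS (by omega) hu (fun v _ => ?_) hu0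
    refine hS.ext_left fun y => ?_
    obtain ⟨y, rfl⟩ := (S.eich u v (S.q v)).1.surjective y
    rw [isom_h, hA, hA]
    have := hg u v (S.q v) u y
    rw [eich_apply_self] at this
    exact this.symm)
  have h1 : ∀ x y, S.h (g x) (g y) = σ c * S.h x y := fun x y => by
    have := hA x y
    rw [hc] at this
    simpa using this.symm
  refine ⟨σ c, fun h0 => ?_, h1⟩
  obtain ⟨e, -, he0, -⟩ := h3 ⊤ (by rw [finrank_top]; omega)
  apply he0
  have : g e = 0 := hS _ fun y => by
    obtain ⟨y, rfl⟩ := g.surjective y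
    rw [h1, h0, zero_mul]
  simpa using this

theorem lin_key (hS : S.Nondeg) (H : Subgroup (V ≃ₗ[F] V)) (hE : ∀ u v a, (S.eich u v a).1 ∈ H)
    {u : V} (hu : S.Sing u) (hB : ∀ z, S.h u z = 0 → HasTv H (S.h z) u → z ∈ F ∙ u)
    {k : V ≃ₗ[F] V} (hk : k ∈ H) (hku : k u = u) (hkh : ∀ x, S.h u (k x) = S.h u x) {x y : V}
    (hx : S.h u x = 0) (hy : S.h u y = 0) : S.h (k x) (k y) = S.h x y := by
  have hc : S.ECond u x (S.q x) := ECond.of_q hu hx
  have hc' : S.ECond u (k x) (S.q (k x)) := ECond.of_q hu (by rw [hkh, hx])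
  have hkh' : ∀ z, S.h u (k.symm z) = S.h u z := fun z => by rw [← hkh]; simp
  let ψ : Dual F V := P.ε • (S.h (k x) + S.q (k x) • S.h u -
    S.h x ∘ₗ (k.symm : V →ₗ[F] V) - S.q x • S.h u)
  have hψ : ∀ z, ψ z = P.ε * (S.h (k x) z + S.q (k x) * S.h u z - S.h x (k.symm z) -
      S.q x * S.h u z) := fun z => by simp [ψ]
  have h1 : HasTv H ψ u := by
    refine ⟨((S.eich u (k x) (S.q (k x))).1)⁻¹ * (k * (S.eich u x (S.q x)).1 * k⁻¹),
      H.mul_mem (H.inv_mem (hE _ _ _)) (H.mul_mem (H.mul_mem hk (hE _ _ _)) (H.inv_mem hk)),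
      fun z => (S.eich u (k x) (S.q (k x))).1.injective ?_⟩
    rw [← LinearEquiv.mul_apply, mul_inv_cancel_left, map_add, map_smul, eich_apply_self,
      eich_apply hc', LinearEquiv.mul_apply, LinearEquiv.mul_apply, eich_apply hc, hψ]
    simp only [LinearEquiv.coe_inv, map_sub, map_add, map_smul, hku, hkh',
      LinearEquiv.apply_symm_apply]
    module
  obtain ⟨w, hw⟩ := hS.exists_h_eq ψ
  have hku' : k.symm u = u := by rw [LinearEquiv.symm_apply_eq, hku]
  have huw : S.h u w = 0 := by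
    apply S.h_swap_zero
    rw [hw, hψ, hku', hu.h_self, S.h_swap_zero hx, S.h_swap_zero hc'.perp]; simp
  obtain ⟨c, rfl⟩ := Submodule.mem_span_singleton.1 (hB w huw (hw ▸ h1))
  have h2 := LinearMap.congr_fun hw (k y)
  rw [hψ, hkh, hy] at h2
  simp only [map_smulₛₗ, LinearMap.smul_apply, hkh, hy, smul_eq_mul, mul_zero, add_zero, sub_zero,
    LinearEquiv.symm_apply_apply] at h2
  have := (mul_eq_zero.1 h2.symm).resolve_left P.ε_ne_zero
  linear_combination this

theorem lin_dichotomy (hS : S.Nondeg) (h3 : Iso3 S) (hn : 9 ≤ finrank F V)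
    (H : Subgroup (V ≃ₗ[F] V)) (hE : ∀ u v a, (S.eich u v a).1 ∈ H) :
    (∀ x, LFull H x) ∨ ∀ g ∈ H, ∃ c : F, c ≠ 0 ∧ ∀ x y, S.h (g x) (g y) = c * S.h x y := by
  by_cases hB : ∀ u, S.Sing u → u ≠ 0 → ∀ z, S.h u z = 0 → HasTv H (S.h z) u → z ∈ F ∙ u
  swap
  · push Not at hB
    obtain ⟨u, hu, hu0, z, huz, hz, hzu⟩ := hB
    exact Or.inl (lfull_of_tv hS h3 (by omega) H hE hu hu0 huz hzu hz)
  refine Or.inr fun g hg => sim_of_conj_isom hS h3 (by omega) g fun u v a x y => ?_
  by_cases hc : S.ECond u v a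
  swap
  · rw [eich_junk hc]; rfl
  obtain ⟨w1, hw1⟩ := hS.exists_h_eq (S.h u ∘ₗ (g.symm : V →ₗ[F] V))
  obtain ⟨w2, hw2⟩ := hS.exists_h_eq (S.h v ∘ₗ (g.symm : V →ₗ[F] V))
  obtain ⟨w, hw, hp, hw0⟩ := exists_sing_top hS h3 [g u, g v, w1, w2, g x, g y] []
    (by simpa using hn)
  simp only [List.mem_cons, List.not_mem_nil, or_false, forall_eq_or_imp, forall_eq,
    Set.setOf_false, Submodule.span_empty, Submodule.mem_bot] at hp hw0
  obtain ⟨p1, p2, p3, p4, p5, p6⟩ := hp
  rw [hw1] at p3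
  rw [hw2] at p4
  have := lin_key hS H hE hw (hB w hw hw0) (k := g * (S.eich u v a).1 * g⁻¹)
    (H.mul_mem (H.mul_mem hg (hE _ _ _)) (H.inv_mem hg))
    (by
      rw [LinearEquiv.mul_apply, LinearEquiv.mul_apply, eich_apply_of_perp_perp (x := g⁻¹ w) p3 p4]
      simp)
    (fun z => by
      rw [LinearEquiv.mul_apply, LinearEquiv.mul_apply, eich_apply hc]
      simp [S.h_swap_zero p1, S.h_swap_zero p2])
    (S.h_swap_zero p5) (S.h_swap_zero p6)
  simpa [LinearEquiv.mul_apply] using this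

section Mat
variable {ι : Type} [Fintype ι] [DecidableEq ι]

theorem mem_specialLinear {g : GL ι F} :
    g ∈ Cfsg.Geo.specialLinear ι F ↔ (g : Matrix ι ι F).det = 1 := by
  rw [Cfsg.Geo.specialLinear, MonoidHom.mem_ker, ← Units.val_inj]; rfl

theorem sl_le_of_tv [Nontrivial ι] (L : Subgroup (GL ι F))
    (h : ∀ i j, i ≠ j → ∀ c : F,
      HasTv (L.map glEquiv.toMonoidHom) (c • LinearMap.proj j) (Pi.single i 1)) :
    Cfsg.Geo.specialLinear ι F ≤ L := by
  intro g hg
  have := H10.SL_transvection_induction (ι := ι) (F := F)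
    (fun A => Matrix.SpecialLinearGroup.toGL A ∈ L) (fun i j hij c => by
      obtain ⟨_, ⟨t, ht, rfl⟩, h⟩ := h i j hij c
      suffices Matrix.SpecialLinearGroup.toGL (Matrix.SpecialLinearGroup.transvection hij c) = t by
        rw [this]; exact ht
      apply Units.ext
      apply matrix_ext_mulVec
      intro v
      have := h v
      rw [MulEquiv.coe_toMonoidHom, glEquiv_apply] at this
      rw [this]
      show (1 + Matrix.single i j c) *ᵥ v = _
      ext k
      simp [Matrix.add_mulVec,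
        Matrix.single_mulVec, Pi.single_apply, Function.update_apply])
    (fun A B hA hB => by rw [map_mul]; exact L.mul_mem hA hB) ⟨g, mem_specialLinear.1 hg⟩
  convert this using 1
  exact Units.ext rfl

theorem sl_le_of_lfull [Nontrivial ι] (L : Subgroup (GL ι F))
    (h : ∀ x, LFull (L.map glEquiv.toMonoidHom) x) : Cfsg.Geo.specialLinear ι F ≤ L :=
  sl_le_of_tv L fun i j hij c => h _ _ (by simp [hij.symm])

theorem isMaximalIn_SL (M : Subgroup (GL ι F))
    (hne : ∃ g ∈ Cfsg.Geo.specialLinear ι F, g ∉ M)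
    (h : ∀ L, M ⊓ Cfsg.Geo.specialLinear ι F ≤ L → L ≤ Cfsg.Geo.specialLinear ι F →
      Cfsg.Geo.specialLinear ι F ≤ L ∨ L ≤ M) :
    Cfsg.Geo.IsMaximalIn (Cfsg.Geo.specialLinear ι F) (M ⊓ Cfsg.Geo.specialLinear ι F) := by
  refine ⟨lt_of_le_of_ne inf_le_right fun he => ?_, fun L h1 h2 => ?_⟩
  · obtain ⟨g, hg, hgM⟩ := hne
    rw [← he] at hg
    exact hgM hg.1
  · rcases h L h1 h2 with h | h
    · exact Or.inr (le_antisymm h2 h)
    · exact Or.inl (le_antisymm (le_inf h h2) h1)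

/-- the transvection `x ↦ x + φ x • u` as an element of `SL` -/
theorem exists_tv_SL (φ : Dual F (ι → F)) (u : ι → F) (h : φ u = 0) :
    ∃ g ∈ Cfsg.Geo.specialLinear ι F, ∀ x, (g : Matrix ι ι F) *ᵥ x = x + φ x • u := by
  refine ⟨glEquiv.symm (LinearEquiv.transvection h), ?_, fun x => by
    rw [glEquiv_symm_mulVec, LinearEquiv.transvection.apply]⟩
  show Matrix.GeneralLinearGroup.det _ = 1
  rw [← det_glEquiv]; simp

theorem toGL_eich_mem_SL (S : PForm P (ι → F)) (u v : ι → F) (a : F) :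
    toGL S (S.eich u v a) ∈ Cfsg.Geo.specialLinear ι F := by
  show Matrix.GeneralLinearGroup.det _ = 1
  rw [det_toGL, det_eich]

/-- maximality of the similarity group of a form in `SL` -/
theorem isMaximalIn_sim {S : PForm P (ι → F)} (hS : S.Nondeg) (h3 : Iso3 S)
    (hn : 9 ≤ Fintype.card ι) (M : Subgroup (GL ι F)) (h1 : ∀ u v a, toGL S (S.eich u v a) ∈ M)
    (h2 : ∀ g : GL ι F, g ∈ M ↔ ∃ c : F, c ≠ 0 ∧
      ∀ x y, S.h ((g : Matrix ι ι F) *ᵥ x) ((g : Matrix ι ι F) *ᵥ y) = c * S.h x y) :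
    Cfsg.Geo.IsMaximalIn (Cfsg.Geo.specialLinear ι F) (M ⊓ Cfsg.Geo.specialLinear ι F) := by
  have : Nontrivial ι := Fintype.one_lt_card_iff_nontrivial.1 (by omega)
  apply isMaximalIn_SL
  · obtain ⟨u, hu, -, hu0⟩ := exists_sing_top hS h3 [] [] (by simp; omega)
    obtain ⟨w, hw, hp, hwu⟩ := exists_sing_top hS h3 [u] [u] (by simp; omega)
    simp only [List.mem_cons, List.not_mem_nil, or_false, forall_eq,
      Set.setOf_false, Submodule.span_empty, Submodule.mem_bot] at hp hu0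
    rw [list_set_one] at hwu
    obtain ⟨g, hg, h⟩ := exists_tv_SL (S.h w) u (S.h_swap_zero hp)
    refine ⟨g, hg, fun hM => ?_⟩
    obtain ⟨c, hc0, hc⟩ := (h2 g).1 hM
    obtain ⟨x, hx, hxw⟩ := hS.exists_perp_of_notMem' hwu 1
    obtain ⟨y, hy, hyu⟩ := hS.exists_perp_of_notMem' (U := Submodule.span F {w, x}) (u := u) (by
      intro hm
      obtain ⟨a, b, hab⟩ := Submodule.mem_span_pair.1 hm
      have h4 := congrArg (S.h w) hab
      rw [map_add, map_smul, map_smul, hw.h_self, hxw, S.h_swap_zero hp] at h4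
      have hb : b = 0 := by simpa using h4
      rw [hb, zero_smul, add_zero] at hab
      have ha : a ≠ 0 := by rintro rfl; exact hu0 (by simpa using hab.symm)
      apply hwu
      rw [Submodule.mem_span_singleton]
      exact ⟨a⁻¹, by rw [← hab, smul_smul, inv_mul_cancel₀ ha, one_smul]⟩) 1
    rw [mem_perp_pair] at hy
    have := hc x y
    rw [h, h, hxw, hy.1] at this
    simp [hy.2, hyu] at this
  · intro L hL _
    rcases lin_dichotomy hS h3 (by simpa using hn) (L.map glEquiv.toMonoidHom) (fun u v a =>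
      ⟨toGL S (S.eich u v a), hL ⟨h1 u v a, toGL_eich_mem_SL S u v a⟩, by simp [toGL]⟩) with h | h
    · exact Or.inl (sl_le_of_lfull L h)
    · exact Or.inr fun g hg => (h2 g).2 (h _ ⟨g, hg, rfl⟩)

end Mat

end H29
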