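import Cfsg.Agent.H29.Lin

/-! Small tools for subspace stabilisers in `GL ι F`: `mem_subspaceStabilizer_of_le`,
`mulVec_mem_of_stab`, `exists_dual_of_notMem`, `exists_SL_fix_move`, `exists_SL_not_stab`. -/

set_option autoImplicit false

namespace H29
open H11 H11.PForm Module Matrix
open scoped MatrixGroups

variable {F : Type*} [Field F] {ι : Type} [Fintype ι] [DecidableEq ι]

theorem exists_dual_of_notMem {V : Type*} [AddCommGroup V] [Module F V] (U : Submodule F V) {u : V}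
    (hu : u ∉ U) (c : F) : ∃ φ : Module.Dual F V, (∀ x ∈ U, φ x = 0) ∧ φ u = c := by
  obtain ⟨φ, hφ, hφw⟩ := LinearMap.exists_extend_of_notMem (0 : U →ₗ[F] F) hu c
  exact ⟨φ, fun x hx => by simpa using LinearMap.congr_fun hφ ⟨x, hx⟩, hφw⟩

theorem exists_notMem_of_ne_top {V : Type*} [AddCommGroup V] [Module F V] {W : Submodule F V}
    (h : W ≠ ⊤) : ∃ x, x ∉ W := by
  by_contra h'
  push Not at h'
  exact h (eq_top_iff.2 fun x _ => h' x)

theorem map_eq_of_le {V : Type*} [AddCommGroup V] [Module F V] [FiniteDimensional F V]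
    (g : V ≃ₗ[F] V) {W W' : Submodule F V} (h : ∀ x ∈ W, g x ∈ W')
    (hd : finrank F W' ≤ finrank F W) : W.map (g : V →ₗ[F] V) = W' :=
  Submodule.eq_of_le_of_finrank_le (by rintro _ ⟨x, hx, rfl⟩; exact h x hx)
    (by rwa [LinearEquiv.finrank_map_eq])

theorem mem_subspaceStabilizer_of_le {W : Submodule F (ι → F)} {g : GL ι F}
    (hg : ∀ x ∈ W, (g : Matrix ι ι F) *ᵥ x ∈ W) : g ∈ Cfsg.Geo.subspaceStabilizer W := by
  intro v
  refine ⟨hg v, fun hv => ?_⟩
  have h1 := map_eq_of_le (glEquiv g) hg le_rfl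
  rw [← h1] at hv
  obtain ⟨x, hx, hx'⟩ := hv
  rwa [← (glEquiv g).injective hx']

theorem mulVec_mem_of_stab {W : Submodule F (ι → F)} {g : GL ι F}
    (hg : g ∈ Cfsg.Geo.subspaceStabilizer W) {x : ι → F} (hx : x ∈ W) :
    (g : Matrix ι ι F) *ᵥ x ∈ W := (hg x).1 hx

theorem exists_SL_fix_move (W : Submodule F (ι → F)) {u x : ι → F} (h : u ∉ W ⊔ F ∙ x) :
    ∃ g ∈ Cfsg.Geo.specialLinear ι F, (∀ y ∈ W, (g : Matrix ι ι F) *ᵥ y = y) ∧
      (g : Matrix ι ι F) *ᵥ u = u + x := by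
  obtain ⟨φ, h1, h2⟩ := exists_dual_of_notMem _ h 1
  obtain ⟨g, hg, h⟩ := exists_tv_SL φ x
    (h1 x (Submodule.mem_sup_right (Submodule.mem_span_singleton_self x)))
  exact ⟨g, hg, fun y hy => by simp [h, h1 y (Submodule.mem_sup_left hy)], by simp [h, h2]⟩

theorem exists_SL_not_stab {W : Submodule F (ι → F)} (hW0 : W ≠ ⊥) (hW1 : W ≠ ⊤) :
    ∃ g ∈ Cfsg.Geo.specialLinear ι F, g ∉ Cfsg.Geo.subspaceStabilizer W := by
  obtain ⟨w, hw, hw0⟩ := Submodule.exists_mem_ne_zero_of_ne_bot hW0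
  obtain ⟨x, hx⟩ := exists_notMem_of_ne_top hW1
  obtain ⟨g, hg, -, h⟩ := exists_SL_fix_move ⊥ (u := w) (x := x) (fun hm => by
    rw [bot_sup_eq] at hm
    obtain ⟨c, rfl⟩ := Submodule.mem_span_singleton.1 hm
    have hc : c ≠ 0 := by rintro rfl; simp at hw0
    exact hx ((W.smul_mem_iff hc).1 hw))
  refine ⟨g, hg, fun hm => hx ?_⟩
  have := mulVec_mem_of_stab hm hw
  rw [h] at this
  exact (W.add_mem_iff_right hw).1 this

theorem mem_decompositionStabilizer {t : ℕ} {D : Fin t → Submodule F (ι → F)} {g : GL ι F} :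
    g ∈ Cfsg.Geo.decompositionStabilizer D ↔ ∃ τ : Equiv.Perm (Fin t), ∀ i,
      (D i).map (glEquiv g : (ι → F) →ₗ[F] (ι → F)) = D (τ i) := Iff.rfl

/-- a map sending each part into some part permutes the parts -/
theorem exists_perm_of_forall {V : Type*} [AddCommGroup V] [Module F V] [FiniteDimensional F V]
    {t k : ℕ} {D : Fin t → Submodule F V} (hk : 0 < k) (hd : ∀ i, finrank F (D i) = k)
    (hind : ∀ i j, i ≠ j → Disjoint (D i) (D j)) (g : V ≃ₗ[F] V)
    (h : ∀ i, ∃ j, ∀ x ∈ D i, g x ∈ D j) :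
    ∃ τ : Equiv.Perm (Fin t), ∀ i, (D i).map (g : V →ₗ[F] V) = D (τ i) := by
  choose f hf using h
  have h1 : ∀ i, (D i).map (g : V →ₗ[F] V) = D (f i) := fun i =>
    map_eq_of_le g (hf i) (by rw [hd, hd])
  have hinj : Function.Injective f := by
    intro i j hij
    by_contra hne
    have h2 : D i = D j := by
      apply Submodule.map_injective_of_injective (f := (g : V →ₗ[F] V)) g.injective
      rw [h1, h1, hij]
    have := hind i j hne
    rw [h2, disjoint_self] at this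
    have h3 := hd j
    rw [this, finrank_bot] at h3
    omega
  exact ⟨Equiv.ofBijective f (Finite.injective_iff_bijective.1 hinj), h1⟩

end H29
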