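import Cfsg.Agent.H29.LinAux

/-! Overgroups of `E(W)` for a non-degenerate subspace `W`: `nd_side` (conjugates of `W₀` lie in `W` or
`W^⊥`), `nd_dichotomy`, irreducibility of isometry groups (`irr_isom_of_ne`, `orth_irr`), `nd_stab`,
`isMaximalIn_nd`. -/

set_option autoImplicit false

namespace H29
open H11 H11.PForm Module Matrix
open scoped MatrixGroups

variable {F : Type*} [Field F] {σ : F →+* F} {P : FParam σ} {V : Type*} [AddCommGroup V]
  [Module F V] {S : PForm P V}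

theorem bot_ε (hΛ : P.Λ = ⊥) : P.ε = 1 := by
  have := P.sub_mem 1
  rw [hΛ, AddSubgroup.mem_bot, map_one, mul_one, sub_eq_zero] at this
  exact this.symm

theorem bot_σ (hΛ : P.Λ = ⊥) (c : F) : σ c = c := by
  have := P.sub_mem c
  rw [hΛ, AddSubgroup.mem_bot, bot_ε hΛ, one_mul, sub_eq_zero] at this
  exact this.symm

theorem econd_zero {u v : V} (hu : S.Sing u) (hv : S.Sing v) (huv : S.h u v = 0) :
    S.ECond u v 0 := ⟨hu, huv, by simpa [Sing] using hv⟩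

theorem eich_zero_apply (hΛ : P.Λ = ⊥) {u v : V} (hu : S.Sing u) (hv : S.Sing v)
    (huv : S.h u v = 0) (x : V) : (S.eich u v 0).1 x = x + (S.h u x • v - S.h v x • u) := by
  rw [eich_apply (econd_zero hu hv huv), bot_ε hΛ]
  simp [add_sub_assoc]

theorem sing_comb {u v : V} (hu : S.Sing u) (hv : S.Sing v) (huv : S.h u v = 0) (a b : F) :
    S.Sing (a • u + b • v) := (hu.smul a).add (hv.smul b) (by simp [huv])

theorem eich_det (hΛ : P.Λ = ⊥) {u v : V} (hu : S.Sing u) (hv : S.Sing v) (huv : S.h u v = 0)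
    {α β γ δ : F} (hd : α * δ - β * γ = 1) :
    S.eich (α • u + β • v) (γ • u + δ • v) 0 = S.eich u v 0 := by
  ext x
  rw [eich_zero_apply hΛ hu hv huv, eich_zero_apply hΛ (sing_comb hu hv huv _ _)
    (sing_comb hu hv huv _ _) (by simp [huv, hu.h_self, hv.h_self, S.h_swap_zero huv])]
  simp only [map_add, map_smulₛₗ, LinearMap.add_apply, LinearMap.smul_apply, bot_σ hΛ,
    smul_eq_mul]
  linear_combination (norm := module) hd • (S.h u x • v - S.h v x • u)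

theorem eq_zero_of_indep {u v : V} (hu : u ≠ 0) (hv : v ∉ F ∙ u) {a b : F}
    (h : a • v - b • u = 0) : a = 0 ∧ b = 0 := by
  have ha : a = 0 := by
    by_contra ha
    apply hv
    rw [Submodule.mem_span_singleton]
    refine ⟨a⁻¹ * b, ?_⟩
    rw [mul_smul, ← sub_eq_zero.1 h, smul_smul, inv_mul_cancel₀ ha, one_smul]
  rw [ha, zero_smul, zero_sub, neg_eq_zero] at h
  exact ⟨ha, (smul_eq_zero.1 h).resolve_right hu⟩

theorem notMem_span_map (g : V ≃ₗ[F] V) {u v : V} (hv : v ∉ F ∙ u) : g v ∉ F ∙ g u := by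
  intro h
  obtain ⟨c, hc⟩ := Submodule.mem_span_singleton.1 h
  rw [← map_smul] at hc
  exact hv (Submodule.mem_span_singleton.2 ⟨c, g.injective hc⟩)

variable [FiniteDimensional F V]

theorem exists_mem_perp_h_eq {W : Submodule F V} (hW : (S.restrict W).Nondeg) {u v : V}
    (hu : u ∈ W) (hv : v ∈ W) (hvu : v ∉ F ∙ u) (c : F) :
    ∃ y ∈ W, S.h u y = 0 ∧ S.h v y = c := by
  obtain ⟨y, hy, hyv⟩ := hW.exists_perp_of_notMem' (U := F ∙ (⟨u, hu⟩ : W)) (u := ⟨v, hv⟩)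
    (fun hm => by
      obtain ⟨c, hc⟩ := Submodule.mem_span_singleton.1 hm
      exact hvu (Submodule.mem_span_singleton.2 ⟨c, congrArg Subtype.val hc⟩)) c
  exact ⟨y, y.2, (PForm.mem_perp_singleton (S.restrict W)).1 hy, hyv⟩

section
variable {W : Submodule F V} {H : Subgroup S.Isom}

theorem mem_BSet_of_mem (hE : ∀ u ∈ W, ∀ v ∈ W, ∀ a, S.eich u v a ∈ H) {u z : V} (hu : u ∈ W)
    (hs : S.Sing u) (hz : z ∈ W) (huz : S.h u z = 0) : z ∈ BSet H hs :=
  ⟨S.q z, ECond.of_q hs huz, hE u hu z hz _⟩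

theorem nd_fix (hE : ∀ u ∈ W, ∀ v ∈ W, ∀ a, S.eich u v a ∈ H)
    (hB : ∀ u ∈ W, u ≠ 0 → ∀ hs : S.Sing u, ∀ v ∈ BSet H hs, v ∈ W) {k : S.Isom} (hk : k ∈ H)
    {u z : V} (hu : u ∈ W) (hu0 : u ≠ 0) (hs : S.Sing u) (hku : k.1 u = u) (hz : z ∈ W)
    (huz : S.h u z = 0) : k.1 z ∈ W :=
  hB u hu hu0 hs _ (BSet_map (mem_BSet_of_mem hE hu hs hz huz) hk hku)

theorem nd_transv (hS : S.Nondeg) (h3 : Iso3 S) (h5 : 5 ≤ finrank F W)
    (hE : ∀ u ∈ W, ∀ v ∈ W, ∀ a, S.eich u v a ∈ H)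
    (hB : ∀ u ∈ W, u ≠ 0 → ∀ hs : S.Sing u, ∀ v ∈ BSet H hs, v ∈ W) {x : V} (hx : S.Sing x)
    {a : F} (ha : a ∈ P.Λ) (ha0 : a ≠ 0) (hxH : S.eich x 0 a ∈ H) : x ∈ W ∨ x ∈ S.perp W := by
  by_cases hxW : x ∈ W
  · exact Or.inl hxW
  refine Or.inr fun z hz => ?_
  obtain ⟨u, hu, hs, hp, hu0⟩ := exists_sing hS h3 W [x, z] [] (by simpa using h5)
  simp only [List.mem_cons, List.not_mem_nil, or_false, forall_eq_or_imp, forall_eq,
    Set.setOf_false, Submodule.span_empty, Submodule.mem_bot] at hp hu0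
  have h1 := nd_fix hE hB hxH hu hu0 hs (eich_apply_of_perp_perp hp.1 (by simp)) hz
    (S.h_swap_zero hp.2)
  rw [transv_apply hx ha, Submodule.sub_mem_iff_right _ hz] at h1
  by_contra h0
  refine hxW ((W.smul_mem_iff ?_).1 h1)
  exact mul_ne_zero (mul_ne_zero P.ε_ne_zero ha0) fun h => h0 (S.h_swap_zero h)

theorem nd_plane (hS : S.Nondeg) (h3 : Iso3 S) (hW : (S.restrict W).Nondeg)
    (h5 : 5 ≤ finrank F W) (hE : ∀ u ∈ W, ∀ v ∈ W, ∀ a, S.eich u v a ∈ H)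
    (hB : ∀ u ∈ W, u ≠ 0 → ∀ hs : S.Sing u, ∀ v ∈ BSet H hs, v ∈ W) (hΛ : P.Λ = ⊥) {x y : V}
    (hx : S.Sing x) (hy : S.Sing y) (hxy : S.h x y = 0) (hx0 : x ≠ 0) (hyx : y ∉ F ∙ x)
    (hH : S.eich x y 0 ∈ H) : x ∈ W ∨ x ∈ S.perp W := by
  by_cases hA : ∃ α β : F, α • x + β • y ≠ 0 ∧ α • x + β • y ∈ W
  · left
    obtain ⟨α, β, h0, hm⟩ := hA
    obtain ⟨γ, δ, hd⟩ : ∃ γ δ : F, α * δ - β * γ = 1 := by
      by_cases hα : α = 0
      · have hβ : β ≠ 0 := by rintro rfl; simp [hα] at h0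
        exact ⟨-β⁻¹, 0, by simp [hβ]⟩
      · exact ⟨0, α⁻¹, by simp [hα]⟩
    rw [← eich_det hΛ hx hy hxy hd] at hH
    have h1 := hB _ hm h0 (sing_comb hx hy hxy _ _) (γ • x + δ • y) ⟨0, econd_zero
      (sing_comb hx hy hxy _ _) (sing_comb hx hy hxy _ _)
      (by simp [hxy, hx.h_self, hy.h_self, S.h_swap_zero hxy]), hH⟩
    have : x = δ • (α • x + β • y) - β • (γ • x + δ • y) := by
      linear_combination (norm := module) (-hd) • x
    rw [this]
    exact W.sub_mem (W.smul_mem _ hm) (W.smul_mem _ h1)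
  right
  push Not at hA
  have key : ∀ u ∈ W, S.Sing u → u ≠ 0 → S.h x u = 0 → S.h y u = 0 → ∀ z ∈ W, S.h u z = 0 →
      S.h x z = 0 ∧ S.h y z = 0 := by
    intro u hu hs hu0 h1 h2 z hz huz
    have h4 := nd_fix hE hB hH hu hu0 hs (eich_apply_of_perp_perp h1 h2) hz huz
    rw [eich_zero_apply hΛ hx hy hxy, Submodule.add_mem_iff_right _ hz] at h4
    apply eq_zero_of_indep hx0 hyx
    by_contra h0
    refine hA (-S.h y z) (S.h x z) ?_ ?_
    · rwa [neg_smul, neg_add_eq_sub]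
    · rwa [neg_smul, neg_add_eq_sub]
  obtain ⟨u, hu, hs, hp, hu0⟩ := exists_sing hS h3 W [x, y] [] (by simpa using h5)
  obtain ⟨u', hu', hs', hp', hu0'⟩ := exists_sing hS h3 W [u] [u] (by simpa using h5)
  rw [list_set_one] at hu0'
  simp only [List.mem_cons, List.not_mem_nil, or_false, forall_eq_or_imp, forall_eq,
    Set.setOf_false, Submodule.span_empty, Submodule.mem_bot] at hp hu0 hp'
  have h1 := key u hu hs hu0 hp.1 hp.2
  have h2 := key u' hu' hs' (fun h => hu0' (by simp [h])) (h1 u' hu' hp').1 (h1 u' hu' hp').2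
  obtain ⟨t, ht, htu, htu'⟩ := exists_mem_perp_h_eq hW hu hu' hu0' 1
  intro z hz
  apply S.h_swap_zero
  have h4 := (h2 (z - S.h u' z • t) (W.sub_mem hz (W.smul_mem _ ht)) (by simp [htu'])).1
  simpa [(h1 t ht htu).1] using h4

/-- if all singular vectors of `W₀` go to `A ∪ B` then `W₀` goes to `A` or to `B` -/
theorem side_of_sing (hS : S.Nondeg) (h3 : Iso3 S) {W₀ : Submodule F V}
    (hW₀ : (S.restrict W₀).Nondeg) (h5 : 5 ≤ finrank F W₀) {A B : Submodule F V}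
    (hAB : Disjoint A B) (g : V ≃ₗ[F] V) (h : ∀ x ∈ W₀, S.Sing x → g x ∈ A ∨ g x ∈ B) :
    (∀ x ∈ W₀, g x ∈ A) ∨ ∀ x ∈ W₀, g x ∈ B := by
  have pair : ∀ {A B : Submodule F V}, Disjoint A B → (∀ x ∈ W₀, S.Sing x → g x ∈ A ∨ g x ∈ B) →
      ∀ u ∈ W₀, ∀ v ∈ W₀, S.Sing u → S.Sing v → S.h u v = 0 → u ≠ 0 → g u ∈ A → g v ∈ A := by
    intro A B hAB h u hu v hv hs hs' huv hu0 hgu
    rcases h v hv hs' with h1 | h1
    · exact h1
    rcases h (u + v) (W₀.add_mem hu hv) (hs.add hs' huv) with h2 | h2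
    · rw [map_add] at h2
      exact (A.add_mem_iff_right hgu).1 h2
    · rw [map_add] at h2
      have := (Submodule.disjoint_def.1 hAB) _ hgu ((B.add_mem_iff_left h1).1 h2)
      exact absurd (by simpa using this) hu0
  have all : ∀ {A B : Submodule F V}, Disjoint A B → (∀ x ∈ W₀, S.Sing x → g x ∈ A ∨ g x ∈ B) →
      ∀ u ∈ W₀, S.Sing u → u ≠ 0 → g u ∈ A → ∀ x ∈ W₀, g x ∈ A := by
    intro A B hAB h u hu hs hu0 hgu
    obtain ⟨f, hf, H⟩ := exists_partner_mem hW₀ hu hu0 hs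
    refine span_sing W₀ hu hf hs (by rw [H.h_ef]; exact one_ne_zero)
      (A.comap (g : V →ₗ[F] V)).toAddSubgroup (fun x hx hxs => ?_)
    obtain ⟨w, hw, hws, hp, hw0⟩ := exists_sing hS h3 W₀ [u, x] [] (by simpa using h5)
    simp only [List.mem_cons, List.not_mem_nil, or_false, forall_eq_or_imp, forall_eq,
      Set.setOf_false, Submodule.span_empty, Submodule.mem_bot] at hp hw0
    exact pair hAB h w hw x hx hws hxs (S.h_swap_zero hp.2) hw0
      (pair hAB h u hu w hw hs hws hp.1 hu0 hgu)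
  obtain ⟨e, he, he0, hs⟩ := h3 W₀ (by omega)
  rcases h e he hs with h1 | h1
  · exact Or.inl (all hAB h e he hs he0 h1)
  · exact Or.inr (all hAB.symm (fun x hx hs => (h x hx hs).symm) e he hs he0 h1)

theorem nd_side (hS : S.Nondeg) (h3 : Iso3 S) (hW : (S.restrict W).Nondeg)
    (h5 : 5 ≤ finrank F W) (hE : ∀ u ∈ W, ∀ v ∈ W, ∀ a, S.eich u v a ∈ H)
    (hB : ∀ u ∈ W, u ≠ 0 → ∀ hs : S.Sing u, ∀ v ∈ BSet H hs, v ∈ W) {W₀ : Submodule F V}
    (hW₀ : (S.restrict W₀).Nondeg) (h5' : 5 ≤ finrank F W₀)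
    (hE₀ : ∀ u ∈ W₀, ∀ v ∈ W₀, ∀ a, S.eich u v a ∈ H) {g : S.Isom} (hg : g ∈ H) :
    (∀ x ∈ W₀, g.1 x ∈ W) ∨ ∀ x ∈ W₀, g.1 x ∈ S.perp W := by
  refine side_of_sing hS h3 hW₀ h5' ((S.restrict_nondeg_iff W).1 hW) g.1 fun x hx hs => ?_
  by_cases hx0 : x = 0
  · left; simp [hx0]
  by_cases hΛ : P.Λ = ⊥
  · obtain ⟨y, hy, hys, hp, hyx⟩ := exists_sing hS h3 W₀ [x] [x] (by simpa using h5')
    rw [list_set_one] at hyx
    refine nd_plane hS h3 hW h5 hE hB hΛ ((isom_sing g x).2 hs) ((isom_sing g y).2 hys)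
      (by rw [isom_h]; exact hp x (by simp)) (by simpa using hx0) (notMem_span_map g.1 hyx) ?_
    rw [← conj_eich]
    exact H.mul_mem (H.mul_mem hg (hE₀ x hx y hy 0)) (H.inv_mem hg)
  · obtain ⟨a, ha, ha0⟩ := (AddSubgroup.bot_or_exists_ne_zero P.Λ).resolve_left hΛ
    refine nd_transv hS h3 h5 hE hB ((isom_sing g x).2 hs) ha ha0 ?_
    have := H.mul_mem (H.mul_mem hg (hE₀ x hx 0 W₀.zero_mem a)) (H.inv_mem hg)
    rwa [conj_eich, map_zero] at this

theorem nd_full (hS : S.Nondeg) (h3 : Iso3 S) (hW : (S.restrict W).Nondeg)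
    (h5 : 5 ≤ finrank F W) (hE : ∀ u ∈ W, ∀ v ∈ W, ∀ a, S.eich u v a ∈ H)
    (hirr : ∀ Y : Submodule F V, Y ≤ S.perp W → Y ≠ ⊥ →
      (∀ g ∈ H, g ∈ S.stab W → ∀ y ∈ Y, g.1 y ∈ Y) → S.perp W ≤ Y)
    {u v : V} (hu : u ∈ W) (hu0 : u ≠ 0) (hs : S.Sing u) (hv : v ∈ BSet H hs) (hvW : v ∉ W) :
    S.E ≤ H := by
  have transfer : ∀ u ∈ W, u ≠ 0 → ∀ hs : S.Sing u, ∀ u' ∈ W, u' ≠ 0 → ∀ hs' : S.Sing u',
      ∀ y ∈ S.perp W, y ∈ BSet H hs → y ∈ BSet H hs' := by
    intro u hu hu0 hs u' hu' hu0' hs' y hy hyB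
    obtain ⟨g, hg, h1, h2, -⟩ := exists_EW h3 hW h5 hE hu hu' hu0 hu0' (P.Λ.sub_mem hs' hs)
    have := BSet_map (hu' := hs') hyB hg h1
    rwa [h2 y hy] at this
  let Y : Submodule F V :=
    { carrier := {y | y ∈ S.perp W ∧ y ∈ BSet H hs}
      add_mem' := fun ha hb => ⟨Submodule.add_mem _ ha.1 hb.1, AddSubgroup.add_mem _ ha.2 hb.2⟩
      zero_mem' := ⟨Submodule.zero_mem _, AddSubgroup.zero_mem _⟩
      smul_mem' := fun c y hy => ⟨Submodule.smul_mem _ _ hy.1, by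
        by_cases hc : c = 0
        · rw [hc, zero_smul]; exact AddSubgroup.zero_mem _
        have hc' : σ c ≠ 0 := by simpa using hc
        have := BSet_smul (hu := hs) hc' (transfer u hu hu0 hs (σ c • u) (W.smul_mem _ hu)
          (smul_ne_zero hc' hu0) (hs.smul _) y hy.1 hy.2)
        rwa [P.σσ] at this⟩ }
  have hdec : ∀ v, S.h u v = 0 → ∃ a ∈ BSet H hs, ∃ b ∈ S.perp W, v = a + b ∧ a ∈ W := by
    intro v hv
    obtain ⟨a, ha, b, hb, rfl⟩ := exists_decomp hW v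
    exact ⟨a, mem_BSet_of_mem hE hu hs ha (by simpa [hb u hu] using hv), b, hb, rfl, ha⟩
  have hY : S.perp W ≤ Y := by
    refine hirr Y (fun y hy => hy.1) ?_ fun g hg hgW y hy => ⟨?_, ?_⟩
    · obtain ⟨a, ha, b, hb, rfl, haW⟩ := hdec v (BSet_perp hv)
      intro h0
      have : b ∈ Y := ⟨hb, by simpa using (BSet H hs).sub_mem hv ha⟩
      rw [h0, Submodule.mem_bot] at this
      exact hvW (by simpa [this] using haW)
    · exact (stab_le_stab_perp W hgW y).1 hy.1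
    · exact transfer (g.1 u) ((hgW u).1 hu) (by simpa using hu0) ((isom_sing g u).2 hs) u hu hu0 hs
        _ ((stab_le_stab_perp W hgW y).1 hy.1) (BSet_map hy.2 hg rfl)
  have hfull : Full H u := by
    refine full_of_BSet hs (fun v hv => ?_) (fun a _ => hE u hu 0 W.zero_mem a)
    obtain ⟨a, ha, b, hb, rfl, -⟩ := hdec v hv
    exact AddSubgroup.add_mem _ ha (hY hb).2
  obtain ⟨f, hf, Hy⟩ := exists_partner_mem hW hu hu0 hs
  obtain ⟨g, hg, h1, -⟩ := exists_EW h3 hW h5 hE hu hf hu0 Hy.f_ne (P.Λ.sub_mem Hy.sing_f hs)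
  exact S.E_le_iff.2 fun x v a _ => full_all_of_pair hS hs Hy.sing_f hfull (h1 ▸ hfull.map hg)
    (by rw [Hy.h_ef]; exact one_ne_zero) x v a

theorem nd_dichotomy (hS : S.Nondeg) (h3 : Iso3 S) (hW : (S.restrict W).Nondeg)
    (h5 : 5 ≤ finrank F W) (hE : ∀ u ∈ W, ∀ v ∈ W, ∀ a, S.eich u v a ∈ H)
    (hirr : ∀ Y : Submodule F V, Y ≤ S.perp W → Y ≠ ⊥ →
      (∀ g ∈ H, g ∈ S.stab W → ∀ y ∈ Y, g.1 y ∈ Y) → S.perp W ≤ Y) :
    S.E ≤ H ∨ ∀ u ∈ W, u ≠ 0 → ∀ hs : S.Sing u, ∀ v ∈ BSet H hs, v ∈ W := by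
  by_cases h : ∀ u ∈ W, u ≠ 0 → ∀ hs : S.Sing u, ∀ v ∈ BSet H hs, v ∈ W
  · exact Or.inr h
  · push Not at h
    obtain ⟨u, hu, hu0, hs, v, hv, hvW⟩ := h
    exact Or.inl (nd_full hS h3 hW h5 hE hirr hu hu0 hs hv hvW)

end

/-- the isometry group acts irreducibly -/
def IsomIrr (S : PForm P V) : Prop :=
  ∀ Y : Submodule F V, Y ≠ ⊥ → (∀ g : S.Isom, ∀ y ∈ Y, g.1 y ∈ Y) → Y = ⊤

omit [FiniteDimensional F V] in
theorem mem_of_qrefl {Y : Submodule F V} (hY : ∀ g : S.Isom, ∀ y ∈ Y, g.1 y ∈ Y) {d y : V} {b : F}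
    (hc : S.QCond d b) (hy : y ∈ Y) (hdy : S.h d y ≠ 0) : d ∈ Y := by
  have := hY (S.qrefl d b) y hy
  rw [qrefl_apply hc, Submodule.sub_mem_iff_right _ hy] at this
  exact (Y.smul_mem_iff (mul_ne_zero (inv_ne_zero hc.ne) hdy)).1 this

omit [FiniteDimensional F V] in
theorem isomIrr_of_ne (hS : S.Nondeg) (hΛ : P.Λ ≠ ⊥) : IsomIrr S := by
  intro Y hY0 hY
  obtain ⟨y, hy, hy0⟩ := Submodule.exists_mem_ne_zero_of_ne_bot hY0
  obtain ⟨a, ha, ha0⟩ := (AddSubgroup.bot_or_exists_ne_zero P.Λ).resolve_left hΛ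
  have key : ∀ d, S.h y d ≠ 0 → d ∈ Y := by
    intro d hd
    have hd' : S.h d y ≠ 0 := fun h => hd (S.h_swap_zero h)
    by_cases hq : S.q d = 0
    · exact mem_of_qrefl hY (b := a) ⟨ha0, by simpa [hq] using ha⟩ hy hd'
    · exact mem_of_qrefl hY (b := S.q d) ⟨hq, by simp⟩ hy hd'
  obtain ⟨f, hf⟩ := hS.exists_h_ne_zero hy0
  rw [eq_top_iff]
  intro x _
  by_cases hx : S.h y x = 0
  · simpa using Y.sub_mem (key (x + f) (by simpa [hx] using hf)) (key f hf)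
  · exact key x hx

theorem isomIrr_of_sing (hS : S.Nondeg) {Y : Submodule F V}
    (hY : ∀ g : S.Isom, ∀ y ∈ Y, g.1 y ∈ Y) {y : V} (hy : y ∈ Y) (hy0 : y ≠ 0) (hs : S.Sing y) :
    Y = ⊤ := by
  obtain ⟨f, H⟩ := hS.exists_isHyp hs hy0
  rw [eq_top_iff]
  intro x _
  refine span_sing ⊤ trivial trivial hs (by rw [H.h_ef]; exact one_ne_zero) Y.toAddSubgroup
    (fun x _ hx => ?_) x trivial
  by_cases hx0 : x = 0
  · rw [hx0]; exact Y.zero_mem
  obtain ⟨g, rfl⟩ := hS.witt_vec hy0 hx0 (P.Λ.sub_mem hx hs)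
  exact hY g y hy

theorem orth_irr [Finite F] {S : PForm (orthP F) V} (hS : S.Nondeg)
    (hex : ¬ (Nat.card F ≤ 3 ∧ finrank F V = 2 ∧ ∃ x, x ≠ 0 ∧ S.q x = 0)) : IsomIrr S := by
  intro Y hY0 hY
  by_contra hY1
  have := Fintype.ofFinite F
  have hZ : ∀ g : S.Isom, ∀ z ∈ S.perp Y, g.1 z ∈ S.perp Y := fun g z hz y hy => by
    rw [isom_h_right]; exact hz _ (hY _ y hy)
  have hZ0 : S.perp Y ≠ ⊥ := fun h => hY1 (by rw [← hS.perp_perp Y, h, perp_bot])
  have hZ1 : S.perp Y ≠ ⊤ := fun h => hY0 (by rw [← hS.perp_perp Y, h, hS.perp_top])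
  have aY : ∀ y ∈ Y, y ≠ 0 → S.q y ≠ 0 := fun y hy h0 h =>
    hY1 (isomIrr_of_sing hS hY hy h0 ((orth_sing S y).2 h))
  have aZ : ∀ y ∈ S.perp Y, y ≠ 0 → S.q y ≠ 0 := fun y hy h0 h =>
    hZ1 (isomIrr_of_sing hS hZ hy h0 ((orth_sing S y).2 h))
  have ns : ∀ d, S.q d ≠ 0 → d ∈ Y ∨ d ∈ S.perp Y := by
    intro d hd
    by_cases h : d ∈ S.perp Y
    · exact Or.inr h
    · rw [mem_perp'] at h
      push Not at h
      obtain ⟨y, hy, hdy⟩ := h
      exact Or.inl (mem_of_qrefl hY (b := S.q d) ⟨hd, by simp⟩ hy hdy)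
  have witt : ∀ {A : Submodule F V}, (∀ g : S.Isom, ∀ y ∈ A, g.1 y ∈ A) → ∀ y ∈ A, y ≠ 0 → ∀ d,
      d ≠ 0 → S.q d = S.q y → d ∈ A := by
    intro A hA y hy hy0 d hd0 hq
    obtain ⟨g, rfl⟩ := hS.witt_vec hy0 hd0 (by simp [hq])
    exact hA g y hy
  have small : (∀ c : F, c ≠ 0 → c ^ 2 = 1) → Nat.card F ≤ 3 := by
    intro h
    by_contra h4
    obtain ⟨c, hc0, hc⟩ := exists_sq_ne_one (F := F) (by omega)
    exact hc (h c hc0)
  have hdim := hS.finrank_perp Y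
  apply hex
  by_cases hR : ∃ r ∈ Y, r ∈ S.perp Y ∧ r ≠ 0
  · obtain ⟨r, hr, hr', hr0⟩ := hR
    have hq := aY r hr hr0
    have h2 : (2 : F) = 0 := by
      have := hr' r hr
      rw [orth_h_self] at this
      exact (mul_eq_zero.1 this).resolve_right hq
    have hc2 : ringChar F = 2 := by
      by_contra h; exact Ring.two_ne_zero h h2
    have hns : ∀ d, S.q d ≠ 0 → d ∈ Y ⊓ S.perp Y := by
      intro d hd
      obtain ⟨c, hc⟩ := FiniteField.isSquare_of_char_two hc2 (S.q d / S.q r)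
      have hc0 : c ≠ 0 := by rintro rfl; simp [hq, hd] at hc
      have hd0 : d ≠ 0 := by rintro rfl; exact hd S.orth_q_zero
      have h1 : S.q d = S.q (c • r) := by rw [orth_q_smul, pow_two, ← hc]; field_simp
      exact ⟨witt hY _ (Y.smul_mem c hr) (smul_ne_zero hc0 hr0) d hd0 h1,
        witt hZ _ (Submodule.smul_mem _ c hr') (smul_ne_zero hc0 hr0) d hd0 h1⟩
    have hout : ∀ x, x ∉ Y ⊓ S.perp Y → S.q x = 0 := fun x hx => by
      by_contra h; exact hx (hns x h)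
    have hval : ∀ x, x ∉ Y ⊓ S.perp Y → ∀ s ∈ Y ⊓ S.perp Y, S.h x s = -S.q s := by
      intro x hx s hs
      have h1 := hout (x + s) (fun h => hx ((Submodule.add_mem_iff_left _ hs).1 h))
      rw [orth_q_add, hout x hx] at h1
      linear_combination h1
    obtain ⟨x, hx⟩ := exists_notMem_of_ne_top hY1
    have hx' : x ∉ Y ⊓ S.perp Y := fun h => hx h.1
    have htop : (Y ⊓ S.perp Y) ⊔ F ∙ x = ⊤ := by
      rw [eq_top_iff]
      intro y _
      by_cases hy : y ∈ Y ⊓ S.perp Y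
      · exact Submodule.mem_sup_left hy
      by_cases hxy : x + y ∈ Y ⊓ S.perp Y
      · have := Submodule.sub_mem _ (Submodule.mem_sup_left (T := F ∙ x) hxy)
          (Submodule.mem_sup_right (Submodule.mem_span_singleton_self x))
        simpa using this
      · exfalso
        have h1 := hval _ hxy r ⟨hr, hr'⟩
        rw [map_add, LinearMap.add_apply, hval x hx' r ⟨hr, hr'⟩, hval y hy r ⟨hr, hr'⟩] at h1
        exact hq (by linear_combination -h1)
    have h1 := Submodule.finrank_sup_span_singleton (K := F) hx'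
    rw [htop, finrank_top] at h1
    have h4 : finrank F ↥(Y ⊓ S.perp Y) ≤ finrank F Y := Submodule.finrank_mono inf_le_left
    have h5 : finrank F ↥(Y ⊓ S.perp Y) ≤ finrank F (S.perp Y) := Submodule.finrank_mono inf_le_right
    have h6 : 0 < finrank F ↥(Y ⊓ S.perp Y) := by
      rw [Nat.pos_iff_ne_zero, Ne, Submodule.finrank_eq_zero]
      intro h
      have : r ∈ Y ⊓ S.perp Y := ⟨hr, hr'⟩
      rw [h] at this
      exact hr0 this
    refine ⟨small fun c hc => ?_, by omega, x, fun h => hx (h ▸ Y.zero_mem), hout x hx'⟩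
    have h7 := hval (c • x) (fun h => hx' ((Submodule.smul_mem_iff _ hc).1 h)) r ⟨hr, hr'⟩
    rw [map_smulₛₗ, LinearMap.smul_apply, hval x hx' r ⟨hr, hr'⟩] at h7
    have : c = 1 := by
      apply mul_right_cancel₀ hq
      simpa using h7
    simp [this]
  · push Not at hR
    have hsum : ∀ y ∈ Y, y ≠ 0 → ∀ z ∈ S.perp Y, z ≠ 0 → S.q y + S.q z = 0 := by
      intro y hy hy0 z hz hz0
      by_contra h
      rcases ns (y + z) (by rwa [orth_q_add, hz y hy, add_zero]) with h1 | h1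
      · exact hz0 (hR z ((Y.add_mem_iff_right hy).1 h1) hz)
      · exact hy0 (hR y hy ((Submodule.add_mem_iff_left _ hz).1 h1))
    obtain ⟨y, hy, hy0⟩ := Submodule.exists_mem_ne_zero_of_ne_bot hY0
    obtain ⟨z, hz, hz0⟩ := Submodule.exists_mem_ne_zero_of_ne_bot hZ0
    have h2 : (2 : F) ≠ 0 := by
      intro h2
      refine hz0 (hR z (witt hY y hy hy0 z hz0 ?_) hz)
      linear_combination hsum y hy hy0 z hz hz0 - S.q y * h2
    have one : ∀ (A : Submodule F V) (κ : F), κ ≠ 0 → (∀ a ∈ A, a ≠ 0 → S.q a = κ) →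
        finrank F A ≤ 1 := by
      intro A κ hκ hA
      by_contra h
      obtain ⟨a, ha, ha0⟩ := exists_ne_zero_of_finrank A (by omega)
      have := finrank_span_one_le (F := F) a
      obtain ⟨b, hb, hba, -⟩ := exists_mem_ker_notMem [] A (F ∙ a) (by simp; omega)
      have hb0 : b ≠ 0 := fun h => hba (by simp [h])
      have e1 := hA (a + b) (A.add_mem ha hb) (fun h => hba (by
        rw [eq_neg_of_add_eq_zero_right h]
        exact Submodule.neg_mem _ (Submodule.mem_span_singleton_self a)))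
      have e2 := hA (a - b) (A.sub_mem ha hb) (fun h => hba (by
        rw [← sub_eq_zero.1 h]; exact Submodule.mem_span_singleton_self a))
      rw [orth_q_add, hA a ha ha0, hA b hb hb0] at e1
      rw [orth_q_sub, hA a ha ha0, hA b hb hb0] at e2
      exact mul_ne_zero h2 hκ (by linear_combination e1 + e2)
    have h4 := one Y (-S.q z) (neg_ne_zero.2 (aZ z hz hz0)) fun a ha ha0 => by
      linear_combination hsum a ha ha0 z hz hz0
    have h5 := one (S.perp Y) (-S.q y) (neg_ne_zero.2 (aY y hy hy0)) fun a ha ha0 => by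
      linear_combination hsum y hy hy0 a ha ha0
    have h6 := Submodule.finrank_eq_zero.not.2 hY0
    have h7 := Submodule.finrank_eq_zero.not.2 hZ0
    refine ⟨small fun c hc => ?_, by omega, y + z, fun h => hy0 (hR y hy ?_), ?_⟩
    · have e1 := hsum _ (Y.smul_mem c hy) (smul_ne_zero hc hy0) z hz hz0
      rw [orth_q_smul] at e1
      apply mul_right_cancel₀ (aY y hy hy0)
      linear_combination e1 - hsum y hy hy0 z hz hz0
    · rw [eq_neg_of_add_eq_zero_left h]; exact Submodule.neg_mem _ hz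
    · rw [orth_q_add, hz y hy, add_zero]; exact hsum y hy hy0 z hz hz0

omit [FiniteDimensional F V] in
theorem eich_mem_stab {W : Submodule F V} [FiniteDimensional F W] {u v : V} (hu : u ∈ W)
    (hv : v ∈ W) (a : F) : S.eich u v a ∈ S.stab W := by
  refine mem_stab_of_le fun x hx => ?_
  by_cases hc : S.ECond u v a
  · rw [eich_apply hc]
    exact W.sub_mem (W.add_mem hx (W.smul_mem _ hv)) (W.smul_mem _ hu)
  · rw [eich_junk hc]; exact hx

/-- every isometry of `W^⊥` is induced by an element of `E` stabilising `W` -/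
theorem exists_E_ext2 (hS : S.Nondeg) (h3 : Iso3 S) (hn : 5 ≤ finrank F V) {W : Submodule F V}
    (hW : (S.restrict W).Nondeg) (hW3 : 3 ≤ finrank F W) (k : (S.restrict (S.perp W)).Isom) :
    ∃ g ∈ S.E, g ∈ S.stab W ∧ ∀ y : S.perp W, g.1 y = k.1 y := by
  obtain ⟨e, he, f, hf, H⟩ := exists_hyp_mem h3 hW hW3
  obtain ⟨r, h1, h2, h4⟩ := exists_E_mul_fix hS h3 hn he hf H (ext2 hW k)
  refine ⟨_, h4, mem_stab_of_le fun x hx => ?_, fun y => ?_⟩
  · rw [isom_mul_apply, ext2_left hW k (h2 x hx)]; exact h2 x hx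
  · rw [isom_mul_apply, h1 y y.2, ext2_right]

theorem nd_stab (hS : S.Nondeg) (h3 : Iso3 S) {W : Submodule F V} (hW : (S.restrict W).Nondeg)
    (h5 : 5 ≤ finrank F W) (hirr : IsomIrr (S.restrict (S.perp W)))
    (hside : ∀ g : S.Isom, ¬ ∀ x ∈ W, g.1 x ∈ S.perp W) (H : Subgroup S.Isom)
    (hH : S.stab W ⊓ S.E ≤ H) : S.E ≤ H ∨ H ≤ S.stab W := by
  have hE : ∀ u ∈ W, ∀ v ∈ W, ∀ a, S.eich u v a ∈ H := fun u hu v hv a =>
    hH ⟨eich_mem_stab hu hv a, S.eich_mem_E u v a⟩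
  have hn := Submodule.finrank_le W
  rcases nd_dichotomy hS h3 hW h5 hE (fun Y hY hY0 hinv => by
    have := hirr (Y.comap (S.perp W).subtype) (fun h => hY0 (by
      rw [eq_bot_iff]
      intro y hy
      have : (⟨y, hY hy⟩ : S.perp W) ∈ Y.comap (S.perp W).subtype := hy
      rw [h, Submodule.mem_bot] at this
      exact congrArg Subtype.val this)) (fun k y hy => by
        obtain ⟨g, hg, hgW, h⟩ := exists_E_ext2 hS h3 (by omega) hW (by omega) k
        have := hinv g (hH ⟨hgW, hg⟩) hgW y hy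
        rw [h] at this
        exact this)
    intro y hy
    have h1 : (⟨y, hy⟩ : S.perp W) ∈ Y.comap (S.perp W).subtype := by rw [this]; trivial
    exact h1) with h | h
  · exact Or.inl h
  · exact Or.inr fun g hg => mem_stab_of_le
      ((nd_side hS h3 hW h5 hE h hW h5 hE hg).resolve_right (hside g))

theorem hside_of_lt {W : Submodule F V} (h : finrank F (S.perp W) < finrank F W) (g : S.Isom) :
    ¬ ∀ x ∈ W, g.1 x ∈ S.perp W := by
  intro hg
  have h1 : W.map (g.1 : V →ₗ[F] V) ≤ S.perp W := by rintro _ ⟨x, hx, rfl⟩; exact hg x hx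
  have := Submodule.finrank_mono h1
  rw [LinearEquiv.finrank_map_eq] at this
  omega

theorem exists_E_not_stab_nd (h3 : Iso3 S) {W : Submodule F V} (hW : (S.restrict W).Nondeg)
    (h : 3 ≤ finrank F W) (h0 : S.perp W ≠ ⊥) :
    ∃ g ∈ S.E, ∃ x ∈ W, g.1 x ∉ W ∧ g.1 x ∉ S.perp W := by
  obtain ⟨e, he, f, hf, H⟩ := exists_hyp_mem h3 hW h
  obtain ⟨v, hv, hv0⟩ := Submodule.exists_mem_ne_zero_of_ne_bot h0
  have hc : S.ECond e v (S.q v) := ECond.of_q H.sing_e (hv e he)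
  refine ⟨_, S.eich_mem_E e v (S.q v), f, hf, fun hm => hv0 ?_, fun hm => ?_⟩
  · rw [eich_apply hc, Submodule.sub_mem_iff_left _ (W.smul_mem _ he),
      Submodule.add_mem_iff_right _ hf, H.h_ef, one_smul] at hm
    exact Submodule.disjoint_def.1 ((S.restrict_nondeg_iff W).1 hW) v hm hv
  · have := hm e he
    rw [eich_apply hc] at this
    simp [H.h_ef, H.h_ee, hv e he] at this

theorem stab_perp (hS : S.Nondeg) (W : Submodule F V) : S.stab (S.perp W) = S.stab W := by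
  refine le_antisymm ?_ (stab_le_stab_perp W)
  have := stab_le_stab_perp (S := S) (S.perp W)
  rwa [hS.perp_perp] at this

section Mat
variable {ι : Type} [Fintype ι] [DecidableEq ι]

theorem isMaximalIn_nd {S : PForm P (ι → F)} (hS : S.Nondeg) (h3 : Iso3 S)
    {W : Submodule F (ι → F)} (hW : (S.restrict W).Nondeg) (h5 : 5 ≤ finrank F W)
    (h0 : S.perp W ≠ ⊥) (hirr : IsomIrr (S.restrict (S.perp W)))
    (hside : ∀ g : S.Isom, ¬ ∀ x ∈ W, g.1 x ∈ S.perp W) (M : Subgroup (GL ι F))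
    (hM : M.comap (toGL S) = S.stab W) : Cfsg.Geo.IsMaximalIn (EGL S) (M ⊓ EGL S) := by
  apply isMaximalIn_EGL
  · obtain ⟨g, hg, x, hx, h, -⟩ := exists_E_not_stab_nd h3 hW (by omega) h0
    refine ⟨g, hg, fun hm => h ?_⟩
    have : g ∈ M.comap (toGL S) := hm
    rw [hM] at this
    exact (this x).1 hx
  · intro H h1 _
    rw [hM] at h1 ⊢
    exact nd_stab hS h3 hW h5 hirr hside H h1

/-- version for a small non-degenerate subspace -/
theorem isMaximalIn_nd_small {S : PForm P (ι → F)} (hS : S.Nondeg) (h3 : Iso3 S)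
    (hn : 9 ≤ Fintype.card ι) {W : Submodule F (ι → F)} (hW : (S.restrict W).Nondeg)
    (h0 : W ≠ ⊥) (hd : 2 * finrank F W < Fintype.card ι) (hirr : IsomIrr (S.restrict W)) :
    Cfsg.Geo.IsMaximalIn (EGL S) (Cfsg.Geo.subspaceStabilizer W ⊓ EGL S) := by
  have h1 := hS.finrank_perp W
  rw [Module.finrank_fintype_fun_eq_card] at h1
  refine isMaximalIn_nd hS h3 (hS.restrict_perp hW) (by omega) (by rwa [hS.perp_perp])
    (by rwa [hS.perp_perp]) (hside_of_lt (by rw [hS.perp_perp]; omega)) _ ?_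
  rw [comap_subspaceStabilizer, stab_perp hS]

theorem isMaximalIn_nd_large {S : PForm P (ι → F)} (hS : S.Nondeg) (h3 : Iso3 S)
    (hn : 9 ≤ Fintype.card ι) {W : Submodule F (ι → F)} (hW : (S.restrict W).Nondeg)
    (h0 : W ≠ ⊤) (hd : Fintype.card ι < 2 * finrank F W)
    (hirr : IsomIrr (S.restrict (S.perp W))) :
    Cfsg.Geo.IsMaximalIn (EGL S) (Cfsg.Geo.subspaceStabilizer W ⊓ EGL S) := by
  have h1 := hS.finrank_perp W
  rw [Module.finrank_fintype_fun_eq_card] at h1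
  exact isMaximalIn_nd hS h3 hW (by omega)
    (fun h => h0 (by rw [← hS.perp_perp W, h, perp_bot])) hirr (hside_of_lt (by omega)) _
    (comap_subspaceStabilizer S W)

end Mat

end H29
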