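import Cfsg.Agent.H29.D1
import Cfsg.Agent.H29.ND

/-! Rational structures on a `PForm`: `V0 F₀ b` (vectors with coordinates in the subfield `F₀`),
`Rat S F₀ b` (the form is defined over `F₀`), the form `Rat.S0` over `F₀`, transfer lemmas
(`exists_sing0`, `span_sing0`, `irr0`, `exists_lift`, ...) and the Frobenius map `tau`. -/

set_option autoImplicit false

namespace H29

open Module H11 H11.PForm

variable {F : Type*} [Field F] {σ : F →+* F} {P : FParam σ} {V : Type*} [AddCommGroup V]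
  [Module F V] {ι : Type*} [Fintype ι]

/-- the vectors with coordinates in `F₀` -/
def V0 (F₀ : Subfield F) (b : Basis ι F V) : Submodule F₀ V := Submodule.span F₀ (Set.range b)

variable {F₀ : Subfield F} {b : Basis ι F V}

omit [Fintype ι] in
theorem mem_V0 {x : V} : x ∈ V0 F₀ b ↔ ∀ i, b.repr x i ∈ F₀ := by
  rw [V0, Basis.mem_span_iff_repr_mem F₀ b]
  refine forall_congr' fun i => ⟨?_, fun h => ⟨⟨_, h⟩, rfl⟩⟩
  rintro ⟨c, hc⟩
  rw [← hc]; exact c.2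

omit [Fintype ι] in
theorem V0_smul {c : F} (hc : c ∈ F₀) {x : V} (hx : x ∈ V0 F₀ b) : c • x ∈ V0 F₀ b :=
  (V0 F₀ b).smul_mem ⟨c, hc⟩ hx

omit [Fintype ι] in
theorem basis_mem_V0 (i : ι) : b i ∈ V0 F₀ b := Submodule.subset_span ⟨i, rfl⟩

omit [Fintype ι] in
theorem mem_of_smul_mem_V0 {c : F} {x : V} (hx : x ∈ V0 F₀ b) (hx0 : x ≠ 0)
    (h : c • x ∈ V0 F₀ b) : c ∈ F₀ := by
  obtain ⟨i, hi⟩ : ∃ i, b.repr x i ≠ 0 := by
    by_contra hc
    push Not at hc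
    exact hx0 (b.repr.injective (by ext i; simp [hc]))
  have h1 := mem_V0.1 h i
  simp only [map_smul, Finsupp.smul_apply, smul_eq_mul] at h1
  have := F₀.div_mem h1 (mem_V0.1 hx i)
  rwa [mul_div_cancel_right₀ _ hi] at this

theorem V0_induction (T : Submodule F V) (h : ∀ x ∈ V0 F₀ b, x ∈ T) (x : V) : x ∈ T := by
  rw [← b.sum_repr x]
  exact T.sum_mem fun i _ => T.smul_mem _ (h _ (basis_mem_V0 i))

instance instFiniteV0 : Module.Finite F₀ (V0 F₀ b) :=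
  Module.Finite.of_basis (b.restrictScalars F₀)

theorem finrank_V0 : finrank F₀ (V0 F₀ b) = finrank F V := by
  rw [finrank_eq_card_basis b]
  exact finrank_eq_card_basis (b.restrictScalars F₀)

/-- the form is defined over `F₀` with respect to the basis `b` -/
structure Rat (S : PForm P V) (F₀ : Subfield F) (b : Basis ι F V) : Prop where
  σ_mem : ∀ c ∈ F₀, σ c ∈ F₀
  h_mem : ∀ x ∈ V0 F₀ b, ∀ y ∈ V0 F₀ b, S.h x y ∈ F₀
  q_mem : ∀ x ∈ V0 F₀ b, ∃ a ∈ F₀, a - S.q x ∈ P.Λ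

theorem ε_mem (P : FParam σ) (F₀ : Subfield F) : P.ε ∈ F₀ := by
  rcases P.ε_cases with h | h <;> rw [h]
  · exact F₀.one_mem
  · exact F₀.neg_mem F₀.one_mem

namespace Rat

variable {S : PForm P V} (R : Rat S F₀ b)

/-- the restriction of `σ` -/
def σ0 : F₀ →+* F₀ := (σ.comp F₀.subtype).codRestrict F₀ fun c => R.σ_mem c c.2

@[simp] theorem coe_σ0 (c : F₀) : (R.σ0 c : F) = σ c := rfl

/-- the restricted form parameter -/
def P0 : FParam R.σ0 where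
  ε := ⟨P.ε, ε_mem P F₀⟩
  Λ := P.Λ.comap F₀.subtype.toAddMonoidHom
  σσ a := Subtype.ext (P.σσ a)
  σε := Subtype.ext P.σε
  εε := Subtype.ext P.εε
  sub_mem a := P.sub_mem a
  mem_imp a ha := Subtype.ext (P.mem_imp a ha)
  conj_mem x a ha := P.conj_mem x a ha

theorem mem_Λ0 {a : F₀} : a ∈ R.P0.Λ ↔ (a : F) ∈ P.Λ := Iff.rfl

@[simp] theorem coe_ε0 : (R.P0.ε : F) = P.ε := rfl

/-- the form over `F₀` -/
noncomputable def S0 : PForm R.P0 (V0 F₀ b) where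
  h := LinearMap.mk₂'ₛₗ R.σ0 (RingHom.id F₀) (fun x y => ⟨S.h x y, R.h_mem x x.2 y y.2⟩)
    (fun x x' y => Subtype.ext (by simp))
    (fun c x y => Subtype.ext (by simp [Subfield.smul_def]))
    (fun x y y' => Subtype.ext (by simp))
    (fun c x y => Subtype.ext (by simp [Subfield.smul_def]))
  q x := ⟨(R.q_mem x x.2).choose, (R.q_mem x x.2).choose_spec.1⟩
  symm x y := Subtype.ext (S.symm x y)
  q_add x y := by
    have h1 := (R.q_mem _ (x + y).2).choose_spec.2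
    have h2 := (R.q_mem _ x.2).choose_spec.2
    have h3 := (R.q_mem _ y.2).choose_spec.2
    have := P.Λ.sub_mem (P.Λ.sub_mem (P.Λ.add_mem h1 (S.q_add x y)) h2) h3
    rw [mem_Λ0]
    convert this using 1
    simp; ring
  q_smul a x := by
    have h1 := (R.q_mem _ (a • x).2).choose_spec.2
    have h2 := P.conj_mem a _ (R.q_mem _ x.2).choose_spec.2
    have := P.Λ.sub_mem (P.Λ.add_mem h1 (S.q_smul a x)) h2
    rw [mem_Λ0]
    convert this using 1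
    simp [Subfield.smul_def]; ring
  h_self x := Subtype.ext (S.h_self_of_congr (R.q_mem _ x.2).choose_spec.2)

@[simp] theorem coe_h0 (x y : V0 F₀ b) : (R.S0.h x y : F) = S.h x y := rfl

theorem h0_eq_zero {x y : V0 F₀ b} : R.S0.h x y = 0 ↔ S.h x y = 0 := by
  rw [← R.coe_h0, ZeroMemClass.coe_eq_zero]

theorem q0_congr (x : V0 F₀ b) : (R.S0.q x : F) - S.q x ∈ P.Λ := (R.q_mem _ x.2).choose_spec.2

theorem congr0 {x : V0 F₀ b} {a : F₀} : a - R.S0.q x ∈ R.P0.Λ ↔ (a : F) - S.q x ∈ P.Λ := by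
  rw [mem_Λ0]
  constructor <;> intro h
  · have := P.Λ.add_mem h (R.q0_congr x)
    convert this using 1; simp
  · have := P.Λ.sub_mem h (R.q0_congr x)
    convert this using 1; simp

theorem sing0 {x : V0 F₀ b} : R.S0.Sing x ↔ S.Sing x := by
  have := R.congr0 (x := x) (a := 0)
  simpa [PForm.Sing] using this

theorem econd0 {u v : V0 F₀ b} {a : F₀} : R.S0.ECond u v a ↔ S.ECond u v a :=
  ⟨fun h => ⟨R.sing0.1 h.1, R.h0_eq_zero.1 h.2, R.congr0.1 h.3⟩,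
    fun h => ⟨R.sing0.2 h.1, R.h0_eq_zero.2 h.2, R.congr0.2 h.3⟩⟩

theorem coe_eich0 (u v : V0 F₀ b) (a : F₀) (z : V0 F₀ b) :
    ((R.S0.eich u v a).1 z : V) = (S.eich u v a).1 z := by
  by_cases h : S.ECond u v a
  · rw [eich_apply h, eich_apply (R.econd0.2 h)]
    simp [Subfield.smul_def]
  · rw [eich_junk h, eich_junk (fun h' => h (R.econd0.1 h'))]; rfl

include R in
theorem eich_mem {u v : V} {a : F} (hu : u ∈ V0 F₀ b) (hv : v ∈ V0 F₀ b) (ha : a ∈ F₀) {z : V}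
    (hz : z ∈ V0 F₀ b) : (S.eich u v a).1 z ∈ V0 F₀ b := by
  rw [← R.coe_eich0 ⟨u, hu⟩ ⟨v, hv⟩ ⟨a, ha⟩ ⟨z, hz⟩]; exact Subtype.property _

theorem nondeg0 (hS : S.Nondeg) : R.S0.Nondeg := by
  intro x hx
  apply Subtype.ext
  apply hS
  intro y
  exact V0_induction (LinearMap.ker (S.h x)) (fun z hz => R.h0_eq_zero.1 (hx ⟨z, hz⟩)) y

include R

theorem mem_V0_of_h (hS : S.Nondeg) {v : V} (h : ∀ y ∈ V0 F₀ b, S.h y v ∈ F₀) :
    v ∈ V0 F₀ b := by
  rw [mem_V0]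
  intro i
  obtain ⟨y, hy⟩ := (R.nondeg0 hS).exists_h_eq ((b.restrictScalars F₀).coord i)
  have : S.h y = b.coord i := b.ext fun j => by
    let c : Basis ι F₀ (V0 F₀ b) := b.restrictScalars F₀
    have hc : (c j : V) = b j := b.restrictScalars_apply F₀ j
    have : (R.S0.h y (c j) : F) = (c.coord i (c j) : F) := by rw [hy]; rfl
    rw [coe_h0, hc] at this
    rw [this]
    classical
    by_cases hij : j = i <;> simp [Finsupp.single_apply, hij]
  have h1 := h y y.2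
  rwa [this] at h1

theorem exists_dual0 (hS : S.Nondeg) (m : List (V0 F₀ b)) {w : V0 F₀ b}
    (hw : w ∉ Submodule.span F₀ {x | x ∈ m}) :
    ∃ y ∈ V0 F₀ b, (∀ x ∈ m, S.h y x = 0) ∧ S.h y w = 1 := by
  obtain ⟨y, hy, h1⟩ := (R.nondeg0 hS).exists_perp_of_notMem hw 1
  refine ⟨y, y.2, fun x hx => ?_, congrArg Subtype.val h1⟩
  exact R.h0_eq_zero.1 ((R.S0.mem_perp'.1 hy) x (Submodule.subset_span hx))

theorem notMem_span (hS : S.Nondeg) (m : List (V0 F₀ b)) {w : V0 F₀ b} :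
    w ∉ Submodule.span F₀ {x | x ∈ m} ↔ (w : V) ∉ Submodule.span F {x | x ∈ m.map Subtype.val} := by
  constructor
  · intro hw h
    obtain ⟨y, -, h1, h2⟩ := R.exists_dual0 hS m hw
    have : Submodule.span F {x | x ∈ m.map Subtype.val} ≤ LinearMap.ker (S.h y) := by
      rw [Submodule.span_le]
      intro x hx
      obtain ⟨x, hx', rfl⟩ := List.mem_map.1 hx
      exact h1 x hx'
    have := this h
    rw [LinearMap.mem_ker, h2] at this
    exact one_ne_zero this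
  · intro hw h
    apply hw
    clear hw
    induction h using Submodule.span_induction with
    | mem x hx => exact Submodule.subset_span (List.mem_map.2 ⟨x, hx, rfl⟩)
    | zero => exact Submodule.zero_mem _
    | add x y _ _ hx hy => exact Submodule.add_mem _ hx hy
    | smul c x _ hx => exact Submodule.smul_mem _ (c : F) hx

omit R [Fintype ι] in
theorem exists_lift_list (l : List V) (hl : ∀ x ∈ l, x ∈ V0 F₀ b) :
    ∃ l' : List (V0 F₀ b), l'.map Subtype.val = l :=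
  ⟨l.attachWith _ hl, by simp⟩

theorem exists_dual (hS : S.Nondeg) (m : List V) (hm : ∀ x ∈ m, x ∈ V0 F₀ b) {w : V}
    (hw0 : w ∈ V0 F₀ b) (hw : w ∉ Submodule.span F {x | x ∈ m}) :
    ∃ y ∈ V0 F₀ b, (∀ x ∈ m, S.h y x = 0) ∧ S.h y w = 1 := by
  obtain ⟨m, rfl⟩ := exists_lift_list m hm
  obtain ⟨y, hy, h1, h2⟩ := R.exists_dual0 hS m ((R.notMem_span hS m (w := ⟨w, hw0⟩)).2 hw)
  refine ⟨y, hy, fun x hx => ?_, h2⟩
  obtain ⟨x, hx', rfl⟩ := List.mem_map.1 hx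
  exact h1 x hx'

theorem exists_partner0 (hS : S.Nondeg) (m : List V) (hm : ∀ x ∈ m, x ∈ V0 F₀ b) {d : V}
    (hd0 : d ∈ V0 F₀ b) (hd : S.Sing d) (hdm : d ∉ Submodule.span F {x | x ∈ m})
    (hp : ∀ x ∈ m, S.h x d = 0) :
    ∃ e ∈ V0 F₀ b, (∀ x ∈ m, S.h x e = 0) ∧ S.Sing e ∧ S.h d e = 1 := by
  obtain ⟨m, rfl⟩ := exists_lift_list m hm
  obtain ⟨e, he, h1, h2⟩ := (R.nondeg0 hS).exists_partner _ (R.sing0.2 hd : R.S0.Sing ⟨d, hd0⟩)
    ((R.notMem_span hS m (w := ⟨d, hd0⟩)).2 hdm)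
    (R.S0.mem_perp_span.2 fun x hx => R.h0_eq_zero.2 (hp x (List.mem_map.2 ⟨x, hx, rfl⟩)))
  refine ⟨e, e.2, fun x hx => ?_, R.sing0.1 h1, congrArg Subtype.val h2⟩
  obtain ⟨x, hx', rfl⟩ := List.mem_map.1 hx
  exact R.h0_eq_zero.1 (R.S0.mem_perp_span.1 he x hx')

theorem span_perp (hS : S.Nondeg) {e : V} (he : e ∈ V0 F₀ b) (T : Submodule F V)
    (hT : ∀ y ∈ V0 F₀ b, S.h e y = 0 → y ∈ T) {x : V} (hx : S.h e x = 0) : x ∈ T := by
  by_cases he0 : e = 0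
  · exact V0_induction T (fun y hy => hT y hy (by simp [he0])) x
  obtain ⟨f, hf, -, h1⟩ := R.exists_dual hS [] (by simp) he (by simpa using he0)
  have h2 : S.h e (P.ε • f) = 1 := by rw [map_smul, S.symm, h1]; simp [P.εε]
  have hf' := V0_smul (ε_mem P F₀) hf
  generalize P.ε • f = f' at h2 hf'
  have : x ∈ T.comap (LinearMap.id - (S.h e).smulRight f') := by
    apply V0_induction (F₀ := F₀) (b := b)
    intro y hy
    apply hT
    · exact (V0 F₀ b).sub_mem hy (V0_smul (R.h_mem _ he _ hy) hf')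
    · simp [h2]
  simpa [hx] using this

variable [Finite F]

theorem exists_sing0 (hS : S.Nondeg) (l m : List V) (hl : ∀ x ∈ l, x ∈ V0 F₀ b)
    (hm : ∀ x ∈ m, x ∈ V0 F₀ b) (hd : l.length + m.length + 3 ≤ finrank F V) :
    ∃ w ∈ V0 F₀ b, S.Sing w ∧ (∀ x ∈ l, S.h x w = 0) ∧ w ∉ Submodule.span F {x | x ∈ m} := by
  obtain ⟨m, rfl⟩ := exists_lift_list m hm
  obtain ⟨l, rfl⟩ := exists_lift_list l hl
  obtain ⟨w, h1, h2, h3⟩ := exists_sing_top (R.nondeg0 hS) (iso3_fin _) l m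
    (by rw [finrank_V0]; simpa using hd)
  refine ⟨w, w.2, R.sing0.1 h1, fun x hx => ?_, (R.notMem_span hS m).1 h3⟩
  obtain ⟨x, hx', rfl⟩ := List.mem_map.1 hx
  exact R.h0_eq_zero.1 (h2 x hx')

theorem span_sing0 (hS : S.Nondeg) (hn : 5 ≤ finrank F V) {e : V} (he : e ∈ V0 F₀ b)
    (T : AddSubgroup V) (hT : ∀ y ∈ V0 F₀ b, S.Sing y → S.h e y = 0 → y ∈ T) {x : V}
    (hx0 : x ∈ V0 F₀ b) (hx : S.h e x = 0) : x ∈ T := by
  have h1 := finrank_span_one_le (F := F₀) (⟨e, he⟩ : V0 F₀ b)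
  exact span_sing_perp (R.nondeg0 hS) (iso3_fin _) (F₀ ∙ (⟨e, he⟩ : V0 F₀ b))
    (by rw [finrank_V0]; omega) (T.comap (V0 F₀ b).subtype.toAddMonoidHom)
    (fun y hy hs => hT y y.2 (R.sing0.1 hs) (R.h0_eq_zero.1 (R.S0.mem_perp_singleton.1 hy)))
    ⟨x, hx0⟩ (R.S0.mem_perp_singleton.2 (R.h0_eq_zero.2 hx))

theorem irr0 (hS : S.Nondeg) (hn : 7 ≤ finrank F V) {u : V} (hu0 : u ∈ V0 F₀ b) (hu : S.Sing u)
    (T : AddSubgroup V)
    (hT : ∀ w ∈ V0 F₀ b, ∀ v ∈ V0 F₀ b, ∀ a ∈ F₀, S.ECond w v a → S.h u w = 0 → S.h u v = 0 →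
      ∀ z ∈ T, (S.eich w v a).1 z ∈ T)
    {z : V} (hz0 : z ∈ V0 F₀ b) (hz : z ∈ T) (huz : S.h u z = 0) (hzu : z ∉ F ∙ u) {y : V}
    (hy0 : y ∈ V0 F₀ b) (hy : S.h u y = 0) : y ∈ T := by
  refine irr (R.nondeg0 hS) (iso3_fin _) (by rwa [finrank_V0]) (u := ⟨u, hu0⟩) (R.sing0.2 hu)
    (T.comap (V0 F₀ b).subtype.toAddMonoidHom) ?_ (z := ⟨z, hz0⟩) hz (R.h0_eq_zero.2 huz) ?_
    (y := ⟨y, hy0⟩) (R.h0_eq_zero.2 hy)
  · intro w v a hc h1 h2 z hz
    change ((R.S0.eich w v a).1 z : V) ∈ T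
    rw [R.coe_eich0]
    exact hT w w.2 v v.2 a a.2 (R.econd0.1 hc) (R.h0_eq_zero.1 h1) (R.h0_eq_zero.1 h2) z hz
  · intro h
    obtain ⟨c, hc⟩ := Submodule.mem_span_singleton.1 h
    exact hzu (Submodule.mem_span_singleton.2 ⟨c, congrArg Subtype.val hc⟩)

omit [Finite F] in
theorem exists_lift {H : Subgroup S.Isom}
    (hH : ∀ u ∈ V0 F₀ b, ∀ v ∈ V0 F₀ b, ∀ a ∈ F₀, S.eich u v a ∈ H) {g₀ : R.S0.Isom}
    (hg : g₀ ∈ R.S0.E) : ∃ g ∈ H, ∀ z : V0 F₀ b, g.1 z = g₀.1 z := by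
  induction hg using Subgroup.closure_induction with
  | mem x hx =>
    obtain ⟨u, v, a, rfl⟩ := hx
    exact ⟨_, hH u u.2 v v.2 a a.2, fun z => (R.coe_eich0 u v a z).symm⟩
  | one => exact ⟨1, H.one_mem, fun z => rfl⟩
  | mul x y _ _ hx hy =>
    obtain ⟨g, hg, h1⟩ := hx
    obtain ⟨g', hg', h2⟩ := hy
    exact ⟨g * g', H.mul_mem hg hg', fun z => by rw [isom_mul_apply, h2, h1]; rfl⟩
  | inv x _ hx =>
    obtain ⟨g, hg, h1⟩ := hx
    refine ⟨g⁻¹, H.inv_mem hg, fun z => ?_⟩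
    have := h1 ((x⁻¹).1 z)
    rw [isom_apply_inv_self] at this
    rw [← this, isom_inv_apply_self]

theorem exists_move (hS : S.Nondeg) (hn : 5 ≤ finrank F V) {H : Subgroup S.Isom}
    (hH : ∀ u ∈ V0 F₀ b, ∀ v ∈ V0 F₀ b, ∀ a ∈ F₀, S.eich u v a ∈ H) {x y : V}
    (hx0 : x ∈ V0 F₀ b) (hy0 : y ∈ V0 F₀ b) (hx : x ≠ 0) (hy : y ≠ 0) (hxs : S.Sing x)
    (hys : S.Sing y) : ∃ g ∈ H, g.1 x = y ∧ ∀ z ∈ V0 F₀ b, (g⁻¹).1 z ∈ V0 F₀ b := by
  obtain ⟨g₀, hg₀, h⟩ := exists_E_vec (R.nondeg0 hS) (iso3_fin _) (by rwa [finrank_V0])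
    (x := ⟨x, hx0⟩) (y := ⟨y, hy0⟩) (by simpa using hx) (by simpa using hy)
    (R.P0.Λ.sub_mem (R.sing0.2 hys) (R.sing0.2 hxs))
  obtain ⟨g, hg, h1⟩ := R.exists_lift hH hg₀
  refine ⟨g, hg, by rw [h1 ⟨x, hx0⟩, h], fun z hz => ?_⟩
  have := h1 ((g₀⁻¹).1 ⟨z, hz⟩)
  rw [isom_apply_inv_self] at this
  change _ = z at this
  rw [← this, isom_inv_apply_self]
  exact Subtype.property _

end Rat

/-- the Frobenius map attached to a basis -/
noncomputable def tau (φ : F →+* F) (b : Basis ι F V) : V →+ V where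
  toFun x := ∑ i, φ (b.repr x i) • b i
  map_zero' := by simp
  map_add' x y := by simp [add_smul, Finset.sum_add_distrib]

variable {φ : F →+* F}

theorem repr_tau (x : V) (i : ι) : b.repr (tau φ b x) i = φ (b.repr x i) := by
  classical
  simp [tau, Finsupp.single_apply]

theorem tau_smul (c : F) (x : V) : tau φ b (c • x) = φ c • tau φ b x :=
  b.repr.injective (by ext i; simp [repr_tau])

theorem tau_eq_self_iff (hφ : ∀ x, φ x = x ↔ x ∈ F₀) {x : V} : tau φ b x = x ↔ x ∈ V0 F₀ b := by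
  rw [mem_V0]
  constructor
  · intro h i
    rw [← hφ, ← repr_tau, h]
  · intro h
    exact b.repr.injective (by ext i; rw [repr_tau, (hφ _).2 (h i)])

theorem tau_injective : Function.Injective (tau φ b) := by
  rw [injective_iff_map_eq_zero]
  intro x hx
  refine b.repr.injective ?_
  ext i
  have := repr_tau (φ := φ) (b := b) x i
  rw [hx] at this
  simpa using this.symm

theorem tau_surjective [Finite F] : Function.Surjective (tau φ b) := by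
  have : Finite V := Finite.of_equiv _ b.equivFun.symm.toEquiv
  exact Finite.injective_iff_surjective.1 tau_injective

theorem tau_comm (hφ : ∀ x, φ x = x ↔ x ∈ F₀) {k : V →ₗ[F] V}
    (hk : ∀ x ∈ V0 F₀ b, k x ∈ V0 F₀ b) (x : V) : tau φ b (k x) = k (tau φ b x) := by
  conv_lhs => rw [← b.sum_repr x]
  simp only [map_sum, map_smul, tau_smul, (tau_eq_self_iff hφ).2 (hk _ (basis_mem_V0 _))]
  simp [tau]

theorem exists_rat_of_tau (hφ : ∀ x, φ x = x ↔ x ∈ F₀) {x : V} (h : tau φ b x ∈ F ∙ x) :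
    ∃ c : F, c ≠ 0 ∧ ∃ y ∈ V0 F₀ b, x = c • y := by
  by_cases hx : x = 0
  · exact ⟨1, one_ne_zero, 0, Submodule.zero_mem _, by simp [hx]⟩
  obtain ⟨i, hi⟩ : ∃ i, b.repr x i ≠ 0 := by
    by_contra hc
    push Not at hc
    exact hx (b.repr.injective (by ext i; simp [hc]))
  obtain ⟨c, hc⟩ := Submodule.mem_span_singleton.1 h
  refine ⟨b.repr x i, hi, (b.repr x i)⁻¹ • x, ?_, by rw [smul_smul, mul_inv_cancel₀ hi, one_smul]⟩
  rw [← tau_eq_self_iff hφ, tau_smul, ← hc, smul_smul]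
  have := repr_tau (φ := φ) (b := b) x i
  rw [← hc] at this
  simp only [map_smul, Finsupp.smul_apply, smul_eq_mul] at this
  have hc0 : c ≠ 0 := by
    rintro rfl
    rw [zero_mul] at this
    exact hi ((map_eq_zero φ).1 this.symm)
  rw [map_inv₀, ← this]
  congr 1
  field_simp

theorem Rat.h_tau {S : PForm P V} (R : Rat S F₀ b) (hφ : ∀ x, φ x = x ↔ x ∈ F₀)
    (hσ : ∀ x, σ (φ x) = φ (σ x)) (x y : V) : S.h (tau φ b x) (tau φ b y) = φ (S.h x y) := by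
  conv_rhs => rw [← b.sum_repr x, ← b.sum_repr y]
  simp only [tau, AddMonoidHom.coe_mk, ZeroHom.coe_mk, map_sum, map_smulₛₗ, LinearMap.sum_apply,
    LinearMap.smul_apply, smul_eq_mul, map_mul, hσ, RingHom.id_apply,
    (hφ _).2 (R.h_mem _ (basis_mem_V0 _) _ (basis_mem_V0 _))]

end H29
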