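import Cfsg.Agent.H29.Rat
import Cfsg.Agent.H11.Tor

/-! Overgroups of the rational Eichler group: `rat_dichotomy` (either everything, or the Eichler
maps at rational points are rational), `rat3` (elements fixing three independent rational singular
vectors are rational), `tau_mem_of_eich`, `exists_scale` (rational points to rational points). -/

set_option autoImplicit false
set_option linter.unusedSectionVars false

namespace H29

open Module H11 H11.PForm

variable {F : Type*} [Field F] {σ : F →+* F} {P : FParam σ} {V : Type*} [AddCommGroup V]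
  [Module F V] {ι : Type*} [Fintype ι] {F₀ : Subfield F} {b : Basis ι F V} {S : PForm P V}

/-- `H` contains the rational Eichler maps -/
def HR (F₀ : Subfield F) (b : Basis ι F V) (H : Subgroup S.Isom) : Prop :=
  ∀ u ∈ V0 F₀ b, ∀ v ∈ V0 F₀ b, ∀ a ∈ F₀, S.eich u v a ∈ H

/-- the Eichler maps of `H` at rational points are rational -/
def BR (F₀ : Subfield F) (b : Basis ι F V) (H : Subgroup S.Isom) : Prop :=
  ∀ e ∈ V0 F₀ b, e ≠ 0 → ∀ hs : S.Sing e, ∀ v ∈ BSet H hs, ∃ c : F, v + c • e ∈ V0 F₀ b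

/-- the scalars `l` such that `l • y` occurs in `H` at all rational points -/
def InL (F₀ : Subfield F) (b : Basis ι F V) (H : Subgroup S.Isom) (l : F) : Prop :=
  ∀ e ∈ V0 F₀ b, e ≠ 0 → ∀ hs : S.Sing e, ∀ y ∈ V0 F₀ b, S.h e y = 0 →
    ∃ c : F, l • y + c • e ∈ BSet H hs

theorem notMem_span_one {a x : V} : x ∉ Submodule.span F {y | y ∈ [a]} ↔ x ∉ F ∙ a := by
  rw [list_set_one]

theorem notMem_span_two {a c x : V} :
    x ∉ Submodule.span F {y | y ∈ [a, c]} ↔ x ∉ Submodule.span F {a, c} := by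
  rw [list_set_two]

theorem notMem_symm {a x : V} (ha : a ≠ 0) (h : x ∉ F ∙ a) : a ∉ F ∙ x := by
  intro h'
  obtain ⟨c, rfl⟩ := Submodule.mem_span_singleton.1 h'
  have hc : c ≠ 0 := by rintro rfl; simp at ha
  exact h (Submodule.mem_span_singleton.2 ⟨c⁻¹, by rw [smul_smul, inv_mul_cancel₀ hc, one_smul]⟩)

theorem notMem_of_pair_left {a c x : V} (h : x ∉ Submodule.span F {a, c}) : x ∉ F ∙ a :=
  fun h' => h (Submodule.span_mono (by simp) h')

theorem notMem_of_pair_right {a c x : V} (h : x ∉ Submodule.span F {a, c}) : x ∉ F ∙ c :=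
  fun h' => h (Submodule.span_mono (by simp) h')

theorem ne_zero_of_notMem {W : Submodule F V} {x : V} (h : x ∉ W) : x ≠ 0 := by
  rintro rfl; exact h W.zero_mem

theorem notMem_pair_swap {a c x : V} (hc : c ∉ F ∙ a) (h : x ∉ Submodule.span F {a, c}) :
    c ∉ Submodule.span F {a, x} := by
  intro h'
  obtain ⟨s, t, rfl⟩ := Submodule.mem_span_pair.1 h'
  have ht : t ≠ 0 := by
    rintro rfl
    exact hc (Submodule.mem_span_singleton.2 ⟨s, by simp⟩)
  exact h (Submodule.mem_span_pair.2 ⟨-(s / t), t⁻¹, by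
    rw [smul_add, smul_smul, smul_smul, inv_mul_cancel₀ ht, one_smul]
    rw [← add_assoc, ← add_smul]
    simp [div_eq_inv_mul]⟩)

theorem notMem_pair_first {a c x : V} (ha : a ≠ 0) (hc : c ∉ F ∙ a)
    (h : x ∉ Submodule.span F {a, c}) : a ∉ Submodule.span F {c, x} := by
  apply notMem_pair_swap (notMem_symm ha hc)
  rwa [Set.pair_comm]

theorem mem_span_of_pairs {y y' y'' x : V} (h : y'' ∉ Submodule.span F {y, y'})
    (h' : y' ∉ F ∙ y) (h1 : x ∈ Submodule.span F {y, y'}) (h2 : x ∈ Submodule.span F {y, y''}) :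
    x ∈ F ∙ y := by
  obtain ⟨s, t, rfl⟩ := Submodule.mem_span_pair.1 h1
  obtain ⟨s', t', h3⟩ := Submodule.mem_span_pair.1 h2
  by_cases ht : t' = 0
  · exact Submodule.mem_span_singleton.2 ⟨s', by rw [← h3, ht]; simp⟩
  · exfalso
    apply h
    refine Submodule.mem_span_pair.2 ⟨t'⁻¹ * (s - s'), t'⁻¹ * t, ?_⟩
    rw [mul_smul, mul_smul, ← smul_add, sub_smul, inv_smul_eq_iff₀ ht]
    linear_combination (norm := module) -h3

variable {H : Subgroup S.Isom}

namespace Rat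

variable (R : Rat S F₀ b)
include R

theorem mem_BSet0 (hH : HR F₀ b H) {e y : V} (he : e ∈ V0 F₀ b) (hs : S.Sing e)
    (hy : y ∈ V0 F₀ b) (h : S.h e y = 0) : y ∈ BSet H hs := by
  obtain ⟨a, ha, ha'⟩ := R.q_mem y hy
  exact ⟨a, ⟨hs, h, ha'⟩, hH e he y hy a ha⟩

variable [FiniteDimensional F V] [Finite F]

theorem inL_of (hS : S.Nondeg) (hn : 7 ≤ finrank F V) (hH : HR F₀ b H) {l : F} {e w : V}
    (he : e ∈ V0 F₀ b) (he0 : e ≠ 0) (hs : S.Sing e) (hw : w ∈ V0 F₀ b) (hew : S.h e w = 0)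
    (hwe : w ∉ F ∙ e) (h : l • w ∈ BSet H hs) : InL F₀ b H l := by
  let T : AddSubgroup V :=
    { carrier := {w | ∃ c : F, l • w + c • e ∈ BSet H hs}
      add_mem' := by
        rintro x y ⟨c, hc⟩ ⟨d, hd⟩
        refine ⟨c + d, ?_⟩
        convert (BSet H hs).add_mem hc hd using 1
        module
      zero_mem' := ⟨0, by simp⟩
      neg_mem' := by
        rintro x ⟨c, hc⟩
        refine ⟨-c, ?_⟩
        convert (BSet H hs).neg_mem hc using 1
        module }
  have key : ∀ y ∈ V0 F₀ b, S.h e y = 0 → y ∈ T := fun y hy hey => by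
    refine R.irr0 hS hn he hs T ?_ hw ⟨0, by simpa using h⟩ hew hwe hy hey
    rintro w hw v hv a ha - h1 h2 z ⟨c, hc⟩
    have hk : (S.eich w v a).1 e = e :=
      eich_apply_of_perp_perp (S.h_swap_zero h1) (S.h_swap_zero h2)
    refine ⟨c, ?_⟩
    have := BSet_map (hu' := hs) hc (hH w hw v hv a ha) hk
    rwa [map_add, map_smul, map_smul, hk] at this
  intro e' he' he0' hs' y hy hey
  obtain ⟨g, hg, h1, h2⟩ := R.exists_move hS (by omega) hH he he' he0 he0' hs hs'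
  obtain ⟨c, hc⟩ := key _ (h2 y hy) (by rw [← isom_h_left, h1, hey])
  refine ⟨c, ?_⟩
  have := BSet_map (hu' := hs') hc hg h1
  rwa [map_add, map_smul, map_smul, h1, isom_apply_inv_self] at this

theorem inL_mul (hS : S.Nondeg) (hn : 7 ≤ finrank F V) (hH : HR F₀ b H) {l m : F}
    (hl : InL F₀ b H l) (hm : InL F₀ b H m) : InL F₀ b H (l * σ m) := by
  obtain ⟨e, he, hs, -, he0⟩ := R.exists_sing0 hS [] [] (by simp) (by simp) (by simp; omega)
  replace he0 := ne_zero_of_notMem he0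
  obtain ⟨w, hw, hws, h1, hwe⟩ := R.exists_sing0 hS [e] [e] (by simpa) (by simpa) (by simp; omega)
  obtain ⟨y, hy, -, h2, hye⟩ := R.exists_sing0 hS [e, w] [e, w] (by simp [he, hw])
    (by simp [he, hw]) (by simp; omega)
  obtain ⟨x, hx, h3, h4⟩ := R.exists_dual hS [e, w] (by simp [he, hw]) hy hye
  simp only [List.mem_cons, List.not_mem_nil, or_false, forall_eq_or_imp, forall_eq] at h1 h2 h3
  rw [notMem_span_one] at hwe
  obtain ⟨c, a, hc, hk⟩ := hm w hw (ne_zero_of_notMem hwe) hws y hy h2.2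
  obtain ⟨c', hz⟩ := hl e he he0 hs x hx (S.h_swap_zero h3.1)
  have hke : (S.eich w (m • y + c • w) a).1 e = e :=
    eich_apply_of_perp_perp (S.h_swap_zero h1) (by simp [S.h_swap_zero h1, S.h_swap_zero h2.1])
  have hkx : (S.eich w (m • y + c • w) a).1 x = x - σ m • w := by
    rw [eich_apply_of_perp hc (S.h_swap_zero h3.2)]
    have : S.h y x = P.ε := by rw [S.symm, h4]; simp
    simp only [map_add, map_smulₛₗ, LinearMap.add_apply, LinearMap.smul_apply, this,
      S.h_swap_zero h3.2, smul_eq_mul, mul_zero, add_zero]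
    congr 2
    linear_combination σ m * P.εε
  have h5 := BSet_map (hu' := hs) hz hk hke
  rw [map_add, map_smul, map_smul, hke, hkx] at h5
  refine R.inL_of hS hn hH he he0 hs hw h1 hwe ?_
  convert (BSet H hs).sub_mem hz h5 using 1
  module

theorem exists_inL (hS : S.Nondeg) (hn : 8 ≤ finrank F V) (hH : HR F₀ b H) (hB : ¬ BR F₀ b H) :
    ∃ l, l ∉ F₀ ∧ InL F₀ b H l := by
  unfold BR at hB
  push Not at hB
  obtain ⟨e, he, he0, hs, v, hv, hc⟩ := hB
  obtain ⟨y, hy, hys, hey, hyv⟩ : ∃ y ∈ V0 F₀ b, S.Sing y ∧ S.h e y = 0 ∧ S.h y v ∉ F₀ := by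
    by_contra hcon
    push Not at hcon
    have key : ∀ y ∈ V0 F₀ b, S.h e y = 0 → S.h y v ∈ F₀ := fun y hy hey =>
      R.span_sing0 hS (by omega) he
        (F₀.toAddSubgroup.comap (S.h.flip v).toAddMonoidHom) hcon hy hey
    obtain ⟨f, hf, -, hfe⟩ := R.exists_dual hS [] (by simp) he (by simpa using he0)
    have hef : S.h e f = P.ε := by rw [S.symm, hfe]; simp
    apply hc (-S.h f v)
    apply R.mem_V0_of_h hS
    intro y hy
    have h1 : S.h e (y - (P.ε * S.h e y) • f) = 0 := by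
      simp only [map_sub, map_smul, hef, smul_eq_mul]
      linear_combination (-S.h e y) * P.εε
    have h2 := key _ ((V0 F₀ b).sub_mem hy
      (V0_smul (F₀.mul_mem (ε_mem P F₀) (R.h_mem _ he _ hy)) hf)) h1
    have h3 := S.h_swap_zero h1
    simp only [map_sub, map_smulₛₗ, LinearMap.sub_apply, LinearMap.smul_apply, smul_eq_mul,
      hfe, mul_one] at h2 h3
    convert h2 using 1
    simp only [map_add, map_smul, smul_eq_mul]
    linear_combination (-S.h f v) * h3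
  obtain ⟨w, hw, hws, h1, hwe⟩ := R.exists_sing0 hS [e, y] [e, y] (by simp [he, hy])
    (by simp [he, hy]) (by simp; omega)
  obtain ⟨y', hy', h2, hys', h3⟩ := R.exists_partner0 hS [e, y] (by simp [he, hy]) hw hws hwe h1
  obtain ⟨w', hw', hws', h4, hwe'⟩ := R.exists_sing0 hS [e, y, w, y'] [e]
    (by simp [he, hy, hw, hy']) (by simp [he]) (by simp; omega)
  simp only [List.mem_cons, List.not_mem_nil, or_false, forall_eq_or_imp, forall_eq] at h1 h2 h4
  rw [notMem_span_one] at hwe'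
  have c1 := econd_zero hws hys (S.h_swap_zero h1.2)
  have c2 := econd_zero hws' hys' (S.h_swap_zero h4.2.2.2)
  have k1 := BSet_map (hu' := hs) hv (hH w hw y hy 0 F₀.zero_mem)
    (eich_apply_of_perp_perp (S.h_swap_zero h1.1) (S.h_swap_zero hey))
  have hz := (BSet H hs).sub_mem k1 hv
  have k2 := BSet_map (hu' := hs) hz (hH w' hw' y' hy' 0 F₀.zero_mem)
    (eich_apply_of_perp_perp (S.h_swap_zero h4.1) (S.h_swap_zero h2.1))
  have hz' := (BSet H hs).sub_mem k2 hz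
  refine ⟨P.ε * S.h y v, fun h => hyv ?_, R.inL_of hS (by omega) hH he he0 hs hw' h4.1 hwe' ?_⟩
  · have := F₀.mul_mem (ε_mem P F₀) h
    rwa [← mul_assoc, P.εε, one_mul] at this
  · convert hz' using 1
    have e1 : (S.eich w y 0).1 v - v = S.h w v • y - (P.ε * S.h y v) • w := by
      rw [eich_apply c1]; simp only [zero_mul, add_zero]; abel
    have e2 : S.h y' w = P.ε := by rw [S.symm, h3]; simp
    rw [e1, eich_apply c2]
    simp only [map_sub, map_smul, S.h_swap_zero h4.2.1, S.h_swap_zero h4.2.2.1,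
      S.h_swap_zero h2.2, e2, smul_eq_mul, mul_zero, sub_zero, zero_smul, add_zero, zero_sub]
    rw [mul_neg, neg_smul, show P.ε * (P.ε * S.h y v * P.ε) = P.ε * S.h y v by
      linear_combination (P.ε * S.h y v) * P.εε]
    abel

theorem full_of_inL (hS : S.Nondeg) (hn : 7 ≤ finrank F V) (hH : HR F₀ b H)
    (hL : ∀ l, InL F₀ b H l) {e : V} (he : e ∈ V0 F₀ b) (he0 : e ≠ 0) (hs : S.Sing e) :
    Full H e := by
  let T : Submodule F V :=
    { carrier := {v | ∀ l : F, ∃ c : F, l • v + c • e ∈ BSet H hs}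
      add_mem' := by
        intro x y hx hy l
        obtain ⟨c, hc⟩ := hx l
        obtain ⟨d, hd⟩ := hy l
        refine ⟨c + d, ?_⟩
        convert (BSet H hs).add_mem hc hd using 1
        module
      zero_mem' := fun l => ⟨0, by simp⟩
      smul_mem' := fun c x hx l => by simpa [mul_smul] using hx (l * c) }
  have hB : ∀ v, S.h e v = 0 → ∃ c : F, v + c • e ∈ BSet H hs := fun v hv => by
    simpa using R.span_perp hS he T (fun y hy h l => hL l e he he0 hs y hy h) hv 1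
  rcases param_cases P with hM | ⟨rfl, h2, hΛ⟩
  · exact full_of_BSet_mod hS hM (by omega) hs hB
  have hε : P.ε = -1 := by
    rcases P.ε_cases with h | h
    · rw [h]; linear_combination h2
    · exact h
  have hc : ∀ {u v : V} (a : F), S.h u v = 0 → S.ECond u v a := fun a h =>
    ⟨by simp [PForm.Sing, hΛ], h, by simp [hΛ]⟩
  have hsi : ∀ x, S.Sing x := fun x => by simp [PForm.Sing, hΛ]
  have hB' : ∀ v, S.h e v = 0 → v ∈ BSet H hs := fun v hv => by
    obtain ⟨c, a, -, h⟩ := hB v hv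
    refine ⟨a - (P.ε * c - c), hc _ hv, ?_⟩
    rw [← (PForm.eich_add_smul (hc (a - (P.ε * c - c)) hv) c).2]
    simpa using h
  refine full_of_BSet hs hB' fun a _ => ?_
  have hch : ringChar F = 2 := by
    by_contra hc
    exact Ring.two_ne_zero hc h2
  have := Fintype.ofFinite F
  obtain ⟨l, rfl⟩ := FiniteField.isSquare_of_char_two hch a
  have key : ∀ y ∈ V0 F₀ b, S.h e y = 0 → y ∉ F ∙ e → S.eich e (l • y) (l * l) ∈ H := by
    intro y hy hey hye
    obtain ⟨y', -, h1, h3⟩ := R.exists_dual hS [e] (by simpa) hy (notMem_span_one.2 hye)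
    simp only [List.mem_cons, List.not_mem_nil, or_false, forall_eq] at h1
    obtain ⟨a, hca, hk⟩ := hB' (l • y') (by simp [S.h_swap_zero h1])
    have e1 : (S.eich e (l • y') a).1 y = y + l • e := by
      rw [eich_apply_of_perp hca hey]; simp [h3, hε]
    have t1 := H.mul_mem (H.mul_mem hk (hH y hy 0 (Submodule.zero_mem _) 1 F₀.one_mem))
      (H.inv_mem hk)
    rw [conj_eich, e1, map_zero] at t1
    have t2 := H.mul_mem t1 (hH y hy 0 (Submodule.zero_mem _) (-1) (F₀.neg_mem F₀.one_mem))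
    convert t2 using 1
    refine isom_ext fun z => ?_
    rw [isom_mul_apply, eich_apply (hc _ (by simp [hey])), eich_apply (hc _ (by simp)),
      eich_apply (hc _ (by simp))]
    simp only [map_add, map_sub, map_smul, map_zero, LinearMap.zero_apply, LinearMap.add_apply,
      LinearMap.smul_apply, smul_eq_mul, hε, (hsi y).h_self, hey, smul_zero, map_smulₛₗ,
      RingHom.id_apply]
    module
  obtain ⟨y₁, hy₁, -, h1, h1e⟩ := R.exists_sing0 hS [e] [e] (by simpa) (by simpa) (by simp; omega)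
  obtain ⟨y₂, hy₂, -, h3, h2e⟩ := R.exists_sing0 hS [e, y₁] [e, y₁] (by simp [he, hy₁])
    (by simp [he, hy₁]) (by simp; omega)
  simp only [List.mem_cons, List.not_mem_nil, or_false, forall_eq_or_imp, forall_eq] at h1 h3
  rw [notMem_span_one] at h1e
  rw [notMem_span_two] at h2e
  have k1 := key y₁ hy₁ h1 h1e
  have k2 := key y₂ hy₂ h3.1 (notMem_of_pair_left h2e)
  have k3 := key (y₁ + y₂) ((V0 F₀ b).add_mem hy₁ hy₂) (by simp [h1, h3.1]) (fun h => by
    obtain ⟨c, hc⟩ := Submodule.mem_span_singleton.1 h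
    exact h2e (Submodule.mem_span_pair.2 ⟨c, -1, by rw [hc]; simp⟩))
  have k4 := H.mul_mem (H.inv_mem k3) (H.mul_mem k1 k2)
  convert k4 using 1
  rw [eq_inv_mul_iff_mul_eq, eich_mul (hc _ (by simp [h1, h3.1])) (hc _ (by simp)),
    eich_mul (hc _ (by simp [h1])) (hc _ (by simp [h3.1]))]
  simp [h3.2]

theorem dichotomy (hS : S.Nondeg) (hn : 8 ≤ finrank F V) (hr : (finrank F₀ F).Prime)
    (hH : HR F₀ b H) : S.E ≤ H ∨ BR F₀ b H := by
  by_cases hB : BR F₀ b H
  · exact Or.inr hB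
  left
  obtain ⟨l, hl0, hl⟩ := R.exists_inL hS hn hH hB
  have h0 : ∀ c ∈ F₀, InL F₀ b H c := fun c hc e he _ hs y hy hey =>
    ⟨0, by simpa using R.mem_BSet0 hH he hs (V0_smul hc hy) (by simp [hey])⟩
  let L : Subring F :=
    { carrier := {l | InL F₀ b H l}
      mul_mem' := fun {x y} hx hy => by
        have h1 := R.inL_mul hS (by omega) hH (h0 1 F₀.one_mem) hy
        have h2 := R.inL_mul hS (by omega) hH hx h1
        rwa [one_mul, P.σσ] at h2
      one_mem' := h0 1 F₀.one_mem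
      add_mem' := fun {x y} hx hy e he he0 hs z hz hez => by
        obtain ⟨c, hc⟩ := hx e he he0 hs z hz hez
        obtain ⟨d, hd⟩ := hy e he he0 hs z hz hez
        refine ⟨c + d, ?_⟩
        convert (BSet H hs).add_mem hc hd using 1
        module
      zero_mem' := h0 0 F₀.zero_mem
      neg_mem' := fun {x} hx e he he0 hs z hz hez => by
        obtain ⟨c, hc⟩ := hx e he he0 hs z hz hez
        refine ⟨-c, ?_⟩
        convert (BSet H hs).neg_mem hc using 1
        module }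
  have hL : ∀ l, InL F₀ b H l := fun x => by
    have : x ∈ L := (subring_eq_top hr L h0 hl hl0) ▸ Subring.mem_top x
    exact this
  obtain ⟨e, he, hs, -, he0⟩ := R.exists_sing0 hS [] [] (by simp) (by simp) (by simp; omega)
  obtain ⟨f, hf, -, hfs, hef⟩ := R.exists_partner0 hS [] (by simp) he hs he0 (by simp)
  have hf0 : f ≠ 0 := by rintro rfl; simp at hef
  rw [E_le_iff]
  intro u v a _
  exact full_all_of_pair hS hs hfs (R.full_of_inL hS (by omega) hH hL he (ne_zero_of_notMem he0) hs)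
    (R.full_of_inL hS (by omega) hH hL hf hf0 hfs) (by simp [hef]) u v a

omit [Finite F] in
theorem mem_of_two (hS : S.Nondeg) {e e' x : V} (he : e ∈ V0 F₀ b) (he' : e' ∈ V0 F₀ b)
    (h : e' ∉ F ∙ e) {c c' : F} (h1 : x + c • e ∈ V0 F₀ b) (h2 : x + c' • e' ∈ V0 F₀ b) :
    x ∈ V0 F₀ b := by
  obtain ⟨y, hy, h3, h4⟩ := R.exists_dual hS [e] (by simpa) he' (notMem_span_one.2 h)
  have := R.h_mem y hy _ ((V0 F₀ b).sub_mem h2 h1)
  simp only [map_sub, map_add, map_smul, h3 e (by simp), h4, smul_eq_mul, mul_one, mul_zero,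
    add_zero, add_sub_cancel_left] at this
  simpa using (V0 F₀ b).sub_mem h2 (V0_smul this he')

omit [Finite F] in
theorem rat3 (hS : S.Nondeg) (hH : HR F₀ b H) (hB : BR F₀ b H) {e₁ e₂ e₃ : V}
    (h₁ : e₁ ∈ V0 F₀ b) (h₂ : e₂ ∈ V0 F₀ b) (h₃ : e₃ ∈ V0 F₀ b) (s₁ : S.Sing e₁) (s₂ : S.Sing e₂)
    (s₃ : S.Sing e₃) (i₁ : e₁ ≠ 0) (i₂ : e₂ ∉ F ∙ e₁) (i₃ : e₃ ∉ Submodule.span F {e₁, e₂})
    {k : S.Isom} (hk : k ∈ H) (k₁ : k.1 e₁ = e₁) (k₂ : k.1 e₂ = e₂) (k₃ : k.1 e₃ = e₃) {v : V}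
    (hv : v ∈ V0 F₀ b) : k.1 v ∈ V0 F₀ b := by
  have key : ∀ e ∈ V0 F₀ b, ∀ e' ∈ V0 F₀ b, S.Sing e → S.Sing e' → e ≠ 0 → e' ∉ F ∙ e →
      k.1 e = e → k.1 e' = e' → ∀ v ∈ V0 F₀ b, S.h e v = 0 → S.h e' v = 0 → k.1 v ∈ V0 F₀ b := by
    intro e he e' he' hs hs' h0 hee hke hke' v hv h1 h2
    obtain ⟨c, hc⟩ := hB e he h0 hs _ (BSet_map (R.mem_BSet0 hH he hs hv h1) hk hke)
    obtain ⟨c', hc'⟩ := hB e' he' (ne_zero_of_notMem hee) hs' _
      (BSet_map (R.mem_BSet0 hH he' hs' hv h2) hk hke')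
    exact R.mem_of_two hS he he' hee hc hc'
  obtain ⟨f₁, hf₁, a1, a2⟩ := R.exists_dual hS [e₂, e₃] (by simp [h₂, h₃]) h₁
    (notMem_span_two.2 (notMem_pair_first i₁ i₂ i₃))
  obtain ⟨f₂, hf₂, a3, a4⟩ := R.exists_dual hS [e₁, e₃] (by simp [h₁, h₃]) h₂
    (notMem_span_two.2 (notMem_pair_swap i₂ i₃))
  simp only [List.mem_cons, List.not_mem_nil, or_false, forall_eq_or_imp, forall_eq] at a1 a3
  have b1 : S.h e₁ f₁ = P.ε := by rw [S.symm, a2]; simp
  have b2 : S.h e₂ f₂ = P.ε := by rw [S.symm, a4]; simp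
  have m1 := V0_smul (F₀.mul_mem (ε_mem P F₀) (R.h_mem _ h₁ _ hv)) hf₁
  have m2 := V0_smul (F₀.mul_mem (ε_mem P F₀) (R.h_mem _ h₂ _ hv)) hf₂
  have t1 := key e₂ h₂ e₃ h₃ s₂ s₃ (ne_zero_of_notMem i₂) (notMem_of_pair_right i₃) k₂ k₃ _ m1
    (by simp [S.h_swap_zero a1.1]) (by simp [S.h_swap_zero a1.2])
  have t2 := key e₁ h₁ e₃ h₃ s₁ s₃ i₁ (notMem_of_pair_left i₃) k₁ k₃ _ m2
    (by simp [S.h_swap_zero a3.1]) (by simp [S.h_swap_zero a3.2])
  have t3 := key e₁ h₁ e₂ h₂ s₁ s₂ i₁ i₂ k₁ k₂ _ ((V0 F₀ b).sub_mem ((V0 F₀ b).sub_mem hv m1) m2)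
    (by
      simp only [map_sub, map_smul, b1, S.h_swap_zero a3.1, smul_eq_mul]
      linear_combination (-S.h e₁ v) * P.εε)
    (by
      simp only [map_sub, map_smul, b2, S.h_swap_zero a1.1, smul_eq_mul]
      linear_combination (-S.h e₂ v) * P.εε)
  convert (V0 F₀ b).add_mem ((V0 F₀ b).add_mem t3 t2) t1 using 1
  simp only [map_sub]
  abel

theorem exists_scale (hS : S.Nondeg) (hn : 7 ≤ finrank F V) (g : V ≃ₗ[F] V)
    (hg : ∀ e ∈ V0 F₀ b, S.Sing e → ∃ c : F, c ≠ 0 ∧ ∃ y ∈ V0 F₀ b, g e = c • y) :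
    ∃ c : F, c ≠ 0 ∧ ∀ x ∈ V0 F₀ b, c⁻¹ • g x ∈ V0 F₀ b := by
  have step : ∀ e ∈ V0 F₀ b, ∀ w ∈ V0 F₀ b, S.Sing e → S.Sing w → S.h e w = 0 → e ≠ 0 →
      w ∉ F ∙ e → ∀ c : F, c ≠ 0 → c⁻¹ • g e ∈ V0 F₀ b → c⁻¹ • g w ∈ V0 F₀ b := by
    intro e he w hw hs hs' hew he0 hwe c hc hy
    obtain ⟨c', hc', y', hy', h1⟩ := hg w hw hs'
    obtain ⟨c'', -, y'', hy'', h2⟩ := hg _ ((V0 F₀ b).add_mem he hw) (hs.add hs' hew)
    have i1 : g w ∉ F ∙ g e := notMem_span_map g hwe
    have i2 : g e ∉ F ∙ g w := notMem_span_map g (notMem_symm he0 hwe)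
    obtain ⟨r, hr, a1, a2⟩ := R.exists_dual hS [c⁻¹ • g e] (by simpa) hy' (notMem_span_one.2 fun h =>
      i1 (h1 ▸ Submodule.smul_mem _ _ (Submodule.span_singleton_smul_le F _ _ h)))
    obtain ⟨r', hr', a3, a4⟩ := R.exists_dual hS [y'] (by simpa) hy (notMem_span_one.2 fun h => by
      apply i2
      rw [h1, Submodule.span_singleton_smul_eq hc'.isUnit]
      simpa [smul_smul, hc] using Submodule.smul_mem _ c h)
    simp only [List.mem_cons, List.not_mem_nil, or_false, forall_eq, map_smul, smul_eq_mul,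
      mul_eq_zero, inv_eq_zero, hc, false_or] at a1 a3 a4
    rw [map_add, h1] at h2
    have e1 := congrArg (S.h r) h2
    have e2 := congrArg (S.h r') h2
    simp only [map_add, map_smul, a1, a2, a3, smul_eq_mul, zero_add, mul_one, mul_zero,
      add_zero] at e1 e2
    have m1 := R.h_mem _ hr _ hy''
    have m2 := R.h_mem _ hr' _ hy''
    have e3 : S.h r' (g e) = c := by field_simp at a4; exact a4
    rw [e3] at e2
    have h0 : S.h r' y'' ≠ 0 := by intro h; rw [h, mul_zero] at e2; exact hc e2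
    rw [h1, smul_smul]
    refine V0_smul ?_ hy'
    convert F₀.div_mem m1 m2 using 1
    rw [e1, e2]
    have : c'' ≠ 0 := by rintro rfl; simp at e2; exact hc e2
    field_simp
  obtain ⟨e₀, he₀, hs₀, -, h0⟩ := R.exists_sing0 hS [] [] (by simp) (by simp) (by simp; omega)
  replace h0 := ne_zero_of_notMem h0
  obtain ⟨c, hc, y, hy, h1⟩ := hg e₀ he₀ hs₀
  have h2 : c⁻¹ • g e₀ ∈ V0 F₀ b := by rwa [h1, smul_smul, inv_mul_cancel₀ hc, one_smul]
  refine ⟨c, hc, fun x hx => ?_⟩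
  refine R.span_sing0 hS (by omega) (Submodule.zero_mem _)
    ((V0 F₀ b).toAddSubgroup.comap (c⁻¹ • (g : V →ₗ[F] V)).toAddMonoidHom) ?_ hx (by simp)
  intro e he hs _
  change c⁻¹ • g e ∈ V0 F₀ b
  by_cases he0 : e = 0
  · simp [he0]
  obtain ⟨w, hw, hws, h3, h4⟩ := R.exists_sing0 hS [e₀, e] [e₀, e] (by simp [he, he₀])
    (by simp [he, he₀]) (by simp; omega)
  simp only [List.mem_cons, List.not_mem_nil, or_false, forall_eq_or_imp, forall_eq] at h3
  rw [notMem_span_two] at h4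
  exact step w hw e he hws hs (S.h_swap_zero h3.2) (ne_zero_of_notMem h4)
    (notMem_symm he0 (notMem_of_pair_right h4)) c hc
    (step e₀ he₀ w hw hs₀ hws h3.1 h0 (notMem_of_pair_left h4) c hc h2)

end Rat

theorem tau_mem_of_eich [FiniteDimensional F V] (hS : S.Nondeg) {φ : F →+* F}
    (hφ : ∀ x, φ x = x ↔ x ∈ F₀) {y y' : V} (hs : S.Sing y) (hs' : S.Sing y') (h : S.h y y' = 0)
    (hy : y' ∉ F ∙ y) (hr : ∀ z ∈ V0 F₀ b, (S.eich y y' 0).1 z ∈ V0 F₀ b) :
    tau φ b y ∈ Submodule.span F {y, y'} := by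
  obtain ⟨z, hz, h1⟩ := hS.exists_perp_of_notMem' hy (-P.ε)
  rw [S.mem_perp_singleton] at hz
  have hc := econd_zero hs hs' h
  have e1 : (S.eich y y' 0).1 z = z + y := by
    rw [eich_apply_of_perp hc hz, h1, mul_neg, P.εε]; simp
  have e2 := tau_comm (φ := φ) hφ (k := ((S.eich y y' 0).1 : V →ₗ[F] V)) hr z
  simp only [LinearEquiv.coe_coe] at e2
  rw [e1, map_add, eich_apply hc, add_sub_assoc, add_right_inj] at e2
  rw [e2]
  exact Submodule.sub_mem _ (Submodule.smul_mem _ _ (Submodule.subset_span (by simp)))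
    (Submodule.smul_mem _ _ (Submodule.subset_span (by simp)))

theorem notMem_pair_map (g : V ≃ₗ[F] V) {a c x : V} (h : x ∉ Submodule.span F {a, c}) :
    g x ∉ Submodule.span F {g a, g c} := by
  intro h'
  obtain ⟨s, t, h1⟩ := Submodule.mem_span_pair.1 h'
  exact h (Submodule.mem_span_pair.2 ⟨s, t, g.injective (by simpa using h1)⟩)

theorem tau_mem_of_eich_two [FiniteDimensional F V] (hS : S.Nondeg) {φ : F →+* F}
    (hφ : ∀ x, φ x = x ↔ x ∈ F₀) (k : S.Isom) {e e' e'' : V} (hs : S.Sing e) (hs' : S.Sing e')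
    (hs'' : S.Sing e'') (h' : S.h e e' = 0) (h'' : S.h e e'' = 0) (i' : e' ∉ F ∙ e)
    (i'' : e'' ∉ Submodule.span F {e, e'})
    (r' : ∀ z ∈ V0 F₀ b, (S.eich (k.1 e) (k.1 e') 0).1 z ∈ V0 F₀ b)
    (r'' : ∀ z ∈ V0 F₀ b, (S.eich (k.1 e) (k.1 e'') 0).1 z ∈ V0 F₀ b) :
    tau φ b (k.1 e) ∈ F ∙ k.1 e :=
  mem_span_of_pairs (notMem_pair_map k.1 i'') (notMem_span_map k.1 i')
    (tau_mem_of_eich hS hφ (by simpa) (by simpa) (by simpa) (notMem_span_map k.1 i') r')
    (tau_mem_of_eich hS hφ (by simpa) (by simpa) (by simpa)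
      (notMem_span_map k.1 (notMem_of_pair_left i'')) r'')

end H29
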