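import Cfsg.Agent.H29.RatA
import Cfsg.Agent.H11.Count

/-! The torus argument for subfield subgroups: `exists_torus`, `Rat.torus_lemma`,
`Rat.point_rat_*` (elements of an overgroup map rational points to rational points) and the
final alternative `Rat.final`. -/

set_option autoImplicit false
set_option linter.unusedSectionVars false

namespace H29

open Module H11 H11.PForm Matrix
open scoped MatrixGroups

variable {F : Type*} [Field F] {σ : F →+* F} {P : FParam σ} {V : Type*} [AddCommGroup V]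
  [Module F V] {ι : Type*} [Fintype ι] {F₀ : Subfield F} {b : Basis ι F V} {S : PForm P V}

/-- `r` acts as a root element opposite to `1 + φ` with parameter `β` -/
def OppRoot (U : Submodule F V) (φ : V →ₗ[F] V) (r : V ≃ₗ[F] V) (β : F) : Prop :=
  (∀ e ∈ U, r e = e) ∧ ∀ e ∈ U, r (φ e) - φ e ∈ U ∧ φ (r (φ e) - φ e) = β • φ e

theorem exists_torus [Finite F] (H : Subgroup (V ≃ₗ[F] V)) (U : Submodule F V) (φ : V →ₗ[F] V)
    (hφ : ∀ z, φ (φ z) = 0) {x : V ≃ₗ[F] V} (hx : x ∈ H) (hxφ : ∀ z, x z = z + φ z)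
    {r₁ r₂ : V ≃ₗ[F] V} {β₁ β₂ : F} (h₁ : r₁ ∈ H) (h₂ : r₂ ∈ H) (o₁ : OppRoot U φ r₁ β₁)
    (o₂ : OppRoot U φ r₂ β₂) (hβ₁ : β₁ ≠ 0) (hβ₂ : β₂ ≠ 0) (hne : β₁ ≠ β₂) :
    ∃ k ∈ H, ∃ s : F, s ≠ 1 ∧ (∀ y ∈ U ⊓ LinearMap.ker φ, k y = y) ∧
      ∀ e ∈ U, k e - s • e ∈ U ⊓ LinearMap.ker φ := by
  set U₁ := U ⊓ LinearMap.ker φ with hU₁
  let N : Submonoid SL(2, F) :=
    { carrier := {M | ∃ k ∈ H, (∀ y ∈ U₁, k y = y) ∧ ∀ e ∈ U,
        k e - (M.1 0 0 • e + M.1 1 0 • φ e) ∈ U₁ ∧ k (φ e) - (M.1 0 1 • e + M.1 1 1 • φ e) ∈ U₁}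
      one_mem' := ⟨1, H.one_mem, fun y _ => rfl, fun e _ => by simp⟩
      mul_mem' := by
        rintro M M' ⟨k, hk, a1, a2⟩ ⟨k', hk', b1, b2⟩
        refine ⟨k * k', H.mul_mem hk hk', fun y hy => by simp [b1 y hy, a1 y hy], fun e he => ?_⟩
        obtain ⟨c1, c2⟩ := a2 e he
        obtain ⟨d1, d2⟩ := b2 e he
        have e1 := a1 _ d1
        have e2 := a1 _ d2
        simp only [map_sub, map_add, map_smul] at e1 e2
        simp only [Matrix.SpecialLinearGroup.coe_mul, Matrix.mul_apply, Fin.sum_univ_two,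
          LinearEquiv.mul_apply]
        constructor
        · convert U₁.add_mem d1 (U₁.add_mem (U₁.smul_mem (M'.1 0 0) c1)
            (U₁.smul_mem (M'.1 1 0) c2)) using 1
          rw [← e1]; module
        · convert U₁.add_mem d2 (U₁.add_mem (U₁.smul_mem (M'.1 0 1) c1)
            (U₁.smul_mem (M'.1 1 1) c2)) using 1
          rw [← e2]; module }
  let G : Subgroup SL(2, F) :=
    { N with
      inv_mem' := fun {M} hM => by
        have : M⁻¹ = M ^ (orderOf M - 1) := inv_eq_of_mul_eq_one_right (by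
          rw [← pow_succ', Nat.sub_add_cancel (orderOf_pos M), pow_orderOf_eq_one])
        rw [this]
        exact N.pow_mem hM _ }
  have hR : ∀ {r : V ≃ₗ[F] V} {β : F}, r ∈ H → OppRoot U φ r β → slR β ∈ G := by
    intro r β hr o
    refine ⟨r, hr, fun y hy => o.1 y hy.1, fun e he => ⟨by simp [slR_coe, o.1 e he], ?_, ?_⟩⟩
    · convert U.sub_mem (o.2 e he).1 (U.smul_mem β he) using 1
      simp [slR_coe]; abel
    · have := (o.2 e he).2
      simp only [map_sub, hφ, sub_zero] at this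
      simp [slR_coe, this, hφ]
  obtain ⟨M, ⟨k, hk, a1, a2⟩, h0, h1⟩ := sl2_torus G ⟨x, hx, fun y hy => by
    rw [hxφ, LinearMap.mem_ker.1 hy.2, add_zero], fun e _ => by
      simp [slL_coe, hxφ, hφ]⟩ (hR h₁ o₁) (hR h₂ o₂) hβ₁ hβ₂ hne
  exact ⟨k, hk, M.1 0 0, h1, a1, fun e he => by simpa [h0] using (a2 e he).1⟩

/-- `U` is spanned by its rational vectors -/
def RatSub (F₀ : Subfield F) (b : Basis ι F V) (U : Submodule F V) : Prop :=
  ∀ T : Submodule F V, (∀ e ∈ U, e ∈ V0 F₀ b → e ∈ T) → U ≤ T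

theorem RatSub.exists_notMem {U : Submodule F V} (h : RatSub F₀ b U) [FiniteDimensional F V]
    {A : Submodule F V} (hA : finrank F A < finrank F U) : ∃ e ∈ U, e ∈ V0 F₀ b ∧ e ∉ A := by
  by_contra hc
  push Not at hc
  exact absurd (Submodule.finrank_mono (h A hc)) (by omega)

theorem RatSub.exists_two {U : Submodule F V} (h : RatSub F₀ b U) [FiniteDimensional F V]
    (h3 : 3 ≤ finrank F U) (e : V) : ∃ e' ∈ U, ∃ e'' ∈ U, e' ∈ V0 F₀ b ∧ e'' ∈ V0 F₀ b ∧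
      e' ∉ F ∙ e ∧ e'' ∉ Submodule.span F {e, e'} := by
  obtain ⟨e', a1, a2, a3⟩ := h.exists_notMem (A := F ∙ e)
    (by have := finrank_span_one_le (F := F) e; omega)
  obtain ⟨e'', b1, b2, b3⟩ := h.exists_notMem (A := Submodule.span F {e, e'})
    (by have := finrank_span_two_le (F := F) e e'; omega)
  exact ⟨e', a1, e'', b1, a2, b2, a3, b3⟩

theorem ratSub_span {s : Set V} (hs : ∀ x ∈ s, x ∈ V0 F₀ b) : RatSub F₀ b (Submodule.span F s) :=
  fun _ hT => Submodule.span_le.2 fun x hx => hT x (Submodule.subset_span hx) (hs x hx)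

theorem RatSub.tau_mem {U : Submodule F V} (h : RatSub F₀ b U) {φ : F →+* F}
    (hφ : ∀ x, φ x = x ↔ x ∈ F₀) {y : V} (hy : y ∈ U) : tau φ b y ∈ U := by
  let T : Submodule F V :=
    { carrier := {y | tau φ b y ∈ U}
      add_mem' := fun hx hy => by simpa using U.add_mem hx hy
      zero_mem' := by simp
      smul_mem' := fun c x hx => by simpa [tau_smul] using U.smul_mem _ hx }
  exact h T (fun e he he0 => by
    change tau φ b e ∈ U
    rwa [(tau_eq_self_iff hφ).2 he0]) hy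

/-- if `k` maps the rational points of `U` to rational points and has a big fixed space, then the
fixed space is rational -/
theorem RatSub.tau_fixed {U : Submodule F V} (h : RatSub F₀ b U) {φ : F →+* F}
    (hφ : ∀ x, φ x = x ↔ x ∈ F₀) (k : V ≃ₗ[F] V)
    (hk : ∀ e ∈ U, e ∈ V0 F₀ b → tau φ b (k e) ∈ F ∙ k e) {U₁ : Submodule F V} (hU₁ : U₁ ≤ U)
    (h1 : ∀ y ∈ U₁, k y = y) {s : F} (hs : s ≠ 1) (h2 : ∀ e ∈ U, k e - s • e ∈ U₁)
    (hy : ∃ y ∈ U₁, y ≠ 0 ∧ tau φ b y ∈ U₁) : ∀ y ∈ U₁, tau φ b y ∈ U₁ := by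
  obtain ⟨y₀, hy₀, hy0, hy₁⟩ := hy
  obtain ⟨e₁, he₁, he₁', he0⟩ : ∃ e ∈ U, e ∈ V0 F₀ b ∧ e ≠ 0 := by
    by_contra hc
    push Not at hc
    exact hy0 (h ⊥ hc (hU₁ hy₀))
  obtain ⟨c, hc⟩ := Submodule.mem_span_singleton.1 (hk e₁ he₁ he₁')
  have key : ∀ e ∈ U, e ∈ V0 F₀ b → tau φ b (k e) = c • k e := by
    intro e he he'
    by_cases hm : e ∈ F ∙ e₁
    · obtain ⟨a, rfl⟩ := Submodule.mem_span_singleton.1 hm
      rw [map_smul, tau_smul, (hφ a).2 (mem_of_smul_mem_V0 he₁' he0 he'), ← hc, smul_comm]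
    · obtain ⟨c', hc'⟩ := Submodule.mem_span_singleton.1 (hk e he he')
      obtain ⟨c'', hc''⟩ := Submodule.mem_span_singleton.1
        (hk _ (U.add_mem he₁ he) ((V0 F₀ b).add_mem he₁' he'))
      rw [map_add, map_add, ← hc, ← hc'] at hc''
      obtain ⟨a1, a2⟩ := eq_zero_of_indep (u := k e₁) (v := k e) (by simpa using he0)
        (notMem_span_map k hm) (a := c'' - c') (b := c - c'')
        (by linear_combination (norm := module) hc'')
      rw [← hc', show c' = c by linear_combination -a1 - a2]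
  have key2 : ∀ y ∈ U, tau φ b (k y) = c • k (tau φ b y) := by
    let T : Submodule F V :=
      { carrier := {y | tau φ b (k y) = c • k (tau φ b y)}
        add_mem' := fun {x y} hx hy => by
          simp only [Set.mem_setOf_eq, map_add] at hx hy ⊢
          rw [hx, hy, smul_add]
        zero_mem' := by simp
        smul_mem' := fun a x hx => by
          simp only [Set.mem_setOf_eq, map_smul, tau_smul] at hx ⊢
          rw [hx, smul_comm] }
    exact h T fun e he he0 => by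
      change tau φ b (k e) = c • k (tau φ b e)
      rw [(tau_eq_self_iff hφ).2 he0, key e he he0]
  have hc1 : c = 1 := by
    have := key2 y₀ (hU₁ hy₀)
    rw [h1 _ hy₀, h1 _ hy₁] at this
    have h0 : tau φ b y₀ ≠ 0 := fun h => hy0 (tau_injective (φ := φ) (b := b) (by simpa using h))
    exact (smul_left_injective F h0 (by simpa using this.symm) : c = 1)
  intro y hy
  have e1 := key2 y (hU₁ hy)
  rw [h1 _ hy, hc1, one_smul] at e1
  have e2 := h2 _ (h.tau_mem hφ (hU₁ hy))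
  rw [← e1] at e2
  have := U₁.smul_mem (1 - s)⁻¹ e2
  rwa [show tau φ b y - s • tau φ b y = (1 - s) • tau φ b y by module, smul_smul,
    inv_mul_cancel₀ (sub_ne_zero.2 hs.symm), one_smul] at this

variable {H : Subgroup S.Isom} [FiniteDimensional F V] [Finite F]

namespace Rat

variable (R : Rat S F₀ b)
include R

theorem torus_lemma (hS : S.Nondeg) (hH : HR F₀ b H) (hB : BR F₀ b H) {τ : F →+* F}
    (hτ : ∀ x, τ x = x ↔ x ∈ F₀) {U : Submodule F V} (hU : S.TS U) (hUr : RatSub F₀ b U)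
    (h3 : 3 ≤ finrank F U) (φ : V →ₗ[F] V) (hφ : ∀ z, φ (φ z) = 0) {x : S.Isom} (hx : x ∈ H)
    (hxφ : ∀ z, x.1 z = z + φ z) {r₁ r₂ : S.Isom} {β₁ β₂ : F} (h₁ : r₁ ∈ H) (h₂ : r₂ ∈ H)
    (o₁ : OppRoot U φ r₁.1 β₁) (o₂ : OppRoot U φ r₂.1 β₂) (hβ₁ : β₁ ≠ 0) (hβ₂ : β₂ ≠ 0)
    (hne : β₁ ≠ β₂) (hy : ∃ y ∈ U ⊓ LinearMap.ker φ, y ≠ 0 ∧ tau τ b y ∈ U ⊓ LinearMap.ker φ) :
    ∀ y ∈ U ⊓ LinearMap.ker φ, tau τ b y ∈ U ⊓ LinearMap.ker φ := by
  obtain ⟨_, ⟨k, hk, rfl⟩, s, hs, a1, a2⟩ := exists_torus (H.map S.Isom.subtype) U φ hφ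
    ⟨x, hx, rfl⟩ hxφ ⟨r₁, h₁, rfl⟩ ⟨r₂, h₂, rfl⟩ o₁ o₂ hβ₁ hβ₂ hne
  refine hUr.tau_fixed hτ k.1 ?_ inf_le_left a1 hs a2 hy
  have hkU : ∀ e ∈ U, k.1 e ∈ U := fun e he => by
    simpa using U.add_mem (a2 e he).1 (U.smul_mem s he)
  obtain ⟨e₁, b1, b2, b3⟩ := hUr.exists_notMem (A := ⊥) (by simp; omega)
  obtain ⟨e₂, c1, e₃, d1, c2, d2, c3, d3⟩ := hUr.exists_two h3 e₁
  have key : ∀ e ∈ U, e ∈ V0 F₀ b → ∀ e' ∈ U, e' ∈ V0 F₀ b →
      ∀ z ∈ V0 F₀ b, (S.eich (k.1 e) (k.1 e') 0).1 z ∈ V0 F₀ b := by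
    intro e he he0 e' he' he0' z hz
    have hf : ∀ w ∈ U, (S.eich (k.1 e) (k.1 e') 0).1 w = w := fun w hw =>
      eich_apply_of_perp_perp (hU.h_eq (hkU e he) hw) (hU.h_eq (hkU e' he') hw)
    refine R.rat3 hS hH hB b2 c2 d2 (hU.1 _ b1) (hU.1 _ c1) (hU.1 _ d1) (by simpa using b3) c3 d3
      ?_ (hf _ b1) (hf _ c1) (hf _ d1) hz
    rw [← conj_eich]
    exact H.mul_mem (H.mul_mem hk (hH e he0 e' he0' 0 F₀.zero_mem)) (H.inv_mem hk)
  intro e he he0
  obtain ⟨e', f1, e'', g1, f2, g2, f3, g3⟩ := hUr.exists_two h3 e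
  exact tau_mem_of_eich_two hS hτ k (hU.1 _ he) (hU.1 _ f1) (hU.1 _ g1) (hU.h_eq he f1)
    (hU.h_eq he g1) f3 g3 (key e he he0 e' f1 f2) (key e he he0 e'' g1 g2)

theorem exists_irr_pair (hS : S.Nondeg) (hn : 5 ≤ finrank F V) {τ : F →+* F}
    (hτ : ∀ x, τ x = x ↔ x ∈ F₀) {u : V} (hu : tau τ b u ∉ F ∙ u) :
    ∃ e₁ ∈ V0 F₀ b, ∃ e₂ ∈ V0 F₀ b, S.Sing e₁ ∧ S.Sing e₂ ∧ S.h e₁ e₂ = 0 ∧ S.h u e₂ ≠ 0 ∧
      S.h u e₁ / S.h u e₂ ∉ F₀ := by
  by_contra hc
  push Not at hc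
  have hu0 : u ≠ 0 := by rintro rfl; simp at hu
  obtain ⟨e₁, he₁, hs₁, h1⟩ : ∃ e ∈ V0 F₀ b, S.Sing e ∧ S.h u e ≠ 0 := by
    by_contra hc'
    push Not at hc'
    refine hu0 (hS u fun y => V0_induction (F₀ := F₀) (b := b) (LinearMap.ker (S.h u))
      (fun z hz => ?_) y)
    exact R.span_sing0 hS hn (Submodule.zero_mem _) (LinearMap.ker (S.h u)).toAddSubgroup
      (fun y hy hs _ => hc' y hy hs) hz (by simp)
  let T : AddSubgroup V := F₀.toAddSubgroup.comap ((S.h u e₁)⁻¹ • S.h u).toAddMonoidHom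
  have hT : ∀ y, y ∈ T ↔ S.h u y / S.h u e₁ ∈ F₀ := fun y => by
    simp [T, div_eq_inv_mul]
  have key : ∀ e ∈ V0 F₀ b, S.Sing e → S.h u e ≠ 0 → e ∈ T → ∀ y ∈ V0 F₀ b, S.h e y = 0 → y ∈ T := by
    intro e he hs h0 heT y hy hey
    refine R.span_sing0 hS hn he T (fun z hz hs' hez => ?_) hy hey
    rw [hT] at heT ⊢
    convert F₀.mul_mem (hc z hz e he hs' hs (S.h_swap_zero hez) h0) heT using 1
    field_simp
  have k1 := key e₁ he₁ hs₁ h1 (by rw [hT, div_self h1]; exact F₀.one_mem)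
  obtain ⟨e₂, he₂, hs₂, h2, h3, h4⟩ : ∃ e ∈ V0 F₀ b, S.Sing e ∧ S.h e₁ e = 0 ∧ e ∉ F ∙ e₁ ∧
      S.h u e ≠ 0 := by
    obtain ⟨e₃, he₃, hs₃, a1, a2⟩ := R.exists_sing0 hS [e₁] [e₁] (by simpa) (by simpa)
      (by simp; omega)
    simp only [List.mem_cons, List.not_mem_nil, or_false, forall_eq] at a1
    rw [notMem_span_one] at a2
    by_cases h : S.h u e₃ = 0
    · refine ⟨e₁ + e₃, (V0 F₀ b).add_mem he₁ he₃, hs₁.add hs₃ a1, by simp [a1, hs₁.h_self],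
        fun h' => a2 ?_, by simpa [h] using h1⟩
      simpa using Submodule.sub_mem _ h' (Submodule.mem_span_singleton_self e₁)
    · exact ⟨e₃, he₃, hs₃, a1, a2, h⟩
  have k2 := key e₂ he₂ hs₂ h4 (k1 e₂ he₂ h2)
  have he0 : e₁ ≠ 0 := by rintro rfl; simp at h1
  obtain ⟨f, hf, a1, a2⟩ := R.exists_dual hS [e₂] (by simpa) he₁
    (notMem_span_one.2 (notMem_symm he0 h3))
  simp only [List.mem_cons, List.not_mem_nil, or_false, forall_eq] at a1
  have b1 : S.h e₁ f = P.ε := by rw [S.symm, a2]; simp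
  have hall : ∀ y ∈ V0 F₀ b, y ∈ T := fun y hy => by
    have m1 := V0_smul (F₀.mul_mem (ε_mem P F₀) (R.h_mem _ he₁ _ hy)) hf
    simpa using T.add_mem (k1 _ ((V0 F₀ b).sub_mem hy m1) (by
      simp only [map_sub, map_smul, b1, smul_eq_mul]
      linear_combination (-S.h e₁ y) * P.εε)) (k2 _ m1 (by simp [S.h_swap_zero a1]))
  have hm : (σ (S.h u e₁))⁻¹ • u ∈ V0 F₀ b := R.mem_V0_of_h hS fun y hy => by
    have := F₀.mul_mem (ε_mem P F₀) (R.σ_mem _ ((hT y).1 (hall y hy)))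
    convert this using 1
    rw [map_smul, S.symm u y, map_div₀, smul_eq_mul]
    ring
  apply hu
  have h5 : σ (S.h u e₁) ≠ 0 := by simpa using h1
  have := (tau_eq_self_iff hτ).2 hm
  rw [tau_smul, map_inv₀, inv_smul_eq_iff₀ (by simpa using h1)] at this
  rw [this, smul_smul]
  exact Submodule.smul_mem _ _ (Submodule.mem_span_singleton_self u)

theorem exists_ts_ext (hS : S.Nondeg) (d : ℕ) : ∀ l : List V, (∀ x ∈ l, x ∈ V0 F₀ b) →
    S.TS (Submodule.span F {x | x ∈ l}) → 2 * (l.length + d) + 1 ≤ finrank F V →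
    ∃ U : Submodule F V, S.TS U ∧ RatSub F₀ b U ∧ (∀ x ∈ l, x ∈ U) ∧
      finrank F U = finrank F (Submodule.span F {x | x ∈ l}) + d := by
  induction d with
  | zero => exact fun l hl hts _ => ⟨_, hts, ratSub_span hl, fun x hx => Submodule.subset_span hx, rfl⟩
  | succ d ih =>
    intro l hl hts hn
    obtain ⟨w, hw, hs, h1, h2⟩ := R.exists_sing0 hS l l hl hl (by omega)
    have e : Submodule.span F {x | x ∈ w :: l} = Submodule.span F {x | x ∈ l} ⊔ F ∙ w := by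
      rw [← Submodule.span_union]; congr 1; ext x; simp [or_comm]
    obtain ⟨U, a1, a2, a3, a4⟩ := ih (w :: l) (by simpa using ⟨hw, hl⟩)
      (e ▸ hts.sup_span hs (S.mem_perp_span.2 h1)) (by simp; omega)
    refine ⟨U, a1, a2, fun x hx => a3 x (by simp [hx]), ?_⟩
    rw [a4, e, Submodule.finrank_sup_span_singleton h2]; omega

theorem exists_irr_ts (hS : S.Nondeg) (hn : 11 ≤ finrank F V) {τ : F →+* F}
    (hτ : ∀ x, τ x = x ↔ x ∈ F₀) {u : V} (hu : tau τ b u ∉ F ∙ u) :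
    ∃ U : Submodule F V, S.TS U ∧ RatSub F₀ b U ∧ finrank F U = 5 ∧ ∃ e₁ ∈ U, ∃ e₂ ∈ U,
      e₁ ∈ V0 F₀ b ∧ e₂ ∈ V0 F₀ b ∧ S.h u e₂ ≠ 0 ∧ S.h u e₁ / S.h u e₂ ∉ F₀ := by
  obtain ⟨e₁, h1, e₂, h2, s1, s2, h12, a1, a2⟩ := R.exists_irr_pair hS (by omega) hτ hu
  have he0 : e₂ ≠ 0 := by rintro rfl; simp at a1
  have hi : e₁ ∉ F ∙ e₂ := fun h => by
    obtain ⟨c, rfl⟩ := Submodule.mem_span_singleton.1 h
    apply a2
    rw [map_smul, smul_eq_mul, mul_div_cancel_right₀ _ a1]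
    exact mem_of_smul_mem_V0 h2 he0 h1
  have e : Submodule.span F {x | x ∈ [e₂, e₁]} = (⊥ ⊔ F ∙ e₂) ⊔ F ∙ e₁ := by
    rw [bot_sup_eq, list_set_two, Submodule.span_insert]
  obtain ⟨U, b1, b2, b3, b4⟩ := R.exists_ts_ext hS 3 [e₂, e₁] (by simp [h1, h2])
    (e ▸ (ts_bot.sup_span s2 (by simp)).sup_span s1
      (by rw [bot_sup_eq, S.mem_perp_singleton]; exact S.h_swap_zero h12)) (by simp; omega)
  refine ⟨U, b1, b2, ?_, e₁, b3 _ (by simp), e₂, b3 _ (by simp), h1, h2, a1, a2⟩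
  rw [b4, e, Submodule.finrank_sup_span_singleton (by rwa [bot_sup_eq]), bot_sup_eq,
    finrank_span_singleton he0]

theorem point_rat_transv (hS : S.Nondeg) (hn : 11 ≤ finrank F V) (hH : HR F₀ b H)
    (hB : BR F₀ b H) {τ : F →+* F} (hτ : ∀ x, τ x = x ↔ x ∈ F₀) (hσ : ∀ x, σ (τ x) = τ (σ x))
    {a : F} (ha0 : a ≠ 0) (ha : a ∈ F₀) (haΛ : a ∈ P.Λ)
    (hθ : σ = RingHom.id F ∨ ∃ θ ∈ F₀, σ θ ≠ θ) {g : S.Isom} (hg : g ∈ H) {e : V}
    (he : e ∈ V0 F₀ b) (hs : S.Sing e) : tau τ b (g.1 e) ∈ F ∙ g.1 e := by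
  by_contra hu
  set u := g.1 e with hue
  have hus : S.Sing u := by simpa [hue]
  obtain ⟨U, hU, hUr, h5, e₁, a1, e₂, a2, b1, b2, c2, c3⟩ := R.exists_irr_ts hS hn hτ hu
  have hx : S.eich u 0 a ∈ H := by
    have := H.mul_mem (H.mul_mem hg (hH e he 0 (Submodule.zero_mem _) a ha)) (H.inv_mem hg)
    rwa [conj_eich, map_zero] at this
  let φ : V →ₗ[F] V := ((-(P.ε * a)) • S.h u).smulRight u
  have hφ : ∀ z, φ z = (-(P.ε * a) * S.h u z) • u := fun z => rfl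
  have hker : ∀ z, φ z = 0 ↔ S.h u z = 0 := fun z => by
    have : u ≠ 0 := by rintro h; simp [h] at c2
    simp [hφ, this, P.ε_ne_zero, ha0]
  have ho : ∀ w ∈ U, OppRoot U φ (S.eich w 0 a).1 (a * a * (P.ε * (σ (S.h u w) * S.h u w))) := by
    intro w hw
    refine ⟨fun y hy => eich_apply_of_perp_perp (hU.h_eq hw hy) (by simp), fun y hy => ?_⟩
    rw [transv_apply (hU.1 w hw) haΛ, sub_sub_cancel_left]
    refine ⟨U.neg_mem (U.smul_mem _ hw), ?_⟩
    simp only [hφ, map_neg, map_smul, smul_eq_mul, S.symm u w, smul_smul, ← neg_smul]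
    congr 1
    linear_combination (-(a ^ 3 * S.h u y * σ (S.h u w) * S.h u w * P.ε ^ 2)) * P.εε
  have hβ : ∀ w, S.h u w ≠ 0 → a * a * (P.ε * (σ (S.h u w) * S.h u w)) ≠ 0 := fun w hw => by
    simp [ha0, P.ε_ne_zero, hw]
  obtain ⟨u', hu'⟩ := tau_surjective (φ := τ) (b := b) u
  have hy : ∃ y ∈ U ⊓ LinearMap.ker φ, y ≠ 0 ∧ tau τ b y ∈ U ⊓ LinearMap.ker φ := by
    obtain ⟨y, d1, d2, d3⟩ := exists_mem_ker_notMem [S.h u, S.h u'] U ⊥ (by simp; omega)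
    simp only [List.mem_cons, List.not_mem_nil, or_false, forall_eq_or_imp, forall_eq] at d3
    refine ⟨y, ⟨d1, (hker y).2 d3.1⟩, by simpa using d2, hUr.tau_mem hτ d1, (hker _).2 ?_⟩
    rw [← hu', R.h_tau hτ hσ, d3.2, map_zero]
  set w := S.h u e₁ / S.h u e₂ with hw
  obtain ⟨c, hc, hne⟩ : ∃ c ∈ F₀, σ (w + c) * (w + c) ≠ 1 ∨ (2 : F) ≠ 0 := by
    by_contra hcon
    push Not at hcon
    have k0 := (hcon 0 F₀.zero_mem).1
    have k1 := (hcon 1 F₀.one_mem).1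
    have h2 := (hcon 1 F₀.one_mem).2
    simp only [add_zero, map_add, map_one] at k0 k1
    rcases hθ with rfl | ⟨θ, hθ, hθ'⟩
    · simp only [RingHom.id_apply] at k0 k1
      exact one_ne_zero (α := F) (by linear_combination k1 - k0 - w * h2)
    · have k2 := (hcon θ hθ).1
      rw [map_add] at k2
      apply c3
      have : w = (θ - σ θ * θ) / (σ θ - θ) := by
        rw [eq_div_iff (sub_ne_zero.2 hθ')]
        linear_combination k2 - k0 - θ * k1 + θ * k0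
      rw [this]
      exact F₀.div_mem (F₀.sub_mem hθ (F₀.mul_mem (R.σ_mem _ hθ) hθ))
        (F₀.sub_mem (R.σ_mem _ hθ) hθ)
  have key : ∀ y ∈ U ⊓ LinearMap.ker φ, tau τ b y ∈ U ⊓ LinearMap.ker φ := by
    have hxφ : ∀ z, (S.eich u 0 a).1 z = z + φ z := fun z => by
      rw [transv_apply hus haΛ, hφ]; module
    have hφφ : ∀ z, φ (φ z) = 0 := fun z => by simp [hφ, hus.h_self]
    have z0 := Submodule.zero_mem (V0 F₀ b)
    rcases hne with hne | h2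
    · have e1 : S.h u (e₁ + c • e₂) = (w + c) * S.h u e₂ := by
        rw [map_add, map_smul, smul_eq_mul, hw]; field_simp
      have e2 : w + c ≠ 0 := fun h => c3 (by
        rw [eq_neg_of_add_eq_zero_left h]; exact F₀.neg_mem hc)
      refine R.torus_lemma hS hH hB hτ hU hUr (by omega) φ hφφ hx hxφ
        (hH _ ((V0 F₀ b).add_mem b1 (V0_smul hc b2)) 0 z0 a ha) (hH _ b2 0 z0 a ha)
        (ho _ (U.add_mem a1 (U.smul_mem c a2))) (ho _ a2) (hβ _ (by simp [e1, e2, c2]))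
        (hβ _ c2) (fun h => hne ?_) hy
      rw [e1, map_mul] at h
      exact mul_right_cancel₀ (hβ _ c2) (by linear_combination h)
    · have o := ho _ a2
      have o' : OppRoot U φ (S.eich e₂ 0 a)⁻¹.1
          (-(a * a * (P.ε * (σ (S.h u e₂) * S.h u e₂)))) := by
        rw [transv_inv (hU.1 _ a2) haΛ]
        refine ⟨fun y hy => eich_apply_of_perp_perp (hU.h_eq a2 hy) (by simp), fun y hy => ?_⟩
        have := o.2 y hy
        rw [transv_apply (hU.1 _ a2) haΛ, sub_sub_cancel_left] at this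
        rw [transv_apply (hU.1 _ a2) (P.Λ.neg_mem haΛ), sub_sub_cancel_left]
        refine ⟨U.neg_mem (U.smul_mem _ a2), ?_⟩
        rw [neg_smul, ← this.2, ← map_neg]
        congr 1
        module
      exact R.torus_lemma hS hH hB hτ hU hUr (by omega) φ hφφ hx hxφ
        (hH _ b2 0 z0 a ha) (H.inv_mem (hH _ b2 0 z0 a ha)) o o' (hβ _ c2)
        (neg_ne_zero.2 (hβ _ c2)) (fun h => hβ _ c2 (mul_left_cancel₀ h2 (by
          linear_combination h))) hy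
  have := (hker _).1 (key (S.h u e₂ • e₁ - S.h u e₁ • e₂)
    ⟨U.sub_mem (U.smul_mem _ a1) (U.smul_mem _ a2), (hker _).2 (by simp [mul_comm])⟩).2
  rw [map_sub, tau_smul, tau_smul, (tau_eq_self_iff hτ).2 b1, (tau_eq_self_iff hτ).2 b2] at this
  simp only [map_sub, map_smul, smul_eq_mul] at this
  apply c3
  rw [← hτ, hw, map_div₀, div_eq_div_iff (by simpa using c2) c2]
  linear_combination -this

theorem point_rat_orth (hS : S.Nondeg) (hn : 11 ≤ finrank F V) (hH : HR F₀ b H)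
    (hB : BR F₀ b H) {τ : F →+* F} (hτ : ∀ x, τ x = x ↔ x ∈ F₀) (hσ : ∀ x, σ (τ x) = τ (σ x))
    (hΛ : P.Λ = ⊥) {g : S.Isom} (hg : g ∈ H) {e : V}
    (he : e ∈ V0 F₀ b) (hs : S.Sing e) : tau τ b (g.1 e) ∈ F ∙ g.1 e := by
  by_contra hu
  set u := g.1 e with hue
  have hus : S.Sing u := by simpa [hue]
  have hsy : ∀ x y, S.h y x = S.h x y := fun x y => by rw [S.symm, bot_ε hΛ, bot_σ hΛ, one_mul]
  obtain ⟨U, hU, hUr, h5, e₁, a1, e₂, a2, b1, b2, c2, c3⟩ := R.exists_irr_ts hS hn hτ hu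
  obtain ⟨u', hu'⟩ := tau_surjective (φ := τ) (b := b) u
  set Z := Submodule.span F {u, u'} ⊔ S.perp U with hZ
  obtain ⟨v₀, hv₀, hv₀s, hev, hvZ⟩ : ∃ v ∈ V0 F₀ b, S.Sing v ∧ S.h e v = 0 ∧ g.1 v ∉ Z := by
    by_contra hc
    push Not at hc
    have h1 : S.perp (F ∙ e) ≤ Z.comap (g.1 : V →ₗ[F] V) := fun x hx =>
      R.span_perp hS he _ (fun y hy hey => R.span_sing0 hS (by omega) he
        (Z.comap (g.1 : V →ₗ[F] V)).toAddSubgroup hc hy hey) (S.mem_perp_singleton.1 hx)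
    have h2 := Submodule.finrank_mono h1
    rw [Submodule.comap_equiv_eq_map_symm, LinearEquiv.finrank_map_eq] at h2
    have h3 := hS.finrank_perp (F ∙ e)
    have h4 := hS.finrank_perp U
    have h6 := finrank_span_one_le (F := F) e
    have h7 := finrank_span_two_le (F := F) u u'
    have h8 := Submodule.finrank_add_le_finrank_add_finrank (Submodule.span F {u, u'}) (S.perp U)
    rw [← hZ] at h8
    omega
  set v := g.1 v₀ with hv
  have hvs : S.Sing v := by simpa [hv]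
  have huv : S.h u v = 0 := by simpa [hue, hv]
  have hx : S.eich u v 0 ∈ H := by
    have := H.mul_mem (H.mul_mem hg (hH e he v₀ hv₀ 0 F₀.zero_mem)) (H.inv_mem hg)
    rwa [conj_eich] at this
  have hu0 : u ≠ 0 := by rintro h; simp [h] at c2
  have huZ : u ∈ Z := Submodule.mem_sup_left (Submodule.subset_span (by simp))
  have hu'Z : u' ∈ Z := Submodule.mem_sup_left (Submodule.subset_span (by simp))
  have hvu : v ∉ F ∙ u := fun h => hvZ ((Submodule.span_singleton_le_iff_mem _ _).2 huZ h)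
  let φ : V →ₗ[F] V := (S.h u).smulRight v - (S.h v).smulRight u
  have hφ : ∀ z, φ z = S.h u z • v - S.h v z • u := fun z => rfl
  have hker : ∀ z, φ z = 0 ↔ S.h u z = 0 ∧ S.h v z = 0 := fun z =>
    ⟨fun h => eq_zero_of_indep hu0 hvu h, fun h => by simp [hφ, h.1, h.2]⟩
  let ω : V → V → F := fun x y => S.h u x * S.h v y - S.h v x * S.h u y
  have ho : ∀ w ∈ U, ∀ w' ∈ U, OppRoot U φ (S.eich w w' 0).1 (-ω w w') := by
    intro w hw w' hw'
    refine ⟨fun y hy => eich_apply_of_perp_perp (hU.h_eq hw hy) (hU.h_eq hw' hy), fun y hy => ?_⟩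
    rw [eich_zero_apply hΛ (hU.1 w hw) (hU.1 w' hw') (hU.h_eq hw hw'), add_sub_cancel_left]
    refine ⟨U.sub_mem (U.smul_mem _ hw') (U.smul_mem _ hw), ?_⟩
    simp only [hφ, map_sub, map_smul, smul_eq_mul, hsy u w, hsy v w, hsy u w', hsy v w', ω]
    module
  have hperp : ∀ s t : F, (∀ y ∈ U, y ∈ V0 F₀ b → s * S.h v y = t * S.h u y) → s = 0 := by
    intro s t h
    by_contra hs0
    apply hvZ
    have : s • v - t • u ∈ S.perp U := by
      rw [S.mem_perp']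
      intro y hy
      exact hUr (LinearMap.ker (S.h (s • v - t • u))) (fun y hy hy0 => by
        simp [bot_σ hΛ, h y hy hy0]) hy
    have := Z.smul_mem s⁻¹ (Z.add_mem (Submodule.mem_sup_right this) (Z.smul_mem t huZ))
    simpa [smul_smul, hs0] using this
  have key : ∀ y ∈ U ⊓ LinearMap.ker φ, tau τ b y ∈ U ⊓ LinearMap.ker φ := by
    obtain ⟨w, hw, hw0, hω⟩ : ∃ w ∈ U, w ∈ V0 F₀ b ∧ ω e₂ w ≠ 0 := by
      by_contra hc
      push Not at hc
      exact c2 (hperp _ (S.h v e₂) fun y hy hy0 => sub_eq_zero.1 (hc y hy hy0))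
    by_cases hA : ∀ x ∈ U, x ∈ V0 F₀ b → ∀ y ∈ U, y ∈ V0 F₀ b → ω x y / ω e₂ w ∈ F₀
    · have k1 : ∀ y ∈ U, y ∈ V0 F₀ b → ∀ x ∈ U, ω (tau τ b x) y / ω e₂ w = τ (ω x y / ω e₂ w) := by
        intro y hy hy0
        let T : Submodule F V :=
          { carrier := {x | ω (tau τ b x) y / ω e₂ w = τ (ω x y / ω e₂ w)}
            add_mem' := fun {x x'} hx hx' => by
              simp only [Set.mem_setOf_eq] at hx hx' ⊢
              have : ∀ x x', ω (x + x') y = ω x y + ω x' y := fun x x' => by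
                simp only [ω, map_add]; ring
              rw [map_add, this, this, add_div, add_div, map_add, hx, hx']
            zero_mem' := by simp [ω]
            smul_mem' := fun c x hx => by
              simp only [Set.mem_setOf_eq] at hx ⊢
              have : ∀ (c : F) x, ω (c • x) y = c * ω x y := fun c x => by
                simp only [ω, map_smul, smul_eq_mul]; ring
              rw [tau_smul, this, this, mul_div_assoc, mul_div_assoc, map_mul, hx] }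
        exact hUr T fun x hx hx0 => by
          change ω (tau τ b x) y / ω e₂ w = τ (ω x y / ω e₂ w)
          rw [(tau_eq_self_iff hτ).2 hx0, (hτ _).2 (hA x hx hx0 y hy hy0)]
      rintro y ⟨hy, hy'⟩
      obtain ⟨d1, d2⟩ := (hker y).1 hy'
      have k2 : ∀ x ∈ U, x ∈ V0 F₀ b → ω (tau τ b y) x = 0 := fun x hx hx0 => by
        have := k1 x hx hx0 y hy
        simpa [ω, d1, d2, hω] using this
      have k3 := hperp _ _ fun x hx hx0 => sub_eq_zero.1 (k2 x hx hx0)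
      have k4 := k2 e₂ a2 b2
      simp only [ω, k3, zero_mul, zero_sub, neg_eq_zero, mul_eq_zero, c2, or_false] at k4
      exact ⟨hUr.tau_mem hτ hy, (hker _).2 ⟨k3, k4⟩⟩
    · push Not at hA
      obtain ⟨x, hx', hx0, y, hy, hy0, hxy⟩ := hA
      obtain ⟨v', hv'⟩ := tau_surjective (φ := τ) (b := b) v
      refine R.torus_lemma hS hH hB hτ hU hUr (by omega) φ
        (fun z => by simp [hφ, hus.h_self, hvs.h_self, huv, hsy u v]) hx
        (eich_zero_apply hΛ hus hvs huv) (hH _ hx0 _ hy0 0 F₀.zero_mem)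
        (hH _ b2 _ hw0 0 F₀.zero_mem) (ho x hx' y hy) (ho _ a2 w hw)
        (neg_ne_zero.2 fun h => hxy (by rw [h, zero_div]; exact F₀.zero_mem)) (neg_ne_zero.2 hω)
        (fun h => hxy (by rw [neg_inj.1 h, div_self hω]; exact F₀.one_mem)) ?_
      obtain ⟨y, d1, d2, d3⟩ := exists_mem_ker_notMem [S.h u, S.h v, S.h u', S.h v'] U ⊥
        (by simp; omega)
      simp only [List.mem_cons, List.not_mem_nil, or_false, forall_eq_or_imp, forall_eq] at d3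
      refine ⟨y, ⟨d1, (hker y).2 ⟨d3.1, d3.2.1⟩⟩, by simpa using d2, hUr.tau_mem hτ d1,
        (hker _).2 ⟨?_, ?_⟩⟩
      · rw [← hu', R.h_tau hτ hσ, d3.2.2.1, map_zero]
      · rw [← hv', R.h_tau hτ hσ, d3.2.2.2, map_zero]
  have hm : u' ∈ S.perp U ⊔ Submodule.span F {u, v} := by
    rw [← hS.perp_perp (Submodule.span F {u, v}), ← hS.perp_inf, S.mem_perp']
    rintro y ⟨hy, hy'⟩
    have := ((hker _).1 (key y ⟨hy, (hker y).2 (S.mem_perp_pair.1 hy')⟩).2).1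
    rw [← hu', R.h_tau hτ hσ] at this
    simpa using this
  obtain ⟨w, hw, z, hz, h1⟩ := Submodule.mem_sup.1 hm
  obtain ⟨α, γ, rfl⟩ := Submodule.mem_span_pair.1 hz
  have hγ : γ = 0 := by
    by_contra hγ
    apply hvZ
    have := Z.smul_mem γ⁻¹ (Z.sub_mem (Z.sub_mem hu'Z (Submodule.mem_sup_right hw))
      (Z.smul_mem α huZ))
    rw [← h1] at this
    simpa [smul_smul, hγ] using this
  have k : ∀ y ∈ U, y ∈ V0 F₀ b → S.h u y = τ α * τ (S.h u y) := fun y hy hy0 => by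
    conv_lhs => rw [← hu', ← (tau_eq_self_iff hτ).2 hy0, R.h_tau hτ hσ, ← h1]
    simp [hγ, S.mem_perp'.1 hw y hy, bot_σ hΛ]
  apply c3
  have k1 := k e₁ a1 b1
  have k2 := k e₂ a2 b2
  rw [← hτ, map_div₀, div_eq_div_iff (by simpa using c2) c2]
  linear_combination τ (S.h u e₁) * k2 - τ (S.h u e₂) * k1

omit R in
theorem exists_decomp_two (h2 : finrank F₀ F = 2) :
    ∃ ω : F, ∀ v : V, ∃ v₁ ∈ V0 F₀ b, ∃ v₂ ∈ V0 F₀ b, v = v₁ + ω • v₂ := by
  obtain ⟨ω, hω⟩ := exists_notMem_subfield (F₀ := F₀) (by rw [h2]; exact Nat.prime_two)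
  have h1 : ∀ c : F, ∃ c₁ ∈ F₀, ∃ c₂ ∈ F₀, c = c₁ + ω * c₂ := by
    intro c
    have hω' : ω ∉ F₀ ∙ (1 : F) := fun h => by
      obtain ⟨a, rfl⟩ := Submodule.mem_span_singleton.1 h
      exact hω (by simp [Subfield.smul_def])
    have : (F₀ ∙ (1 : F)) ⊔ F₀ ∙ ω = ⊤ := Submodule.eq_top_of_finrank_eq (by
      rw [Submodule.finrank_sup_span_singleton hω', finrank_span_singleton one_ne_zero, h2])
    obtain ⟨x, hx, y, hy, h⟩ := Submodule.mem_sup.1 (this ▸ Submodule.mem_top (x := c))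
    obtain ⟨a, rfl⟩ := Submodule.mem_span_singleton.1 hx
    obtain ⟨a', rfl⟩ := Submodule.mem_span_singleton.1 hy
    exact ⟨a, a.2, a', a'.2, by rw [← h]; simp [Subfield.smul_def, mul_comm]⟩
  choose c₁ h₁ c₂ h₂ h using h1
  refine ⟨ω, fun v => ⟨∑ i, c₁ (b.repr v i) • b i, (V0 F₀ b).sum_mem fun i _ =>
    V0_smul (h₁ _) (basis_mem_V0 i), ∑ i, c₂ (b.repr v i) • b i, (V0 F₀ b).sum_mem fun i _ =>
    V0_smul (h₂ _) (basis_mem_V0 i), ?_⟩⟩
  conv_lhs => rw [← b.sum_repr v]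
  rw [Finset.smul_sum, ← Finset.sum_add_distrib]
  refine Finset.sum_congr rfl fun i _ => ?_
  rw [smul_smul, ← add_smul, ← h]

theorem point_rat_two (hS : S.Nondeg) (hn : 9 ≤ finrank F V) (hH : HR F₀ b H)
    (hB : BR F₀ b H) {τ : F →+* F} (hτ : ∀ x, τ x = x ↔ x ∈ F₀) (h2 : finrank F₀ F = 2)
    {g : S.Isom} (hg : g ∈ H) {e : V} (he : e ∈ V0 F₀ b) (hs : S.Sing e) :
    tau τ b (g.1 e) ∈ F ∙ g.1 e := by
  obtain ⟨ω, hω⟩ := exists_decomp_two (b := b) h2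
  have key : ∀ e' ∈ V0 F₀ b, ∀ z ∈ V0 F₀ b, (S.eich (g.1 e) (g.1 e') 0).1 z ∈ V0 F₀ b := by
    intro e' he' z hz
    obtain ⟨u₁, a1, u₂, a2, hu⟩ := hω (g.1 e)
    obtain ⟨v₁, a3, v₂, a4, hv⟩ := hω (g.1 e')
    have hl : ∀ x ∈ [u₁, u₂, v₁, v₂], x ∈ V0 F₀ b := by simp [a1, a2, a3, a4]
    have hf : ∀ w, (∀ x ∈ [u₁, u₂, v₁, v₂], S.h x w = 0) →
        (S.eich (g.1 e) (g.1 e') 0).1 w = w := fun w hw => by
      simp only [List.mem_cons, List.not_mem_nil, or_false, forall_eq_or_imp, forall_eq] at hw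
      exact eich_apply_of_perp_perp (by simp [hu, hw.1, hw.2.1]) (by simp [hv, hw.2.2.1, hw.2.2.2])
    obtain ⟨e₁, b1, s1, c1, i1⟩ := R.exists_sing0 hS _ [] hl (by simp) (by simp; omega)
    obtain ⟨e₂, b2, s2, c2, i2⟩ := R.exists_sing0 hS _ [e₁] hl (by simpa) (by simp; omega)
    obtain ⟨e₃, b3, s3, c3, i3⟩ := R.exists_sing0 hS _ [e₁, e₂] hl (by simp [b1, b2])
      (by simp; omega)
    refine R.rat3 hS hH hB b1 b2 b3 s1 s2 s3 (ne_zero_of_notMem i1) (notMem_span_one.1 i2)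
      (notMem_span_two.1 i3) ?_ (hf _ c1) (hf _ c2) (hf _ c3) hz
    rw [← conj_eich]
    exact H.mul_mem (H.mul_mem hg (hH e he e' he' 0 F₀.zero_mem)) (H.inv_mem hg)
  obtain ⟨e', b1, s1, c1, i1⟩ := R.exists_sing0 hS [e] [e] (by simpa) (by simpa) (by simp; omega)
  obtain ⟨e'', b2, s2, c2, i2⟩ := R.exists_sing0 hS [e] [e, e'] (by simpa) (by simp [he, b1])
    (by simp; omega)
  exact tau_mem_of_eich_two hS hτ g hs s1 s2 (c1 e (by simp)) (c2 e (by simp))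
    (notMem_span_one.1 i1) (notMem_span_two.1 i2) (key e' b1) (key e'' b2)

theorem final (hS : S.Nondeg) (hn : 11 ≤ finrank F V) (hr : (finrank F₀ F).Prime)
    (hc : finrank F₀ F = 2 ∨ P.Λ = ⊥ ∨ ((∃ a, a ≠ 0 ∧ a ∈ F₀ ∧ a ∈ P.Λ) ∧
      (σ = RingHom.id F ∨ ∃ θ ∈ F₀, σ θ ≠ θ))) (hH : HR F₀ b H) :
    S.E ≤ H ∨ ∀ g ∈ H, ∃ c : F, c ≠ 0 ∧ ∀ x ∈ V0 F₀ b, c⁻¹ • g.1 x ∈ V0 F₀ b := by
  refine (R.dichotomy hS (by omega) hr hH).imp_right fun hB g hg => ?_
  obtain ⟨τ, hτ, hσ⟩ := exists_frob_sub F₀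
  refine R.exists_scale hS (by omega) g.1 fun e he hs => exists_rat_of_tau hτ ?_
  rcases hc with h | h | ⟨⟨a, h1, h2, h3⟩, h4⟩
  · exact R.point_rat_two hS (by omega) hH hB hτ h hg he hs
  · exact R.point_rat_orth hS hn hH hB hτ (hσ σ) h hg he hs
  · exact R.point_rat_transv hS hn hH hB hτ (hσ σ) h1 h2 h3 h4 hg he hs

theorem exists_E_irr (hS : S.Nondeg) (hn : 5 ≤ finrank F V) (hr : (finrank F₀ F).Prime) :
    ∃ g ∈ S.E, ¬ ∃ c : F, c ≠ 0 ∧ ∀ x ∈ V0 F₀ b, c⁻¹ • g.1 x ∈ V0 F₀ b := by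
  obtain ⟨l, hl⟩ := exists_notMem_subfield hr
  obtain ⟨e, he, hs, -, he0⟩ := R.exists_sing0 hS [] [] (by simp) (by simp) (by simp; omega)
  obtain ⟨f, hf, -, -, hef⟩ := R.exists_partner0 hS [] (by simp) he hs he0 (by simp)
  replace he0 := ne_zero_of_notMem he0
  obtain ⟨w, hw, hws, h1, hwe⟩ := R.exists_sing0 hS [e] [e] (by simpa) (by simpa) (by simp; omega)
  simp only [List.mem_cons, List.not_mem_nil, or_false, forall_eq] at h1
  refine ⟨S.eich e (l • w) 0, S.eich_mem_E _ _ _, ?_⟩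
  rintro ⟨c, hc, h⟩
  have h2 := h e he
  rw [eich_apply_self] at h2
  have h3 := mem_of_smul_mem_V0 he he0 h2
  have h4 := V0_smul (F₀.inv_mem h3) (h f hf)
  rw [smul_smul, inv_inv, mul_inv_cancel₀ hc, one_smul,
    eich_apply (econd_zero hs (hws.smul l) (by simp [h1])), hef, one_smul] at h4
  obtain ⟨y, hy, a1, a2⟩ := R.exists_dual hS [e] (by simpa) hw hwe
  have h5 := F₀.sub_mem (R.h_mem y hy _ h4) (R.h_mem y hy f hf)
  simp [a1 e (by simp), a2] at h5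
  exact hl h5

end Rat

end H29
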